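import Cfsg.Agent.H355.PQ.CoreUse_m3
import Cfsg.Agent.H61.PQ.NegOne_m3
import Cfsg.Agent.H996.Eight.Kq
import Cfsg.Agent.H137.PQ.RowReeA
import Cfsg.Agent.H996.PQ.BigSum_m3
import Cfsg.Agent.Nodes.RGDTwActE6
import Cfsg.Agent.ChevalleyStructure.HMatDiagAll
import Cfsg.Agent.KFacts.RgdRigid
import Cfsg.Agent.H61.PQ.Cd2_m3
import Cfsg.Agent.H766.PQ.A01_m3
import Cfsg.Agent.Nodes.RGDTwNode
import Cfsg.Agent.ChevalleyStructure.TwE6Basic
import Cfsg.Agent.ChevalleyStructure.D4H1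
import Cfsg.Agent.H477.HC.Arith_m3
import Cfsg.Agent.ClassicalGeometry.UnitTransv
import Cfsg.Agent.H990.PQ.Core
import Cfsg.Agent.H947.PQ.Own_m3
import Cfsg.Agent.H722.HC.PrPlus
import Cfsg.Agent.H934.Eight.RealSix_m3
import Cfsg.Agent.H806.PQ.Ru
import Cfsg.Agent.H322.Cent.Uni
import Cfsg.Agent.H394.PBTools_m3
import Cfsg.Agent.LieClassical.SUBasic
import Mathlib
import Cfsg.Agent.H749.TwoMinus
import Cfsg.Agent.H724.UThree
import Cfsg.Agent.S0157
import Cfsg.Agent.S0278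
import Cfsg.Agent.H452.Singer
import Cfsg.Agent.FastGrp
import Cfsg.Agent.Prune
set_option linter.all false

section
prune_inst 0x7fbca9f8a9a801dfdfff7e37a6d8cffc10800fffa6dff9433fe0218f0bdf030009c56b850de010fe0e82c21410b87813fbffeeffe06bdc7ffffd5ff41ffbee0fa5e7b508119080240f340fff03f0778a7f3fffffffffdfffffffffffffffffbeffbdffffffff

-- part: H594/PQ/KillE8
section
prune_inst 0x20000000000000000000000000000000
set_option linter.all false
open scoped Cfsg.Agent.FastGrp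

/-!
# S4612, `E₈`: the orders `4, 12`, `8, 24` and `5, 15` (helper594; on the assembly of helper154)

`35` (node `7`) is in the principal `l`-block for `l ∣ Phi 12 (q)` or `Phi 24 (q)`, `567` (node `6`) has defect zero for
`l`, and `35`, `567` are in the same `p`-block for `p ∣ Phi 4 (q)` resp. `Phi 8 (q)`.
-/

set_option autoImplicit false
set_option maxRecDepth 20000

namespace Cfsg.Agent.H594.PQ.KillE8

open Cfsg Cfsg.Agent.H967.Sph Cfsg.Agent.H317.PQ Cfsg.Agent.Blocks.Basic Cfsg.Agent.Blocks.Local Cfsg.Agent.H64.Dl.Sph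
  Cfsg.Agent.H996.Eight Cfsg.Agent.H996.Eight.Cert Cfsg.Agent.H996.PQ Cfsg.Agent.H632.PQ.Arith Cfsg.Agent.H154.PQE8
  Cfsg.Agent.H790.PQ
open CoxeterSystem Cfsg.Agent.ChevalleyStructure.CoxeterGeom Cfsg.Agent.Tits.Roots Cfsg.Agent.Tits.Core
  Cfsg.Agent.Nodes.Reps Cfsg.Agent.Nodes.BNOf Cfsg.Agent.Nodes.Bruhat Cfsg.Agent.Nodes.LeviDec
open Cfsg.Lie Cfsg.Agent.ChevalleyStructure Cfsg.Agent.ChevalleyStructure.CoxeterGeomTypes Cfsg.Agent.Nodes.RGDChev
  Cfsg.Agent.H35.ExcIdx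

universe u

variable {W : Type*} {Y : Type u} [Group W] [Finite W] [Group Y] [Finite Y]
    {M : CoxeterMatrix (Fin 8)} {cs : CoxeterSystem M W} {A : Fin 8 → Fin 8 → ℤ} {h : IsCartan M A} {p : ℕ}
    {T : Subgroup Y} {n : Fin 8 → Y} {X : (Fin 8 → ℤ) → Subgroup Y}

theorem lam35_ok : ∀ c, pEq (pMul (FullE8a.lam 2 c) (TabE8a.c2.nu 0)) (pMul (TabE8a.data.kk c) (TabE8a.c2.nu c)) = true := by
  (simp only [Cfsg.Agent.H996.Eight.Kq.pEq_eq]; decide +kernel)

/-- **Type `E₈`, the orders `5` and `15`.** -/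
theorem kill_E8_5_15 (K : Type u) [Field K] [Fintype K] : Kill ↥(chevE8.group K) (Fintype.card K) 5 15 :=
  kill_E8_515 K

/-! ### the orders `4` and `12` -/

/-- the quotients by `Phi 12` for `35` -/
def quo12 (c : Fin 5) : List ℤ := ([[], [-1, -1, -2, -2, -2, -3, -2, -3, -2, -2, -2, -1, -2, -1, -2, -2, -2, -3, -2, -3, -2, -2, -2, -1, -1], [0, 0, 0, 0, 0, 1, 0, 1, 0, 0, -1, -2, -3, -4, -5, -5, -6, -5, -6, -5, -5, -5, -5, -6, -6, -7, -7, -7, -7, -7, -6, -6, -5, -5, -4, -4, -3, -3, -2, -2, -1, -1], [0, 0, 0, 0, 0, 0, 0, 0, 0, 0, 0, 0, 0, 0, 1, 1, 2, 2, 2, 2, 1, 1, 0, 0, -1, -1, -1, -1, -1, -1, -1, -1, -1, -2, -2, -3, -3, -3, -4, -3, -4, -3, -3, -3, -2, -3, -2, -3, -2, -2, -2, -1, -1], [0, 0, 0, 0, 0, 0, 0, 0, 0, 0, 0, 0, 0, 0, 0, 0, 0, 0, 0, 0, 0, 0, 0, 0, 0, 0, 0, 0, 0, 0, 0, 0, 0, 1, 0, 1, 0, 0, 0, -1, 0, -1, 0, 0, 0, 1, 0, 1, 0, 0, 0, -1, 0, -1]] : List (List ℤ)).getD c []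

theorem quo12_ok : ∀ c, pEq (pAdd (FullE8a.lam 2 c) (pNeg (TabE8a.data.kk c))) (pMul (Phi 12) (quo12 c)) = true := by
  (simp only [Cfsg.Agent.H996.Eight.Kq.pEq_eq]; decide +kernel)

/-- certificate of defect zero of `567` -/
def dz12 : DzC 1 :=
  ⟨12, 0, [12], [0, 0, 0, 0, 0, 0, 1, 0, 3, 0, 5, 0, 6, 0, 7, 0, 10, 0, 15, 0, 19, 0, 21, 0, 22, 0, 25, 0, 30, 0, 34, 0, 35, 0, 34, 0, 33, 0, 34, 0, 35, 0, 34, 0, 30, 0, 25, 0, 22, 0, 21, 0, 19, 0, 15, 0, 10, 0, 7, 0, 6, 0, 5, 0, 3, 0, 1], [(1, 1, [0, 0, -1, -1], [1]), (2, 1, [0, 0, 1, -1], [1]), (3, 2, [2, -1, -1, 1], [0, -1]), (4, 3, [2, 0, -1], [1]), (5, 1, [2, -1, -2, 2], [-1, -1, 0, -2]), (6, 2, [2, 1, -1, -1], [0, 1]), (7, 1, [-1, 0, 2, -2], [2, 1, 1, 2, 0, 2]), (8, 1, [1, 0, -1], [0, 0, 1]), (9, 1, [0, 0, 0, -1], [1, 0, 1, 1, 0, 1]), (10, 1, [2, 1, -2, -2], [-1, 1, 0, 2]), (14, 1, [-1, 0, 2, 2], [2, -1, 1, -2, 0, -2]), (15, 1, [0, 1, 2, 1], [1, -1, 0, 0, -1, 0, -1, -1]), (18,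 1, [0, 0, 0, 1], [1, 0, 1, -1, 0, -1]), (20, 1, [0, 0, 1], [1, 0, 0, 0, 0, 0, -1]), (24, 2, [0, 0, 1], [2, 0, 1, 0, -1, 0, -1]), (30, 1, [0, -1, 2, -1], [1, 1, 0, 0, -1, 0, -1, 1])]⟩

theorem dz12_ok : dz12.ok (polOf E567.C) od = true := by decide +kernel

theorem not_same_4_12 (R : RGD cs h p T n X) (hG : GG cs h T X = ⊤) (hA : A = TabE8c.A) {x : ℕ} (hx : 2 ≤ x)
    (hq : ∀ i, Nat.card (X (sr i)) = x) {p' l' : ℕ} (hp : p'.Prime) (hp2 : p' ≠ 2) (hl : l'.Prime) (hl2 : l' ≠ 2)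
    (he : ord x p' = 4) (hf : ord x l' = 12) (hlY : l' ∣ Nat.card Y)
    (hgd : ((Nat.card Y : ℕ) : ℤ) ∣ (x : ℤ) ^ 120 * (od.map fun d => evZ x (Phi d.1) ^ d.2).prod) :
    ¬ Same p' l' Y := by
  subst hA
  have hx' : (2 : ℚ) ≤ (x : ℚ) := by exact_mod_cast hx
  have hdz : (Nat.card Y).factorization l' ≤ (val E567.C.den E567.C.dn x).factorization l' := by
    have hdeg : ∀ i, ((polOf E567.C).den i : ℤ) * ((polOf E567.C).deg x i : ℤ) = evZ x ((polOf E567.C).dn i) := by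
      intro i
      have h1 := val_spec E567.ok.2.2.2.2 E567.dvd E567.ok.2.1 hx
      have h2 := evZ_cast (x : ℤ) E567.C.dn
      push_cast at h2
      rw [← h2] at h1
      exact_mod_cast h1
    exact DzC.spec dz12_ok hx hdeg Nat.card_pos.ne' hgd hl hl2 hf
  refine H154.PQE8.not_same R hG data7 TabE8c.data hx (fun i => ?_) (fun i => ?_) cls7 cls_o TabE8a.c2
    (ok1_of_ok TabE8a.ok2) (uq_of_ok TabE8a.ok2) TabE8a.dvd2 E567.C E567.ok E567.uq E567.dvd lam35_ok hp hl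
    (fun c => ?_) hlY hdz ?_
  · have h9 : ∀ i, TabE8a.data.e i = 1 := by decide +kernel
    rw [hq, show data7.e i = 1 from h9 i, pow_one]
  · rw [hq, e_eq, pow_one]
  · have h1 := evZ_of_pEq (x : ℤ) (quo12_ok c)
    rw [evZ_pAdd, evZ_pNeg, evZ_pMul] at h1
    rw [sub_eq_add_neg]
    show (l' : ℤ) ∣ evZ x (FullE8a.lam 2 c) + -evZ x (TabE8a.data.kk c)
    rw [h1]
    exact (dvd_Phi hl hf (by decide)).mul_right _
  · intro χ χ' H H' M' hM
    have hnu : ev (x : ℚ) (TabE8a.c2.nu 0) ≠ 0 := (ev_pos hx' pos35).ne'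
    exact same_35_567_four R hG hx hq H (r := (ev (x : ℚ) (TabE8a.c2.nu 0))⁻¹) (inv_ne_zero hnu)
      (fun c => by rw [sphC, div_eq_inv_mul]) H' (fun c => ha567 hx c) hp hp2 (dvd_Phi hp he (by decide)) hM

/-- **Type `E₈`, the orders `4` and `12`.** -/
theorem kill_E8_4_12 (K : Type u) [Field K] [Fintype K] : Kill ↥(chevE8.group K) (Fintype.card K) 4 12 := by
  intro p' l' hp' hl' hp2 hl2 _ _ hlG he' hf'
  obtain ⟨r, hr⟩ := CharP.exists K
  have : Fact r.Prime := ⟨CharP.char_is_prime K r⟩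
  have := finite_W hpE8 CoxeterMatrix.E₈.toCoxeterSystem
  have := finite_group chevE8 K
  have hA : cartanOf chevE8 8 = TabE8c.A := by
    funext i k
    revert i k
    decide +kernel
  exact not_same_4_12 (rgd (K := K) hpE8 CoxeterMatrix.E₈.toCoxeterSystem r)
    (GG_eq_top hpE8 K CoxeterMatrix.E₈.toCoxeterSystem) hA Fintype.one_lt_card
    (fun i => by rw [card_XX hpE8 K CoxeterMatrix.E₈.toCoxeterSystem (isRoot_sr _ _ i), Nat.card_eq_fintype_card])
    hp' hp2 hl' hl2 he' hf' hlG (card_dvd K)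

/-! ### the orders `8` and `24` -/

/-- the quotients by `Phi 24` for `35` -/
def quo24 (c : Fin 5) : List ℤ := ([[], [-1, -1, -1, -1, -2, -3, -3, -3, -3, -4, -4, -4, -3, -3, -3, -3, -2, -1, -1, -1, -1], [0, 0, 0, 0, 0, 1, 0, 0, 0, 1, -1, -1, -2, -2, -4, -4, -6, -7, -8, -8, -9, -10, -10, -10, -9, -9, -8, -8, -6, -6, -4, -4, -3, -3, -1, -1, -1, -1], [0, 0, 0, 0, 0, 0, 0, 0, 0, 0, 0, 0, 0, 0, 1, 1, 1, 1, 2, 2, 2, 2, 2, 2, 1, 1, 0, 0, -2, -2, -3, -3, -4, -5, -5, -5, -4, -5, -5, -5, -3, -3, -3, -3, -2, -1, -1, -1, -1], [0, 0, 0, 0, 0, 0, 0, 0, 0, 0, 0, 0, 0, 0, 0, 0, 0, 0, 0, 0, 0, 0, 0, 0, 0, 0, 0, 0, 0, 0, 0, 0, 0, 1, 0, 0, 0, 1, 0, 0, 0, 0, 0, 0, 0, -1, 0, 0, 0, -1]] : List (List ℤ)).getD c []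

theorem quo24_ok : ∀ c, pEq (pAdd (FullE8a.lam 2 c) (pNeg (TabE8a.data.kk c))) (pMul (Phi 24) (quo24 c)) = true := by
  (simp only [Cfsg.Agent.H996.Eight.Kq.pEq_eq]; decide +kernel)

/-- certificate of defect zero of `567` -/
def dz24 : DzC 1 :=
  ⟨24, 0, [24], [0, 0, 0, 0, 0, 0, 1, 0, 1, 0, 3, 0, 4, 0, 7, 0, 10, 0, 13, 0, 17, 0, 21, 0, 24, 0, 29, 0, 30, 0, 34, 0, 35, 0, 36, 0, 37, 0, 36, 0, 35, 0, 34, 0, 30, 0, 29, 0, 24, 0, 21, 0, 17, 0, 13, 0, 10, 0, 7, 0, 4, 0, 3, 0, 1, 0, 1], [(1, 1, [0, 0, 0, 0, -1, -1, -1, -1], [1]), (2, 1, [0, 0, 0, 0, 1, -1, 1, -1], [1]), (3, 2, [1, -2, 1, 1, -1, 1, 0, -1], [1, 1]), (4, 1, [0, 0, 0, 0, 1, 0, -1], [1]), (5, 1, [2, 0, -1, -1, -1, 1, 1], [-1, -2, -1]), (6, 2, [1, 2, 1, -1, -1, -1, 0, 1], [1, -1]), (7, 1, [1, 1, -1, -1, 1, -1, -1, 2], [0, -2, -1, 0, -1, -2]), (8, 3, [2, 0, 0, 0, -1], [1]), (9, 1, [1, -1, 0, 0, 0, 1, -1], [0, 1, 0, -1, 1]), (10, 1, [2, 0, -1, 1, -1, -1, 1], [-1, 2, -1]),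 (12, 2, [2, 0, 1, 0, -1, 0, -1], [0, 0, 1]), (14, 1, [1, -1, -1, 1, 1, 1, -1, -2], [0, 2, -1, 0, -1, 2]), (15, 1, [0, 1, 0, 0, 0, -1, 0, -1], [1, -1, 1, 0, 0, 1, -1, 1]), (18, 1, [1, 1, 0, 0, 0, -1, -1], [0, -1, 0, 1, 1]), (20, 1, [2, 0, 1, 0, -2, 0, -2], [-1, 0, 1, 0, 0, 0, 2]), (30, 1, [0, -1, 0, 0, 0, 1, 0, 1], [1, 1, 1, 0, 0, -1, -1, -1])]⟩

theorem dz24_ok : dz24.ok (polOf E567.C) od = true := by decide +kernel

theorem not_same_8_24 (R : RGD cs h p T n X) (hG : GG cs h T X = ⊤) (hA : A = TabE8c.A) {x : ℕ} (hx : 2 ≤ x)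
    (hq : ∀ i, Nat.card (X (sr i)) = x) {p' l' : ℕ} (hp : p'.Prime) (hp2 : p' ≠ 2) (hl : l'.Prime) (hl2 : l' ≠ 2)
    (he : ord x p' = 8) (hf : ord x l' = 24) (hlY : l' ∣ Nat.card Y)
    (hgd : ((Nat.card Y : ℕ) : ℤ) ∣ (x : ℤ) ^ 120 * (od.map fun d => evZ x (Phi d.1) ^ d.2).prod) :
    ¬ Same p' l' Y := by
  subst hA
  have hx' : (2 : ℚ) ≤ (x : ℚ) := by exact_mod_cast hx
  have hdz : (Nat.card Y).factorization l' ≤ (val E567.C.den E567.C.dn x).factorization l' := by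
    have hdeg : ∀ i, ((polOf E567.C).den i : ℤ) * ((polOf E567.C).deg x i : ℤ) = evZ x ((polOf E567.C).dn i) := by
      intro i
      have h1 := val_spec E567.ok.2.2.2.2 E567.dvd E567.ok.2.1 hx
      have h2 := evZ_cast (x : ℤ) E567.C.dn
      push_cast at h2
      rw [← h2] at h1
      exact_mod_cast h1
    exact DzC.spec dz24_ok hx hdeg Nat.card_pos.ne' hgd hl hl2 hf
  refine H154.PQE8.not_same R hG data7 TabE8c.data hx (fun i => ?_) (fun i => ?_) cls7 cls_o TabE8a.c2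
    (ok1_of_ok TabE8a.ok2) (uq_of_ok TabE8a.ok2) TabE8a.dvd2 E567.C E567.ok E567.uq E567.dvd lam35_ok hp hl
    (fun c => ?_) hlY hdz ?_
  · have h9 : ∀ i, TabE8a.data.e i = 1 := by decide +kernel
    rw [hq, show data7.e i = 1 from h9 i, pow_one]
  · rw [hq, e_eq, pow_one]
  · have h1 := evZ_of_pEq (x : ℤ) (quo24_ok c)
    rw [evZ_pAdd, evZ_pNeg, evZ_pMul] at h1
    rw [sub_eq_add_neg]
    show (l' : ℤ) ∣ evZ x (FullE8a.lam 2 c) + -evZ x (TabE8a.data.kk c)
    rw [h1]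
    exact (dvd_Phi hl hf (by decide)).mul_right _
  · intro χ χ' H H' M' hM
    have hnu : ev (x : ℚ) (TabE8a.c2.nu 0) ≠ 0 := (ev_pos hx' pos35).ne'
    exact same_35_567_eight R hG hx hq H (r := (ev (x : ℚ) (TabE8a.c2.nu 0))⁻¹) (inv_ne_zero hnu)
      (fun c => by rw [sphC, div_eq_inv_mul]) H' (fun c => ha567 hx c) hp hp2 (dvd_Phi hp he (by decide)) hM

/-- **Type `E₈`, the orders `8` and `24`.** -/
theorem kill_E8_8_24 (K : Type u) [Field K] [Fintype K] : Kill ↥(chevE8.group K) (Fintype.card K) 8 24 := by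
  intro p' l' hp' hl' hp2 hl2 _ _ hlG he' hf'
  obtain ⟨r, hr⟩ := CharP.exists K
  have : Fact r.Prime := ⟨CharP.char_is_prime K r⟩
  have := finite_W hpE8 CoxeterMatrix.E₈.toCoxeterSystem
  have := finite_group chevE8 K
  have hA : cartanOf chevE8 8 = TabE8c.A := by
    funext i k
    revert i k
    decide +kernel
  exact not_same_8_24 (rgd (K := K) hpE8 CoxeterMatrix.E₈.toCoxeterSystem r)
    (GG_eq_top hpE8 K CoxeterMatrix.E₈.toCoxeterSystem) hA Fintype.one_lt_card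
    (fun i => by rw [card_XX hpE8 K CoxeterMatrix.E₈.toCoxeterSystem (isRoot_sr _ _ i), Nat.card_eq_fintype_card])
    hp' hp2 hl' hl2 he' hf' hlG (card_dvd K)

end Cfsg.Agent.H594.PQ.KillE8
end

-- part: H632/PQ/Mackey
section
prune_inst 0x20000000000000000000000000000000
set_option linter.all false
open scoped Cfsg.Agent.FastGrp

/-!
# S4612, linear characters of the parabolic subgroup normalising the highest root group (helper632)

`R : RGD cs h r T n X` on the finite group `Y`, `α₀` the highest root, `X α₀ = {x a | a ∈ F}`, `t x(a) t⁻¹ = x (χ t a)`.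
`not_same_of_PJ` : the test for a homomorphism `lam : P_J →* C`, any parabolic subgroup `P_J`;
`not_same_of_rgd` : `Same p l Y` is false if `z ∈ T` is a `p`-element with `p ∣ orderOf (χ z)`, centralising `T` and the
root groups orthogonal to `α₀`, and the scalars of `T` on `X α₀` and on the other conjugates of `X α₀` differ modulo the
elements of order prime to `p`.
-/

set_option autoImplicit false
set_option linter.unusedSectionVars false

namespace Cfsg.Agent.H632.PQ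

open Cfsg.Agent.H317.PQ
open Cfsg Cfsg.Agent.H967.Sph Cfsg.Agent.H996.PQ
open CoxeterSystem Cfsg.Agent.ChevalleyStructure.CoxeterGeom Cfsg.Agent.Tits.Roots Cfsg.Agent.Tits.Core
  Cfsg.Agent.Tits.Exchange Cfsg.Agent.Nodes.Reps Cfsg.Agent.Nodes.BNOf Cfsg.Agent.Nodes.StabComb Cfsg.Agent.Nodes.Bruhat
  Cfsg.Agent.Nodes.OppDec Cfsg.Agent.Nodes.LeviDec Cfsg.Agent.H89.PQX

universe u v

/-! ### Parabolic subgroups -/

section Par

variable {I W : Type*} {Y : Type u} [Fintype I] [DecidableEq I] [Group W] [Finite W] [Group Y]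
    {M : CoxeterMatrix I} {cs : CoxeterSystem M W} {A : I → I → ℤ} {h : IsCartan M A} {r : ℕ} {T : Subgroup Y}
    {n : I → Y} {X : (I → ℤ) → Subgroup Y} (R : RGD cs h r T n X)

include R

theorem T_le_PJ (J : Set I) : T ≤ PJ cs h T X J := RGD.T_le_B.trans B_le_PJ

/-- representatives normalise `T` -/
theorem conj_mem_T {w : W} {k : Y} (hk : Rp cs R.nsys w k) {t : Y} (ht : t ∈ T) : k⁻¹ * t * k ∈ T := by
  have h1 := Subgroup.mem_normalizer_iff.1 (inv_mem hk.mem_normalizer) t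
  rw [inv_inv] at h1
  exact h1.1 ht

/-- **linear characters of `P_J`** -/
theorem not_same_of_PJ [Finite Y] [hrf : Fact r.Prime] {p l : ℕ} (hp : p.Prime) (hl : l.Prime)
    (hpl : p ≠ l) (hrl : r ≠ l) (hG : GG cs h T X = ⊤) (J : Set I) {C : Type*} [CommGroup C] [Finite C] [IsCyclic C]
    (lam : ↥(PJ cs h T X J) →* C)
    (hm : ∀ w : W, w ∉ WJ cs J → ∀ k, ∀ hk : Rp cs R.nsys w k, ∃ (t : Y) (ht : t ∈ T),
      p ∣ orderOf (lam ⟨t, T_le_PJ R J ht⟩ / lam ⟨k⁻¹ * t * k, T_le_PJ R J (conj_mem_T R hk ht)⟩))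
    {z : Y} (hzT : z ∈ T) (hcT : ∀ t ∈ T, t * z = z * t)
    (hcX : ∀ y ∈ RootsJ cs h J, ∀ a ∈ X y, a * z = z * a) (hzp : p ∣ orderOf (lam ⟨z, T_le_PJ R J hzT⟩)) :
    ¬ Same p l Y := by
  have hBP : RGD.B cs h T X ≤ PJ cs h T X J := B_le_PJ
  have hTP : T ≤ PJ cs h T X J := RGD.T_le_B.trans hBP
  -- the unipotent radical
  set V := VJ cs h X J with hV
  have hVn : (V.subgroupOf (PJ cs h T X J)).Normal := by
    refine ⟨fun v hv g => ?_⟩
    rw [Subgroup.mem_subgroupOf] at hv ⊢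
    exact (Subgroup.mem_normalizer_iff.1 (PJ_le_normalizer_VJ R _ g.2) _).1 hv
  have hVp : IsPGroup r ↥V := (R.isPGroup_Upos).to_le (VJ_le_U _)
  have hVp' : IsPGroup r ↥(V.subgroupOf (PJ cs h T X J)) := by
    refine hVp.of_injective (Subgroup.subgroupOfEquivOfLe (VJ_le_PJ : V ≤ PJ cs h T X J)).toMonoidHom ?_
    exact (Subgroup.subgroupOfEquivOfLe (VJ_le_PJ : V ≤ PJ cs h T X J)).injective
  -- `z` centralises the Levi subgroup
  have hzL : ∀ g ∈ LJ cs h T X J, g * z = z * g := by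
    have h1 : LJ cs h T X J ≤ Subgroup.centralizer {z} := by
      refine sup_le (fun t ht => ?_) (RGD.Sup_le fun y hy a ha => ?_)
      · rw [Subgroup.mem_centralizer_singleton_iff]; exact hcT t ht
      · rw [Subgroup.mem_centralizer_singleton_iff]
        exact hcX y hy a ha
    intro g hg
    exact Subgroup.mem_centralizer_singleton_iff.1 (h1 hg)
  have hzP : z ∈ PJ cs h T X J := hTP hzT
  refine not_same' hp hl hpl hrl (PJ cs h T X J) lam ?_ (V.subgroupOf (PJ cs h T X J)) hVp' ⟨z, hzP⟩ ?_ hzp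
  · -- Mackey
    intro g hg
    obtain ⟨b₁, hb₁, k, hk, b₂, hb₂, e⟩ := cell_wOf R hG g
    set w := wOf R hG g with hwd
    have hw : w ∉ WJ cs J := by
      intro hw
      apply hg
      rw [mem_PJ_iff_cell R]
      exact ⟨w, hw, cell_wOf R hG g⟩
    obtain ⟨t, ht, hd⟩ := hm w hw k hk
    have hkt : k⁻¹ * t * k ∈ T := conj_mem_T R hk ht
    have h1 : b₁ * t * b₁⁻¹ ∈ PJ cs h T X J := mul_mem (mul_mem (hBP hb₁) (hTP ht)) (inv_mem (hBP hb₁))
    have e2 : g⁻¹ * (b₁ * t * b₁⁻¹) * g = b₂⁻¹ * (k⁻¹ * t * k) * b₂ := by rw [e]; group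
    have h2 : g⁻¹ * (b₁ * t * b₁⁻¹) * g ∈ PJ cs h T X J := by
      rw [e2]
      exact mul_mem (mul_mem (inv_mem (hBP hb₂)) (hTP hkt)) (hBP hb₂)
    refine ⟨⟨_, h1⟩, h2, ?_⟩
    have h3 : lam ⟨_, h1⟩ = lam ⟨t, hTP ht⟩ := by
      have h4 : (⟨_, h1⟩ : ↥(PJ cs h T X J)) = ⟨b₁, hBP hb₁⟩ * ⟨t, hTP ht⟩ * ⟨b₁, hBP hb₁⟩⁻¹ := rfl
      rw [h4, map_mul, map_mul, map_inv, mul_comm (lam ⟨b₁, _⟩), mul_inv_cancel_right]
    have h5 : lam ⟨_, h2⟩ = lam ⟨_, hTP hkt⟩ := by
      have h4 : (⟨_, h2⟩ : ↥(PJ cs h T X J)) = ⟨b₂, hBP hb₂⟩⁻¹ * ⟨_, hTP hkt⟩ * ⟨b₂, hBP hb₂⟩ := Subtype.ext e2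
      rw [h4, map_mul, map_mul, map_inv, mul_comm (lam ⟨b₂, _⟩)⁻¹, inv_mul_cancel_right]
    show p ∣ orderOf (lam ⟨_, h1⟩ / lam ⟨_, h2⟩)
    rw [h3, h5]
    exact hd
  · rintro ⟨g, hg⟩
    rw [Subgroup.mem_subgroupOf]
    show g * z * g⁻¹ * z⁻¹ ∈ V
    obtain ⟨q, hq, v, hv, rfl⟩ := (mem_PJ R).1 hg
    have h1 : q * v * z * (q * v)⁻¹ * z⁻¹ = q * (v * (z * v⁻¹ * z⁻¹)) * q⁻¹ := by
      have h2 : z * q = q * z := (hzL q hq).symm
      have h3 : q⁻¹ * z⁻¹ = z⁻¹ * q⁻¹ := by rw [← mul_inv_rev, ← mul_inv_rev, h2]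
      calc q * v * z * (q * v)⁻¹ * z⁻¹ = q * v * z * v⁻¹ * (q⁻¹ * z⁻¹) := by group
        _ = q * (v * (z * v⁻¹ * z⁻¹)) * q⁻¹ := by rw [h3]; group
    rw [h1]
    have h4 : z * v⁻¹ * z⁻¹ ∈ V := (Subgroup.mem_normalizer_iff.1 (PJ_le_normalizer_VJ R _ hzP) _).1 (inv_mem hv)
    exact (Subgroup.mem_normalizer_iff.1 (LJ_le_normalizer_VJ R _ hq) _).1 (mul_mem hv h4)

end Par

/-! ### Scalars -/

section Scal

variable {Y : Type u} [Group Y] {F : Type v} [Field F] (x : F → Y)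

/-- the elements acting on the elements `x a` as scalars -/
def scal : Subgroup Y where
  carrier := {g | ∃ c : Fˣ, ∀ a, g * x a * g⁻¹ = x (c * a)}
  mul_mem' := by
    rintro g k ⟨c, hc⟩ ⟨d, hd⟩
    refine ⟨c * d, fun a => ?_⟩
    have h1 : g * k * x a * (g * k)⁻¹ = g * (k * x a * k⁻¹) * g⁻¹ := by group
    rw [h1, hd, hc, Units.val_mul, mul_assoc]
  one_mem' := ⟨1, fun a => by simp⟩
  inv_mem' := by
    rintro g ⟨c, hc⟩
    refine ⟨c⁻¹, fun a => ?_⟩
    have h1 := hc (((c⁻¹ : Fˣ) : F) * a)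
    rw [← mul_assoc, Units.mul_inv, one_mul] at h1
    rw [← h1]
    group

variable {x}

theorem mem_scal_of_commute {g : Y} (hg : ∀ a, g * x a = x a * g) : g ∈ scal x :=
  ⟨1, fun a => by rw [hg, mul_inv_cancel_right, Units.val_one, one_mul]⟩

/-- the scalar -/
noncomputable def ev (hinj : Function.Injective x) : scal x →* Fˣ where
  toFun g := g.2.choose
  map_one' := by
    have h1 := (1 : scal x).2.choose_spec 1
    apply Units.ext
    have h2 : x 1 = x (((1 : scal x).2.choose : Fˣ) * 1) := by rw [← h1]; simp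
    have h3 := hinj h2
    rw [mul_one] at h3
    exact h3.symm
  map_mul' := by
    intro g k
    have h1 := (g * k).2.choose_spec 1
    have h2 := g.2.choose_spec
    have h3 := k.2.choose_spec
    apply Units.ext
    have h4 : ((g * k : scal x) : Y) * x 1 * ((g * k : scal x) : Y)⁻¹ = (g : Y) * ((k : Y) * x 1 * (k : Y)⁻¹) * (g : Y)⁻¹ := by
      rw [Subgroup.coe_mul]; group
    rw [h4, h3, h2] at h1
    have h5 := hinj h1
    rw [mul_one, mul_one] at h5
    rw [Units.val_mul]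
    exact h5.symm

theorem ev_spec (hinj : Function.Injective x) (g : scal x) (a : F) :
    (g : Y) * x a * (g : Y)⁻¹ = x ((ev hinj g : Fˣ) * a) := g.2.choose_spec a

theorem ev_eq (hinj : Function.Injective x) {g : Y} (hg : g ∈ scal x) {c : F} (hc : g * x 1 * g⁻¹ = x c) :
    ((ev hinj ⟨g, hg⟩ : Fˣ) : F) = c := by
  have h1 := ev_spec hinj ⟨g, hg⟩ 1
  rw [mul_one] at h1
  exact hinj (h1.symm.trans hc)

end Scal

section Rgd

variable {I W : Type*} {Y : Type u} [Fintype I] [DecidableEq I] [Group W] [Finite W] [Group Y]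
    {M : CoxeterMatrix I} {cs : CoxeterSystem M W} {A : I → I → ℤ} {h : IsCartan M A} {r : ℕ} {T : Subgroup Y}
    {n : I → Y} {X : (I → ℤ) → Subgroup Y} (R : RGD cs h r T n X)
    {j₀ : I} {α₀ D : I → ℤ}

include R

/-- the root groups of the roots orthogonal to the highest root centralise its root group -/
theorem cen_of_RootsJ (hi : Hi A j₀ α₀ D) (hc : Cen cs h X α₀) (hr : IsRoot cs h α₀) {y : I → ℤ}
    (hy : y ∈ RootsJ cs h {i | i ≠ j₀}) {a : Y} (ha : a ∈ X y) {b : Y} (hb : b ∈ X α₀) : a * b = b * a := by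
  obtain ⟨w, hw, j, -, rfl⟩ := exists_of_mem_RootsJ hy
  obtain ⟨k, hk⟩ := exists_rp cs R.nsys w
  have h1 : k⁻¹ * a * k ∈ X (sr j) := by
    rw [← R.conj_rp hk (isRoot_sr cs h j)] at ha
    have h2 := conj_mem_cj.1 (show k * (k⁻¹ * a * k) * k⁻¹ ∈ cj k (X (sr j)) by
      have : k * (k⁻¹ * a * k) * k⁻¹ = a := by group
      rw [this]; exact ha)
    exact h2
  have h3 : k⁻¹ * b * k ∈ X α₀ := by
    have h4 : b ∈ cj k (X α₀) := by rw [R.conj_rp hk hr, rep_hi_of_mem_WJ hi hw]; exact hb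
    exact conj_mem_cj.1 (show k * (k⁻¹ * b * k) * k⁻¹ ∈ cj k (X α₀) by
      have : k * (k⁻¹ * b * k) * k⁻¹ = b := by group
      rw [this]; exact h4)
  have h5 := hc (sr j) (isRoot_sr cs h j) (sr_nonneg j) _ h1 _ h3
  have h6 : a * b = k * ((k⁻¹ * a * k) * (k⁻¹ * b * k)) * k⁻¹ := by group
  rw [h6, h5]
  group

variable {F : Type v} [Field F] {x : F → Y} {χ : Y → F}

/-- `P_{j₀}` acts on `X α₀` by scalars -/
theorem PJ_le_scal (hi : Hi A j₀ α₀ D) (hc : Cen cs h X α₀) (hr : IsRoot cs h α₀) (hx : ∀ a, x a ∈ X α₀)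
    (hinj : Function.Injective x) (hact : ∀ t ∈ T, ∀ a, t * x a * t⁻¹ = x (χ t * a)) :
    PJ cs h T X {i | i ≠ j₀} ≤ scal x := by
  have hT : T ≤ scal x := by
    intro t ht
    have h0 : χ t ≠ 0 := by
      intro h0
      have h1 := hact t ht 1
      have h2 := hact t ht 0
      rw [h0, zero_mul] at h1 h2
      rw [← h2] at h1
      have h3 : x (1 : F) = x 0 := by
        have := mul_right_cancel h1
        exact mul_left_cancel this
      exact one_ne_zero (hinj h3)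
    exact ⟨Units.mk0 _ h0, hact t ht⟩
  refine sup_le (sup_le hT (RGD.Sup_le fun y hy a ha => ?_)) (RGD.Sup_le fun y hy a ha => ?_)
  · exact mem_scal_of_commute fun b => cen_of_RootsJ R hi hc hr hy ha (hx b)
  · exact mem_scal_of_commute fun b => hc y hy.1 hy.2.1 a ha _ (hx b)

/-- **linear characters of `P_{j₀}`** -/
theorem not_same_of_rgd' [Finite Y] [hrf : Fact r.Prime] [Finite F] {p l : ℕ} (hp : p.Prime) (hl : l.Prime)
    (hpl : p ≠ l) (hrl : r ≠ l) (hG : GG cs h T X = ⊤) (hi : Hi A j₀ α₀ D) (hc : Cen cs h X α₀) (hr : IsRoot cs h α₀)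
    (hx : ∀ a, x a ∈ X α₀) (hinj : Function.Injective x) (hact : ∀ t ∈ T, ∀ a, t * x a * t⁻¹ = x (χ t * a))
    (hm : ∀ w : W, rep cs h w α₀ ≠ α₀ → ∀ k, Rp cs R.nsys w k → ∃ t ∈ T, p ∣ orderOf (χ t / χ (k⁻¹ * t * k)))
    {z : Y} (hzT : z ∈ T) (hcT : ∀ t ∈ T, t * z = z * t)
    (hcX : ∀ y, IsRoot cs h y → y j₀ = 0 → ∀ a ∈ X y, a * z = z * a) (hzp : p ∣ orderOf (χ z)) : ¬ Same p l Y := by
  have hS : PJ cs h T X {i | i ≠ j₀} ≤ scal x := PJ_le_scal R hi hc hr hx hinj hact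
  let lam : ↥(PJ cs h T X {i | i ≠ j₀}) →* Fˣ := (ev hinj).comp (Subgroup.inclusion hS)
  have hlam : ∀ (t : Y) (ht : t ∈ T), ((lam ⟨t, T_le_PJ R _ ht⟩ : Fˣ) : F) = χ t :=
    fun t ht => ev_eq hinj (hS (T_le_PJ R _ ht)) (by rw [hact t ht, mul_one])
  refine not_same_of_PJ R hp hl hpl hrl hG {i | i ≠ j₀} lam ?_ hzT hcT
    (fun y hy a ha => hcX y hy.1 (hy.2 j₀ (by simp)) a ha) ?_
  · intro w hw k hk
    obtain ⟨t, ht, hd⟩ := hm w (fun he => hw (mem_WJ_of_fix_hi hi he)) k hk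
    refine ⟨t, ht, ?_⟩
    rw [← orderOf_units, Units.val_div_eq_div_val, hlam t ht, hlam _ (conj_mem_T R hk ht)]
    exact hd
  · rw [← orderOf_units, hlam z hzT]
    exact hzp

end Rgd

end Cfsg.Agent.H632.PQ
end

-- part: H632/PQ/Tw
section
prune_inst 0x20000000000000000000000000000000
set_option linter.all false
open scoped Cfsg.Agent.FastGrp

-- part: H632/PQ/Fold
section
/-!
# S4612, linear characters: the twisted groups obtained by folding (helper632)

`not_same_of_fold` : `G ≤ GL` obtained by folding, `s₀` the highest root, with table checks.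
-/

set_option autoImplicit false
set_option linter.unusedSectionVars false

namespace Cfsg.Agent.H632.PQ

open Cfsg.Agent.H317.PQ
open Cfsg Cfsg.Agent.H967.Sph Cfsg.Agent.H996.PQ
open CoxeterSystem Cfsg.Agent.ChevalleyStructure.CoxeterGeom Cfsg.Agent.Tits.Roots Cfsg.Agent.Tits.Core
  Cfsg.Agent.Nodes.Reps Cfsg.Agent.Nodes.BNOf Cfsg.Agent.Nodes.StabComb Cfsg.Agent.Nodes.Bruhat
  Cfsg.Agent.Nodes.OppDec Cfsg.Agent.Nodes.LeviDec Cfsg.Agent.Nodes.RGDTwGen Cfsg.Agent.Nodes.RGDChev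
  Cfsg.Agent.Nodes.RGDFold Cfsg.Agent.Nodes.RGDFoldSL Cfsg.Agent.Nodes.RGDTwCoord
open Cfsg.Lie Cfsg.Agent.ChevalleyStructure Cfsg.Agent.ChevalleyStructure.Elts
  Cfsg.Agent.ChevalleyStructure.RootVec Cfsg.Agent.ChevalleyStructure.RootVecTab
  Cfsg.Agent.ChevalleyStructure.CoxeterGeomTypes
  Cfsg.Agent.ChevalleyStructure.TwistedU Cfsg.Agent.ChevalleyStructure.TwistedFix

universe u

theorem diag_comm {D : ChevalleyDatum} (hD : InList D) {K : Type*} [Field K] {x y : GL D.Idx K} (hx : x ∈ D.diagonalSubgroup K)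
    (hy : y ∈ D.diagonalSubgroup K) : x * y = y * x := by
  obtain ⟨χ, hχ⟩ := HMatDiagAll.mem_torus.1 (HMatDiagAll.diagonalSubgroup_le_torus hD hx)
  obtain ⟨ψ, hψ⟩ := HMatDiagAll.mem_torus.1 (HMatDiagAll.diagonalSubgroup_le_torus hD hy)
  apply Units.ext
  rw [Units.val_mul, Units.val_mul, hχ, hψ, Matrix.diagonal_mul_diagonal, Matrix.diagonal_mul_diagonal]
  congr 1
  funext i
  exact mul_comm _ _

/-- orders of `c ^ (± 1)`, `c ^ (± 2)` -/
theorem dvd_orderOf_zpow {K : Type*} [Field K] {c : K} (hc0 : c ≠ 0) {p : ℕ} (hpc : p ∣ orderOf (c ^ 2)) {k : ℤ}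
    (hk : k.natAbs = 1 ∨ k.natAbs = 2) : p ∣ orderOf (c ^ k) := by
  have h1 : p ∣ orderOf c := hpc.trans (orderOf_pow_dvd 2)
  have h2 : ∀ x : K, x ≠ 0 → orderOf x⁻¹ = orderOf x := by
    intro x hx
    have := orderOf_inv (Units.mk0 x hx)
    rw [← orderOf_units, ← orderOf_units, Units.val_inv_eq_inv_val, Units.val_mk0] at this
    exact this
  rcases hk with hk | hk
  · rcases Int.natAbs_eq k with h3 | h3
    · rw [h3, hk, Nat.cast_one, zpow_one]; exact h1
    · rw [h3, hk, Nat.cast_one, zpow_neg_one, h2 c hc0]; exact h1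
  · rcases Int.natAbs_eq k with h3 | h3
    · rw [h3, hk]; exact_mod_cast hpc
    · rw [h3, hk, zpow_neg, h2 _ (zpow_ne_zero _ hc0)]; exact_mod_cast hpc

/-- `∏ φ^k d` -/
def nrm {K : Type*} [Field K] (φ : K →+* K) {l : ℕ} : List (Fin l) → K → K
  | [], _ => 1
  | _ :: o, d => d * nrm φ o (φ d)

theorem wt_eq_nrm {D : ChevalleyDatum} {l : ℕ} {K : Type*} [Field K] {φ : K →+* K} {o : List (Fin l)} {s : ℕ} {e : ℤ}
    (h : ∀ j ∈ o, D.cartan j s = e) (d : K) : wt D φ o s d = nrm φ o d ^ e := by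
  induction o generalizing d with
  | nil => show (1 : K) = 1 ^ e; rw [one_zpow]
  | cons j o ih =>
    show d ^ D.cartan j s * wt D φ o s (φ d) = (d * nrm φ o (φ d)) ^ e
    rw [ih (fun j hj => h j (List.mem_cons_of_mem _ hj)), h j List.mem_cons_self, mul_zpow]

theorem wt_fixed {D : ChevalleyDatum} {l : ℕ} {K : Type*} [Field K] {φ : K →+* K} (o : List (Fin l)) (s : ℕ) {d : K}
    (hd0 : d ≠ 0) (hd : φ d = d) : wt D φ o s d = d ^ (o.map fun j : Fin l => D.cartan j s).sum := by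
  induction o with
  | nil => show (1 : K) = _; rw [List.map_nil, List.sum_nil, zpow_zero]
  | cons j o ih =>
    show d ^ D.cartan j s * wt D φ o s (φ d) = _
    rw [hd, ih, List.map_cons, List.sum_cons, zpow_add₀ hd0]

section

variable {D : ChevalleyDatum} {l m : ℕ} {M' : CoxeterMatrix (Fin l)} {hp : IsType D l M'} {K : Type u} [Field K]
  {M : CoxeterMatrix (Fin m)} {W : Type*} [Group W] {cs : CoxeterSystem M W}
  {A : Fin m → Fin m → ℤ} {h : IsCartan M A} {J : Fin m → List (Fin l)} {L : List (List ℕ)}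
  {σ : GL D.Idx K →* GL D.Idx K} {ρ ρ' : ℕ → ℕ} {f : ℕ → K → K} {G : Subgroup (GL D.Idx K)} {φ : K →+* K}

/-- the torus elements of the node `i` -/
theorem hI_mem (FG : FoldGrp hp K J L σ ρ ρ' f G) {i : Fin m} {r : ℕ} {o : List ℕ} (N : NodeOK D J L ρ i r o)
    (hf : ∀ s ∈ r :: o, ∀ t, f s t = φ t) {d : K} (hd : d ≠ 0) (hdφ : φ^[o.length + 1] d = d) :
    hI hp φ (J i) d ∈ D.diagonalSubgroup K ∧ hI hp φ (J i) d ∈ G := by
  have h1 := Phi_hS FG N hf (d := (⟨d, mem_Fx.2 hdφ⟩ : Fx φ (o.length + 1)))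
    (fun h0 => hd (congrArg Subtype.val h0))
  rw [Subgroup.mem_subgroupOf] at h1
  have h2 : ((Phi FG N hf (hS (⟨d, mem_Fx.2 hdφ⟩ : Fx φ (o.length + 1))) : ↥G) : GL D.Idx K) =
      hI hp φ (J i) d := by
    show Ph hp K N φ (Matrix.SpecialLinearGroup.map _ (hS _)) = _
    rw [map_hS]
    exact hv_eq_hI N.Jn N.lt _
  rw [h2] at h1
  exact h1

/-- representatives act monomially on the root elements -/
theorem rp_conj (FD : FoldData D M A J L) (FG : FoldGrp hp K J L σ ρ ρ' f G) [Finite K] {p : ℕ} [Fact p.Prime] [CharP K p]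
    (S : ℕ → Prop) (hS : ∀ s, S s → s < D.nroots) (hSJ : ∀ s, S s → ∀ i, S (wp D (J i) s)) {w : W} {k : ↥G}
    (hk : Rp cs (rgd cs h FD FG p).nsys w k) {s : ℕ} (hs : S s) :
    ∃ s', S s' ∧ V D J s' = rep cs h w (V D J s) ∧ ∃ c : K, c ≠ 0 ∧
      ∀ t, (k : GL D.Idx K) * xG hp.inList s t * (k : GL D.Idx K)⁻¹ = xG hp.inList s' (c * t) := by
  obtain ⟨ω, rfl⟩ := cs.wordProd_surjective w
  induction ω generalizing k with
  | nil =>
    rw [wordProd_nil] at hk ⊢
    have h1 := Subgroup.mem_subgroupOf.1 hk.mem_of_one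
    obtain ⟨c, hc, hct⟩ := BNChev.diagonal_conj hp.inList (F := K) h1.1 (hS s hs)
    exact ⟨s, hs, by rw [map_one, Module.End.one_apply], c, hc, hct⟩
  | cons i ω ih =>
    rw [wordProd_cons] at hk ⊢
    have h1 : Rp cs (rgd cs h FD FG p).nsys (cs.wordProd ω) ((⟨nI hp K (J i), FG.nG i⟩ : ↥G)⁻¹ * k) := by
      have := (rp_simple cs (rgd cs h FD FG p).nsys i).inv.mul hk
      rwa [inv_mul_cancel_left] at this
    obtain ⟨s', hs', e, c, hc, hct⟩ := ih h1
    obtain ⟨η, hη, hηt⟩ := conj_xG (K := K) (hp := hp) (J i) (hS s' hs')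
    refine ⟨wp D (J i) s', hSJ s' hs' i, ?_, η * c, mul_ne_zero hη.ne_zero hc, fun t => ?_⟩
    · rw [FD.wp_V s' (hS s' hs'), ← rep_refl (cs := cs) (h := h), e, rep_mul_apply]
    · have h2 : (k : GL D.Idx K) * xG hp.inList s t * (k : GL D.Idx K)⁻¹ =
          nI hp K (J i) * ((((⟨nI hp K (J i), FG.nG i⟩ : ↥G)⁻¹ * k : ↥G) : GL D.Idx K) * xG hp.inList s t *
            (((⟨nI hp K (J i), FG.nG i⟩ : ↥G)⁻¹ * k : ↥G) : GL D.Idx K)⁻¹) * (nI hp K (J i))⁻¹ := by
        rw [Subgroup.coe_mul, Subgroup.coe_inv]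
        group
      rw [h2, hct, hηt, mul_assoc]

/-- **linear characters, twisted groups** -/
theorem not_same_of_fold [Finite W] (FD : FoldData D M A J L) (FG : FoldGrp hp K J L σ ρ ρ' f G) [Finite K] {r : ℕ}
    [Fact r.Prime] [CharP K r] {rp : Fin m → ℕ} {rs : Fin m → List ℕ} (nodes : ∀ i, NodeOK D J L ρ i (rp i) (rs i))
    (hf : ∀ i, ∀ s ∈ rp i :: rs i, ∀ t, f s t = φ t) {j₀ : Fin m} {α₀ Dl : Fin m → ℤ} (hi : Hi A j₀ α₀ Dl)
    (hc : Cen cs h (fun z => (R D hp K J σ z).subgroupOf G) α₀) (hr : IsRoot cs h α₀) {s₀ : ℕ} (hV₀ : V D J s₀ = α₀)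
    (hs₀L : s₀ ∈ L.flatten) (hρ : ρ s₀ = s₀) (hfs₀ : ∀ t, f s₀ t = φ t)
    {S : ℕ → Prop} (hS : ∀ s, S s → s < D.nroots) (hSJ : ∀ s, S s → ∀ i, S (wp D (J i) s)) (hS₀ : S s₀)
    (e : Fin m → ℕ → ℤ) (he : ∀ s, S s → ∀ i, ∀ j ∈ J i, D.cartan j s = e i s)
    (hdiff : ∀ s, S s → s ≠ s₀ → ∃ i, (e i s₀ - e i s).natAbs = 1 ∨ (e i s₀ - e i s).natAbs = 2)
    (hnorm : ∀ i, ∀ c : K, c ≠ 0 → φ c = c → ∃ d : K, d ≠ 0 ∧ φ^[(rs i).length + 1] d = d ∧ nrm φ (J i) d = c)
    (mv : Fin m → ℤ) (hm0 : ∀ s < D.nroots, V D J s j₀ = 0 →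
      ((List.finRange m).map fun i => mv i * ((J i).map fun j : Fin l => D.cartan j s).sum).sum = 0)
    (hm2 : ((List.finRange m).map fun i => mv i * ((J i).map fun j : Fin l => D.cartan j s₀).sum).sum = 2)
    {p q : ℕ} (hpp : p.Prime) (hq : q.Prime) (hpq : p ≠ q) (hrq : r ≠ q) {c : K} (hc0 : c ≠ 0) (hφc : φ c = c)
    (hpc : p ∣ orderOf (c ^ 2)) : ¬ Same p q ↥G := by
  have hfin : Finite (GL D.Idx K) := inferInstance
  have hs₀ : s₀ < D.nroots := FD.ltL hs₀L
  have RG := rgd cs h FD FG r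
  have hG := KFacts.RgdRigid.GG_eq_top (T := (D.diagonalSubgroup K ⊓ G).subgroupOf G) (G1_eq_top cs h FD FG r)
  -- the coordinates
  have hσ : ∀ a : K, φ a = a → σ (xG hp.inList s₀ a) = xG hp.inList s₀ a := by
    intro a ha
    rw [FG.setup.hσ s₀ hs₀L, hρ, hfs₀, ha]
  have hmemR : ∀ a : K, φ a = a → xG hp.inList s₀ a ∈ R D hp K J σ α₀ := fun a ha =>
    ⟨mem_rspan _ (S := {k | k < D.nroots ∧ V D J k = α₀}) ⟨hs₀, hV₀⟩ a, hσ a ha⟩
  have hmem : ∀ a : K, φ a = a → xG hp.inList s₀ a ∈ G := fun a ha => R_le cs h FD FG r hr (hmemR a ha)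
  have hF : ∀ a : Fx φ 1, φ (a : K) = a := fun a => mem_Fx.1 a.2
  let x : Fx φ 1 → ↥G := fun a => ⟨xG hp.inList s₀ (a : K), hmem _ (hF a)⟩
  have hxinj : Function.Injective x := by
    intro a b hab
    exact Subtype.ext (xG_injective hp.inList hs₀ (congrArg Subtype.val hab))
  have hxX : ∀ a, x a ∈ (R D hp K J σ α₀).subgroupOf G := fun a => Subgroup.mem_subgroupOf.2 (hmemR _ (hF a))
  -- the scalars
  have hsc : ∀ t : ↥G, (∃ c : K, ∀ u, (t : GL D.Idx K) * xG hp.inList s₀ u * (t : GL D.Idx K)⁻¹ = xG hp.inList s₀ (c * u)) →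
      ∃ c : Fx φ 1, ∀ u : K, (t : GL D.Idx K) * xG hp.inList s₀ u * (t : GL D.Idx K)⁻¹ = xG hp.inList s₀ ((c : K) * u) := by
    rintro t ⟨c, hc⟩
    refine ⟨⟨c, mem_Fx.2 ?_⟩, hc⟩
    have h1 := hc 1
    rw [mul_one] at h1
    have h2 : σ (xG hp.inList s₀ c) = xG hp.inList s₀ c := by
      rw [← h1, map_mul, map_mul, map_inv, hσ 1 (map_one φ), mem_fixS.1 (FG.G_le t.2)]
    rw [FG.setup.hσ s₀ hs₀L, hρ, hfs₀] at h2
    exact xG_injective hp.inList hs₀ h2
  classical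
  let χ : ↥G → Fx φ 1 := fun t => if ht : ∃ c : K, ∀ u, (t : GL D.Idx K) * xG hp.inList s₀ u * (t : GL D.Idx K)⁻¹ =
    xG hp.inList s₀ (c * u) then (hsc t ht).choose else 1
  have hχ : ∀ (t : ↥G) (c : K), (∀ u, (t : GL D.Idx K) * xG hp.inList s₀ u * (t : GL D.Idx K)⁻¹ = xG hp.inList s₀ (c * u)) →
      (χ t : K) = c := by
    intro t c hc
    have ht : ∃ c : K, ∀ u, (t : GL D.Idx K) * xG hp.inList s₀ u * (t : GL D.Idx K)⁻¹ = xG hp.inList s₀ (c * u) := ⟨c, hc⟩
    have h1 : χ t = (hsc t ht).choose := dif_pos ht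
    have h2 := (hsc t ht).choose_spec 1
    rw [hc 1, ← h1] at h2
    have h3 := xG_injective hp.inList hs₀ h2
    rw [mul_one, mul_one] at h3
    exact h3.symm
  have hact : ∀ t ∈ (D.diagonalSubgroup K ⊓ G).subgroupOf G, ∀ a, t * x a * t⁻¹ = x (χ t * a) := by
    intro t ht a
    obtain ⟨c, -, hct⟩ := BNChev.diagonal_conj hp.inList (F := K) (Subgroup.mem_subgroupOf.1 ht).1 hs₀
    apply Subtype.ext
    show (t : GL D.Idx K) * xG hp.inList s₀ (a : K) * (t : GL D.Idx K)⁻¹ = xG hp.inList s₀ ((χ t : K) * (a : K))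
    rw [hct, hχ t c hct]
  -- the element `z`
  have hzl : ∀ o : List (Fin m), ((o.map fun i => hI hp φ (J i) (c ^ mv i)).prod ∈ D.diagonalSubgroup K ∧
      (o.map fun i => hI hp φ (J i) (c ^ mv i)).prod ∈ G) ∧ ∀ s < D.nroots, ∀ u,
      (o.map fun i => hI hp φ (J i) (c ^ mv i)).prod * xG hp.inList s u * ((o.map fun i => hI hp φ (J i) (c ^ mv i)).prod)⁻¹ =
        xG hp.inList s (c ^ (o.map fun i => mv i * ((J i).map fun j : Fin l => D.cartan j s).sum).sum * u) := by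
    intro o
    induction o with
    | nil =>
      refine ⟨⟨one_mem _, one_mem _⟩, fun s _ u => ?_⟩
      rw [List.map_nil, List.prod_nil, List.map_nil, List.sum_nil, zpow_zero, one_mul, inv_one, mul_one, one_mul]
    | cons i o ih =>
      have hc1 : c ^ mv i ≠ 0 := zpow_ne_zero _ hc0
      have hc2 : φ (c ^ mv i) = c ^ mv i := by rw [map_zpow₀, hφc]
      obtain ⟨h1, h2⟩ := hI_mem FG (nodes i) (hf i) hc1 (Function.iterate_fixed hc2 _)
      rw [List.map_cons, List.prod_cons]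
      refine ⟨⟨mul_mem h1 ih.1.1, mul_mem h2 ih.1.2⟩, fun s hs u => ?_⟩
      have h3 : ∀ (a b y : GL D.Idx K), a * b * y * (a * b)⁻¹ = a * (b * y * b⁻¹) * a⁻¹ := fun a b y => by group
      rw [h3, ih.2 s hs, hI_conj (J i) hs hc1, wt_fixed (J i) s hc1 hc2, List.map_cons, List.sum_cons,
        zpow_add₀ hc0, zpow_mul, mul_assoc]
  obtain ⟨⟨hz1, hz2⟩, hz3⟩ := hzl (List.finRange m)
  set z : GL D.Idx K := ((List.finRange m).map fun i => hI hp φ (J i) (c ^ mv i)).prod with hz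
  have hzT : (⟨z, hz2⟩ : ↥G) ∈ (D.diagonalSubgroup K ⊓ G).subgroupOf G := Subgroup.mem_subgroupOf.2 ⟨hz1, hz2⟩
  have hord : ∀ a : Fx φ 1, orderOf a = orderOf (a : K) := fun a =>
    (orderOf_injective (Fx φ 1).subtype.toMonoidHom (Fx φ 1).subtype.injective a).symm
  refine not_same_of_rgd' RG hpp hq hpq hrq hG hi hc hr hxX hxinj hact ?_ hzT ?_ ?_ ?_
  · intro w hw k hk
    obtain ⟨s', hs', hV', c', hc', hct⟩ := rp_conj FD FG S hS hSJ hk hS₀
    have hne : s' ≠ s₀ := by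
      rintro rfl
      rw [hV₀] at hV'
      exact hw hV'.symm
    obtain ⟨i, hei⟩ := hdiff s' hs' hne
    obtain ⟨d, hd0, hdφ, hdn⟩ := hnorm i c hc0 hφc
    obtain ⟨h1, h2⟩ := hI_mem FG (nodes i) (hf i) hd0 hdφ
    refine ⟨⟨_, h2⟩, Subgroup.mem_subgroupOf.2 ⟨h1, h2⟩, ?_⟩
    have e1 : (χ ⟨_, h2⟩ : K) = c ^ e i s₀ := by
      refine hχ _ _ fun u => ?_
      rw [hI_conj (J i) hs₀ hd0, wt_eq_nrm (he s₀ hS₀ i), hdn]
    have e2 : (χ (k⁻¹ * ⟨_, h2⟩ * k) : K) = c ^ e i s' := by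
      refine hχ _ _ fun u => ?_
      have h3 : ((k⁻¹ * (⟨_, h2⟩ : ↥G) * k : ↥G) : GL D.Idx K) = (k : GL D.Idx K)⁻¹ * hI hp φ (J i) d * (k : GL D.Idx K) := rfl
      rw [h3]
      have h4 : (k : GL D.Idx K)⁻¹ * hI hp φ (J i) d * (k : GL D.Idx K) * xG hp.inList s₀ u *
          ((k : GL D.Idx K)⁻¹ * hI hp φ (J i) d * (k : GL D.Idx K))⁻¹ =
          (k : GL D.Idx K)⁻¹ * (hI hp φ (J i) d * ((k : GL D.Idx K) * xG hp.inList s₀ u * (k : GL D.Idx K)⁻¹) *
            (hI hp φ (J i) d)⁻¹) * (k : GL D.Idx K) := by group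
      rw [h4, hct, hI_conj (J i) (hS s' hs') hd0, wt_eq_nrm (he s' hs' i), hdn]
      have h5 : c ^ e i s' * (c' * u) = c' * (c ^ e i s' * u) := by ring
      rw [h5, ← hct]
      group
    rw [hord]
    have e3 : (((χ ⟨_, h2⟩ / χ (k⁻¹ * ⟨_, h2⟩ * k) : Fx φ 1)) : K) = c ^ (e i s₀ - e i s') := by
      rw [Subfield.coe_div, e1, e2, zpow_sub₀ hc0]
    rw [e3]
    exact dvd_orderOf_zpow hc0 hpc hei
  · intro t ht
    exact Subtype.ext (diag_comm hp.inList (Subgroup.mem_subgroupOf.1 ht).1 hz1)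
  · intro y _ hy0 a ha
    have h1 : R D hp K J σ y ≤ Subgroup.centralizer {z} := by
      refine inf_le_left.trans (rspan_le _ ?_)
      rintro s ⟨hs, hVs⟩ u
      rw [Subgroup.mem_centralizer_singleton_iff]
      have h2 := hz3 s hs u
      rw [hm0 s hs (by rw [hVs]; exact hy0), zpow_zero, one_mul, mul_inv_eq_iff_eq_mul] at h2
      exact h2.symm
    exact Subtype.ext (Subgroup.mem_centralizer_singleton_iff.1 (h1 (Subgroup.mem_subgroupOf.1 ha)))
  · rw [hord, hχ ⟨z, hz2⟩ (c ^ (2 : ℤ)) fun u => by rw [hz3 s₀ hs₀, hm2]]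
    exact_mod_cast hpc

end

end Cfsg.Agent.H632.PQ
end

-- part: H632/PQ/Tw
section
/-!
# S4612, linear characters: `²E₆(q)`, `³D₄(q)` (helper632)

`lin_twE6`, `linTwo_twE6`, `lin_twD4`, `linTwo_twD4`.
-/

set_option autoImplicit false
set_option linter.unusedSectionVars false

namespace Cfsg.Agent.H632.PQ

open Cfsg.Agent.H317.PQ
open Cfsg Cfsg.Agent.H967.Sph Cfsg.Agent.H996.PQ
open CoxeterSystem Cfsg.Agent.ChevalleyStructure.CoxeterGeom Cfsg.Agent.Tits.Roots
  Cfsg.Agent.Nodes.RGDChev Cfsg.Agent.Nodes.RGDFold Cfsg.Agent.Nodes.RGDFoldSL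
open Cfsg.Lie Cfsg.Agent.ChevalleyStructure

universe u

/-! ### Finite fields -/

theorem exists_pow_eq {K : Type*} [Field K] [Fintype K] {n m : ℕ} (hK : Fintype.card K = n * m + 1) (hn : n ≠ 0)
    {c : K} (hc : c ^ n = 1) : ∃ d : K, d ≠ 0 ∧ d ^ m = c := by
  have hc0 : c ≠ 0 := by
    rintro rfl
    rw [zero_pow hn] at hc
    exact zero_ne_one hc
  obtain ⟨g, hg⟩ := IsCyclic.exists_generator (α := Kˣ)
  obtain ⟨k, hk⟩ := Subgroup.mem_zpowers_iff.1 (hg (Units.mk0 c hc0))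
  have hord : orderOf g = n * m := by
    rw [orderOf_eq_card_of_forall_mem_zpowers hg, Nat.card_units, Nat.card_eq_fintype_card, hK, Nat.add_sub_cancel]
  have h1 : g ^ (k * n) = 1 := by
    rw [zpow_mul, hk, zpow_natCast]
    apply Units.ext
    rw [Units.val_pow_eq_pow_val, Units.val_mk0, hc, Units.val_one]
  have h2 : ((n * m : ℕ) : ℤ) ∣ k * n := by
    rw [← hord]
    exact orderOf_dvd_iff_zpow_eq_one.2 h1
  rw [Nat.cast_mul, mul_comm k] at h2
  obtain ⟨k', rfl⟩ := Int.dvd_of_mul_dvd_mul_left (by exact_mod_cast hn) h2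
  refine ⟨((g ^ k' : Kˣ) : K), Units.ne_zero _, ?_⟩
  have h3 : (g ^ k') ^ m = Units.mk0 c hc0 := by
    rw [← hk, ← zpow_natCast, ← zpow_mul, mul_comm]
  have h4 := congrArg Units.val h3
  rw [Units.val_pow_eq_pow_val, Units.val_mk0] at h4
  exact h4

/-- an element of order `n` -/
theorem exists_orderOf {K : Type*} [Field K] [Fintype K] {n : ℕ} (hn : n ∣ Fintype.card K - 1) :
    ∃ c : K, c ≠ 0 ∧ orderOf c = n := by
  obtain ⟨g, hg⟩ := IsCyclic.exists_generator (α := Kˣ)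
  have hord : orderOf g = Fintype.card K - 1 := by
    rw [orderOf_eq_card_of_forall_mem_zpowers hg, Nat.card_units, Nat.card_eq_fintype_card]
  obtain ⟨m, hm⟩ := hn
  have h0 : orderOf g ≠ 0 := (orderOf_pos g).ne'
  have hm0 : m ≠ 0 := by
    rintro rfl
    rw [mul_zero] at hm
    exact h0 (hord.trans hm)
  refine ⟨((g ^ m : Kˣ) : K), Units.ne_zero _, ?_⟩
  rw [orderOf_units, orderOf_pow_of_dvd hm0 (by rw [hord, hm]; exact dvd_mul_left _ _), hord, hm,
    Nat.mul_div_cancel _ (Nat.pos_of_ne_zero hm0)]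

/-- the element used: fixed by the Frobenius map, its square of order divisible by `p` -/
theorem exists_c {K : Type*} [Field K] [Fintype K] {q p : ℕ} {φ : K →+* K} (hφ : ∀ x, φ x = x ^ q) (hq : 1 < q)
    (hK : q - 1 ∣ Fintype.card K - 1) (hp : p.Prime) (h : (p ≠ 2 ∧ p ∣ q - 1) ∨ (p = 2 ∧ q % 4 = 1)) :
    ∃ c : K, c ≠ 0 ∧ φ c = c ∧ p ∣ orderOf (c ^ 2) := by
  obtain ⟨c, hc0, hc⟩ := exists_orderOf (K := K) hK
  refine ⟨c, hc0, ?_, ?_⟩
  · have h1 : c ^ (q - 1) = 1 := by rw [← hc]; exact pow_orderOf_eq_one c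
    rw [hφ]
    have h2 : q = (q - 1) + 1 := by omega
    rw [h2, pow_succ, h1, one_mul]
  · rcases h with ⟨h2, h3⟩ | ⟨h2, h3⟩
    · refine dvd_orderOf_pow hp (by rw [hc]; exact h3) ?_
      intro h4
      exact h2 ((Nat.prime_dvd_prime_iff_eq hp Nat.prime_two).1 h4)
    · subst h2
      have h4 : 2 ∣ q - 1 := by omega
      rw [orderOf_pow_of_dvd two_ne_zero (by rw [hc]; exact h4), hc]
      omega

/-! ### `²E₆(q)` -/

section E6

open Cfsg.Agent.Nodes.RGDTwE6

/-- the roots fixed by the graph automorphism -/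
def SE6 (s : ℕ) : Prop := s < 72 ∧ TwistedE6Sigma.rho s = s

instance decSE6 (s : ℕ) : Decidable (SE6 s) := inferInstanceAs (Decidable (_ ∧ _))

theorem sE6_lt : ∀ s, SE6 s → s < chevE6.nroots := fun _ hs => hs.1

theorem sE6_wp' : ∀ s < 72, TwistedE6Sigma.rho s = s → ∀ i, SE6 (wp chevE6 (J i) s) := by decide +kernel

theorem sE6_wp (s : ℕ) (hs : SE6 s) (i : Fin 4) : SE6 (wp chevE6 (J i) s) := sE6_wp' s hs.1 hs.2 i

/-- the exponents -/
def eE6 (i : Fin 4) (s : ℕ) : ℤ := chevE6.cartan (((J i).headD 0 : Fin 6) : ℕ) s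

theorem eE6_eq' : ∀ i : Fin 4, ∀ j : Fin 6, j ∈ J i → ∀ s < 72, TwistedE6Sigma.rho s = s →
    chevE6.cartan (j : ℕ) s = eE6 i s := by
  decide +kernel

theorem eE6_diff' : ∀ s < 72, TwistedE6Sigma.rho s = s → s ≠ 71 →
    ∃ i, (eE6 i 71 - eE6 i s).natAbs = 1 ∨ (eE6 i 71 - eE6 i s).natAbs = 2 := by decide +kernel

theorem e6_m0 : ∀ s < chevE6.nroots, V chevE6 J s 0 = 0 →
    ((List.finRange 4).map fun i => (![2, 3, 2, 1] : Fin 4 → ℤ) i *
      ((J i).map fun j : Fin 6 => chevE6.cartan (j : ℕ) s).sum).sum = 0 := by decide +kernel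

theorem e6_m2 : ((List.finRange 4).map fun i => (![2, 3, 2, 1] : Fin 4 → ℤ) i *
      ((J i).map fun j : Fin 6 => chevE6.cartan (j : ℕ) 71).sum).sum = 2 := by decide +kernel

theorem not_same_twE6 {K : Type u} [Field K] [Fintype K] {x : ℕ} (hx : IsPrimePow x) (hK : Fintype.card K = x ^ 2)
    {p l : ℕ} (hp : p.Prime) (hl : l.Prime) (hpl : p ≠ l) (hlx : ¬ l ∣ x)
    (h : (p ≠ 2 ∧ p ∣ x - 1) ∨ (p = 2 ∧ x % 4 = 1)) : ¬ Same p l ↥(twistedE6 K x) := by
  obtain ⟨φ, hφ, hqq⟩ := TwE6Basic.exists_frob hx hK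
  have h1 : 1 < x := hx.one_lt
  obtain ⟨r, hr'⟩ := CharP.exists K
  have hr : r.Prime := CharP.char_is_prime K r
  have : Fact r.Prime := ⟨hr⟩
  have hrx : r ∣ x := by
    obtain ⟨n, hn, hc⟩ := FiniteField.card K r
    have h2 : r ∣ x ^ 2 := by rw [← hK, hc]; exact dvd_pow_self r n.ne_zero
    exact hr.dvd_of_dvd_pow h2
  have hrl : r ≠ l := fun e => hlx (e ▸ hrx)
  have hx2 : x ^ 2 = (x - 1) * (x + 1) + 1 := by
    obtain ⟨y, rfl⟩ : ∃ y, x = y + 1 := ⟨x - 1, by omega⟩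
    rw [Nat.add_sub_cancel]; ring
  obtain ⟨c, hc0, hφc, hpc⟩ := exists_c (K := K) hφ h1 (by rw [hK, hx2, Nat.add_sub_cancel]; exact dvd_mul_right _ _) hp h
  have : Finite CoxeterMatrix.F₄.Group :=
    finite_W (hp := Nodes.RGDTwE6.hp) CoxeterMatrix.F₄.toCoxeterSystem Nodes.RGDTwE6.isCartan Nodes.RGDTwE6.foldData
  have hcfix : c ^ (x - 1) = 1 := by
    have h3 : c ^ x = c := by rw [← hφ]; exact hφc
    have h4 : x = (x - 1) + 1 := by omega
    rw [h4, pow_succ] at h3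
    exact mul_right_cancel₀ hc0 (by rw [h3, one_mul])
  refine not_same_of_fold (cs := CoxeterMatrix.F₄.toCoxeterSystem) (h := Nodes.RGDTwE6.isCartan)
    (hp := Nodes.RGDTwE6.hp) (φ := φ) (r := r) Nodes.RGDTwE6.foldData (Nodes.RGDTwE6.foldGrp hφ hqq)
    Nodes.RGDTwNode.E6.nodeOK (fun i s hs t => by rw [Nodes.RGDTwNode.E6.eps_one i s hs, Int.cast_one, one_mul])
    H315.PQ.hi_TwE6 (H315.PQ.cen_TwE6 (q := x) _ φ) (H315.PQ.isRoot_TwE6 _) (s₀ := 71) (by decide +kernel)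
    (by decide +kernel) (by decide +kernel) (fun t => ?_) sE6_lt sE6_wp (by decide +kernel) eE6
    (fun s hs i j hj => eE6_eq' i j hj s hs.1 hs.2) (fun s hs => eE6_diff' s hs.1 hs.2) (fun i c' hc' hφ' => ?_) _ e6_m0 e6_m2 hp hl hpl hrl
    hc0 hφc hpc
  · have h2 : TwistedE6Sigma.eps 71 = 1 := by decide +kernel
    rw [h2, Int.cast_one, one_mul]
  · have hl : (J i = [(J i).headD 0] ∧ (Nodes.RGDTwNode.E6.rest i).length = 0) ∨
        ((∃ a b, J i = [a, b]) ∧ (Nodes.RGDTwNode.E6.rest i).length = 1) := by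
      revert i; decide +kernel
    rcases hl with ⟨e1, e2⟩ | ⟨⟨a, b, e1⟩, e2⟩
    · refine ⟨c', hc', by rw [e2]; exact hφ', ?_⟩
      rw [e1]
      exact mul_one c'
    · have h3 : c' ^ (x - 1) = 1 := by
        have h3 : c' ^ x = c' := by rw [← hφ]; exact hφ'
        have h4 : x = (x - 1) + 1 := by omega
        rw [h4, pow_succ] at h3
        exact mul_right_cancel₀ hc' (by rw [h3, one_mul])
      obtain ⟨d, hd0, hd⟩ := exists_pow_eq (K := K) (n := x - 1) (m := x + 1) (by rw [hK, hx2]) (by omega) h3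
      refine ⟨d, hd0, ?_, ?_⟩
      · rw [e2]
        show φ (φ d) = d
        rw [hφ, hφ]; exact hqq d
      · rw [e1]
        show d * (φ d * 1) = c'
        rw [mul_one, hφ, ← hd, pow_succ, mul_comm]

/-- **`Lin` for `²E₆(q)`** -/
theorem lin_twE6 {K : Type u} [Field K] [Fintype K] {x : ℕ} (hx : IsPrimePow x) (hK : Fintype.card K = x ^ 2) :
    Lin ↥(twistedE6 K x) x :=
  fun _ _ hp hl hp2 hpl hlx hpx _ => not_same_twE6 hx hK hp hl hpl hlx (Or.inl ⟨hp2, hpx⟩)

/-- **`LinTwo` for `²E₆(q)`** -/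
theorem linTwo_twE6 {K : Type u} [Field K] [Fintype K] {x : ℕ} (hx : IsPrimePow x) (hK : Fintype.card K = x ^ 2) :
    LinTwo ↥(twistedE6 K x) x :=
  fun h4 _ hl hl2 hlx _ => not_same_twE6 hx hK Nat.prime_two hl hl2.symm hlx (Or.inr ⟨rfl, h4⟩)

end E6

/-! ### `³D₄(q)` -/

section D4

open Cfsg.Agent.Nodes.RGDTwD4

/-- the roots fixed by the graph automorphism -/
def SD4 (s : ℕ) : Prop := s < 24 ∧ rho s = s

instance decSD4 (s : ℕ) : Decidable (SD4 s) := inferInstanceAs (Decidable (_ ∧ _))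

theorem sD4_lt (s : ℕ) (hs : SD4 s) : s < chevD4.nroots := hs.1

theorem sD4_wp' : ∀ s < 24, rho s = s → ∀ i, SD4 (wp chevD4 (J i) s) := by decide +kernel

theorem sD4_wp (s : ℕ) (hs : SD4 s) (i : Fin 2) : SD4 (wp chevD4 (J i) s) := sD4_wp' s hs.1 hs.2 i

/-- the exponents -/
def eD4 (i : Fin 2) (s : ℕ) : ℤ := chevD4.cartan (((J i).headD 0 : Fin 4) : ℕ) s

theorem eD4_eq' : ∀ i : Fin 2, ∀ j : Fin 4, j ∈ J i → ∀ s < 24, rho s = s →
    chevD4.cartan (j : ℕ) s = eD4 i s := by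
  decide +kernel

theorem eD4_diff' : ∀ s < 24, rho s = s → s ≠ 23 →
    ∃ i, (eD4 i 23 - eD4 i s).natAbs = 1 ∨ (eD4 i 23 - eD4 i s).natAbs = 2 := by decide +kernel

theorem d4_m0 : ∀ s < chevD4.nroots, V chevD4 J s 0 = 0 →
    ((List.finRange 2).map fun i => (![2, 1] : Fin 2 → ℤ) i *
      ((J i).map fun j : Fin 4 => chevD4.cartan (j : ℕ) s).sum).sum = 0 := by decide +kernel

theorem d4_m2 : ((List.finRange 2).map fun i => (![2, 1] : Fin 2 → ℤ) i *
      ((J i).map fun j : Fin 4 => chevD4.cartan (j : ℕ) 23).sum).sum = 2 := by decide +kernel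

theorem not_same_twD4 {K : Type u} [Field K] [Fintype K] {x : ℕ} (hx : IsPrimePow x) (hK : Fintype.card K = x ^ 3)
    {p l : ℕ} (hp : p.Prime) (hl : l.Prime) (hpl : p ≠ l) (hlx : ¬ l ∣ x)
    (h : (p ≠ 2 ∧ p ∣ x - 1) ∨ (p = 2 ∧ x % 4 = 1)) : ¬ Same p l ↥(twistedD4 K x) := by
  obtain ⟨φ, hφ⟩ := D4Fixed.exists_frob hx hK
  have hle := D4Fixed.twisted_le_fix hK hφ
  have h1 : 1 < x := hx.one_lt
  obtain ⟨r, hr'⟩ := CharP.exists K
  have hr : r.Prime := CharP.char_is_prime K r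
  have : Fact r.Prime := ⟨hr⟩
  have hrx : r ∣ x := by
    obtain ⟨n, hn, hc⟩ := FiniteField.card K r
    have h2 : r ∣ x ^ 3 := by rw [← hK, hc]; exact dvd_pow_self r n.ne_zero
    exact hr.dvd_of_dvd_pow h2
  have hrl : r ≠ l := fun e => hlx (e ▸ hrx)
  have hx2 : x ^ 3 = (x - 1) * (1 + x + x * x) + 1 := by
    obtain ⟨y, rfl⟩ : ∃ y, x = y + 1 := ⟨x - 1, by omega⟩
    rw [Nat.add_sub_cancel]; ring
  obtain ⟨c, hc0, hφc, hpc⟩ := exists_c (K := K) hφ h1 (by rw [hK, hx2, Nat.add_sub_cancel]; exact dvd_mul_right _ _) hp h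
  have : Finite CoxeterMatrix.G₂.Group :=
    finite_W (hp := Nodes.RGDTwD4.hp) CoxeterMatrix.G₂.toCoxeterSystem Nodes.RGDTwD4.isCartan Nodes.RGDTwD4.foldData
  refine not_same_of_fold (cs := CoxeterMatrix.G₂.toCoxeterSystem) (h := Nodes.RGDTwD4.isCartan)
    (hp := Nodes.RGDTwD4.hp) (φ := φ) (r := r) Nodes.RGDTwD4.foldData (Nodes.RGDTwD4.foldGrp hφ hle)
    Nodes.RGDTwNode.D4.nodeOK (fun i s hs t => by rw [Nodes.RGDTwNode.D4.eps_one i s hs, Int.cast_one, one_mul])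
    H315.PQ.hi_TwD4 (H315.PQ.cen_TwD4 (q := x) _ φ) (H315.PQ.isRoot_TwD4 _) (s₀ := 23) (by decide +kernel)
    (by decide +kernel) (by decide +kernel) (fun t => ?_) sD4_lt sD4_wp (by decide +kernel) eD4
    (fun s hs i j hj => eD4_eq' i j hj s hs.1 hs.2) (fun s hs => eD4_diff' s hs.1 hs.2) (fun i c' hc' hφ' => ?_) _ d4_m0 d4_m2 hp hl hpl hrl
    hc0 hφc hpc
  · have h2 : eps 23 = 1 := by decide +kernel
    rw [h2, Int.cast_one, one_mul]
  · have hl : (J i = [(J i).headD 0] ∧ (Nodes.RGDTwNode.D4.rest i).length = 0) ∨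
        ((∃ a b c, J i = [a, b, c]) ∧ (Nodes.RGDTwNode.D4.rest i).length = 2) := by
      revert i; decide +kernel
    rcases hl with ⟨e1, e2⟩ | ⟨⟨a, b, c, e1⟩, e2⟩
    · refine ⟨c', hc', by rw [e2]; exact hφ', ?_⟩
      rw [e1]
      exact mul_one c'
    · have h3 : c' ^ (x - 1) = 1 := by
        have h3 : c' ^ x = c' := by rw [← hφ]; exact hφ'
        have h4 : x = (x - 1) + 1 := by omega
        rw [h4, pow_succ] at h3
        exact mul_right_cancel₀ hc' (by rw [h3, one_mul])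
      obtain ⟨d, hd0, hd⟩ := exists_pow_eq (K := K) (n := x - 1) (m := 1 + x + x * x) (by rw [hK, hx2]) (by omega) h3
      refine ⟨d, hd0, ?_, ?_⟩
      · rw [e2]
        show φ (φ (φ d)) = d
        rw [hφ, hφ, hφ, ← pow_mul, ← pow_mul]
        have : x * (x * x) = x ^ 3 := by ring
        rw [this, ← hK]
        exact FiniteField.pow_card d
      · rw [e1]
        show d * (φ d * (φ (φ d) * 1)) = c'
        rw [mul_one, hφ, hφ, ← hd, ← pow_mul, pow_add, pow_add, pow_one, mul_assoc]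

/-- **`Lin` for `³D₄(q)`** -/
theorem lin_twD4 {K : Type u} [Field K] [Fintype K] {x : ℕ} (hx : IsPrimePow x) (hK : Fintype.card K = x ^ 3) :
    Lin ↥(twistedD4 K x) x :=
  fun _ _ hp hl hp2 hpl hlx hpx _ => not_same_twD4 hx hK hp hl hpl hlx (Or.inl ⟨hp2, hpx⟩)

/-- **`LinTwo` for `³D₄(q)`** -/
theorem linTwo_twD4 {K : Type u} [Field K] [Fintype K] {x : ℕ} (hx : IsPrimePow x) (hK : Fintype.card K = x ^ 3) :
    LinTwo ↥(twistedD4 K x) x :=
  fun h4 _ hl hl2 hlx _ => not_same_twD4 hx hK Nat.prime_two hl hl2.symm hlx (Or.inr ⟨rfl, h4⟩)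

end D4

end Cfsg.Agent.H632.PQ
end
end

-- part: H638/PQ/PSURow
section
prune_inst 0x356065256fe2020000048582530000b53500049000000c008ca70442010980608902a8000a2000055208000000040000010000b0420000000a000400000505010080000461c00000020008000000000000000000020000000000000000000004200000000
set_option linter.all false
open scoped Cfsg.Agent.FastGrp

-- part: H638/PQ/PSUOne
section
/-!
# S4612: `PSU_n(q)`, `n ≥ 4`, a prime divisor of `q + 1` (helper638)

* `not_same_pts` : `p ∣ q + 1`, `l` a prime, `l` does not divide `q (q² - 1)`: `¬ Same p l (PSU_n(q))` (both nontrivial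
  constituents of the permutation character on the isotropic points are in `B0 p`, not both are in `B0 l`: transvections).
* `not_same_torus` : `p`, `l` divide `q + 1`, `p` odd: `¬ Same p l (PSU_n(q))`.
-/

set_option autoImplicit false
set_option linter.unusedSectionVars false

open Cfsg Cfsg.Agent

namespace Cfsg.Agent.H638.PQ.PSUOne

open Cfsg.Agent.H317.PQ Cfsg.Agent.Characters.Core Cfsg.Agent.Blocks.Basic
open Cfsg.Agent.LieClassical.HermBasic Cfsg.Agent.LieClassical.HermSiegel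
open Cfsg.Agent.ClassicalGeometry.UnitTransv (utv)
open Cfsg.Agent.H690.Spor.RankThree Cfsg.Agent.H690.Spor.RankThree.R3 Cfsg.Agent.H113.PSU.Points
open Cfsg.Agent.H638.PQ.RankThree

universe u

variable {F : Type u} [Field F] [Fintype F] {q n : ℕ}

/-! ### the action -/

theorem center_smul (hF : Fintype.card F = q ^ 2) (hn : 3 ≤ n) {z : SU n F q} (hz : z ∈ Subgroup.center (SU n F q))
    (y : Pt n F q) : z • y = y := by
  obtain ⟨c, hc, -, hc'⟩ := Cfsg.Agent.ClassicalGeometry.PSUAutBasic.exists_scalar_of_mem_center hF hn hz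
  obtain ⟨v, h0, hv, rfl⟩ := exists_pt y
  rw [smul_pt, pt_eq_iff]
  exact ⟨c, hc, hc' v⟩

/-- the action of `PSU` on the isotropic points -/
@[instance_reducible]
noncomputable def actU (hF : Fintype.card F = q ^ 2) (hn : 3 ≤ n) : MulAction (PSU n F q) (Pt n F q) :=
  MulAction.compHom _ (QuotientGroup.lift (Subgroup.center (SU n F q))
    (MulAction.toPermHom (SU n F q) (Pt n F q)) (fun z hz => by
      apply Equiv.ext
      intro y
      exact center_smul hF hn hz y))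

theorem actU_mk (hF : Fintype.card F = q ^ 2) (hn : 3 ≤ n) (g : SU n F q) (x : Pt n F q) :
    letI := actU hF hn; (QuotientGroup.mk g : PSU n F q) • x = g • x := rfl

/-- rank 3 for a quotient acting in the same way -/
theorem r3_of_surj {G Q X : Type*} [Group G] [Group Q] [MulAction G X] [MulAction Q X] {R : X → X → Prop} {k l : ℕ}
    (f : G → Q) (h : ∀ (g : G) (x : X), f g • x = g • x) (hf : Function.Surjective f) (H : R3 G X R k l) :
    R3 Q X R k l := by
  refine ⟨⟨fun x y => ?_⟩, H.symm, H.irr, ?_, ?_, ?_, H.cardk, H.k0, H.l0, H.cardn⟩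
  · obtain ⟨g, hg⟩ := H.trans.exists_smul_eq x y
    exact ⟨f g, (h g x).trans hg⟩
  · intro q x y hxy
    obtain ⟨g, rfl⟩ := hf q
    rw [h, h]
    exact H.inv g x y hxy
  · intro x y x' y' h1 h2
    obtain ⟨g, hg1, hg2⟩ := H.one x y x' y' h1 h2
    exact ⟨f g, (h g x).trans hg1, (h g y).trans hg2⟩
  · intro x y x' y' h1 h2 h3 h4
    obtain ⟨g, hg1, hg2⟩ := H.two x y x' y' h1 h2 h3 h4
    exact ⟨f g, (h g x).trans hg1, (h g y).trans hg2⟩

/-! ### transvections -/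

theorem act_utv (hF : Fintype.card F = q ^ 2) {v : Fin n → F} {c : F} (hv : hermForm n F q v v = 0)
    (hc : c + c ^ q = 0) (x : Fin n → F) : act (utv hF v c hv hc) x = x + (c * hermForm n F q x v) • v :=
  Cfsg.Agent.ClassicalGeometry.UnitTransv.act_utv hF hv hc x

theorem ext_act {A B : SU n F q} (h : ∀ x, act A x = act B x) : A = B :=
  Cfsg.Agent.ClassicalGeometry.UnitTransv.ext_act h

/-- conjugates -/
theorem conj_utv (hF : Fintype.card F = q ^ 2) {v : Fin n → F} {c : F} (hv : hermForm n F q v v = 0)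
    (hc : c + c ^ q = 0) (h : SU n F q) :
    h * utv hF v c hv hc * h⁻¹ = utv hF (act h v) c (by rw [herm_act, hv]) hc := by
  apply ext_act
  intro x
  rw [act_mul, act_mul, act_utv, act_utv, act_add, act_smul, act_act_inv]
  congr 2
  conv_rhs => rw [← act_act_inv h x, herm_act]

/-- the transvections of `PSU` -/
def trv (hF : Fintype.card F = q ^ 2) (n : ℕ) : Set (PSU n F q) :=
  {g | ∃ (v : Fin n → F) (c : F) (hv : hermForm n F q v v = 0) (hc : c + c ^ q = 0), v ≠ 0 ∧ c ≠ 0 ∧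
    g = (QuotientGroup.mk (utv hF v c hv hc) : PSU n F q)}

theorem trv_conj (hF : Fintype.card F = q ^ 2) {g : PSU n F q} (hg : g ∈ trv hF n) (y : PSU n F q) :
    y * g * y⁻¹ ∈ trv hF n := by
  obtain ⟨v, c, hv, hc, hv0, hc0, rfl⟩ := hg
  obtain ⟨h, rfl⟩ := QuotientGroup.mk_surjective y
  refine ⟨act h v, c, by rw [herm_act, hv], hc, fun h1 => hv0 ((act_eq_zero h).1 h1), hc0, ?_⟩
  rw [← conj_utv hF hv hc h]
  rfl

theorem utv_smul_iff (hF : Fintype.card F = q ^ 2) {v : Fin n → F} {c : F} (hv : hermForm n F q v v = 0)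
    (hc : c + c ^ q = 0) (hv0 : v ≠ 0) (hc0 : c ≠ 0) {w : Fin n → F} (hw0 : w ≠ 0) (hw : hermForm n F q w w = 0) :
    utv hF v c hv hc • pt w hw0 hw = pt w hw0 hw ↔ hermForm n F q w v = 0 := by
  rw [smul_pt, pt_eq_iff, act_utv]
  constructor
  · rintro ⟨a, ha, h⟩
    by_contra h1
    have h2 : (c * hermForm n F q w v) • v = (a - 1) • w := by
      rw [sub_smul, one_smul, ← h]
      abel
    have h3 : c * hermForm n F q w v ≠ 0 := mul_ne_zero hc0 h1
    have h4 : hermForm n F q w ((c * hermForm n F q w v) • v) = 0 := by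
      rw [h2, herm_smul_right, hw, mul_zero]
    rw [herm_smul_right] at h4
    rcases mul_eq_zero.1 h4 with h5 | h5
    · exact h3 ((pow_q_eq_zero hF).1 h5)
    · exact h1 h5
  · intro h
    exact ⟨1, one_ne_zero, by rw [h, mul_zero, zero_smul, add_zero, one_smul]⟩

theorem fx_trv (hF : Fintype.card F = q ^ 2) (hn : 3 ≤ n) {k l : ℕ} (hr3 : R3 (SU n F q) (Pt n F q) _root_.Cfsg.Agent.H113.PSU.Points.Rel k l)
    {g : PSU n F q} (hg : g ∈ trv hF n) : letI := actU hF hn; fx (PSU n F q) (Pt n F q) g = 1 + k := by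
  let _ := actU hF hn
  obtain ⟨v, c, hv, hc, hv0, hc0, rfl⟩ := hg
  have hfin : Finite (Pt n F q) := inferInstance
  have h1 : (MulAction.fixedBy (Pt n F q) (QuotientGroup.mk (utv hF v c hv hc) : PSU n F q)) =
      insert (pt v hv0 hv) {x | _root_.Cfsg.Agent.H113.PSU.Points.Rel (pt v hv0 hv) x} := by
    ext x
    obtain ⟨w, hw0, hw, rfl⟩ := exists_pt x
    rw [MulAction.mem_fixedBy, actU_mk, utv_smul_iff hF hv hc hv0 hc0, Set.mem_insert_iff, Set.mem_setOf_eq,
      rel_iff hF, pt_eq_iff]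
    constructor
    · intro h
      by_cases h2 : ∃ a : F, a ≠ 0 ∧ v = a • w
      · left
        obtain ⟨a, ha, h3⟩ := h2
        exact ⟨a⁻¹, inv_ne_zero ha, by rw [h3, smul_smul, inv_mul_cancel₀ ha, one_smul]⟩
      · exact Or.inr ⟨h2, herm_eq_zero_swap hF h⟩
    · rintro (⟨a, ha, rfl⟩ | ⟨-, h⟩)
      · rw [herm_smul_left, hv, mul_zero]
      · exact herm_eq_zero_swap hF h
  unfold fx
  have h2 : pt v hv0 hv ∉ {x | _root_.Cfsg.Agent.H113.PSU.Points.Rel (pt v hv0 hv) x} := hr3.irr _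
  rw [h1, Nat.card_coe_set_eq, Set.ncard_insert_of_notMem h2, ← Nat.card_coe_set_eq, add_comm]
  congr 1
  exact hr3.cardk _

theorem nR_trv (hF : Fintype.card F = q ^ 2) (hn : 3 ≤ n) {g : PSU n F q} (hg : g ∈ trv hF n) :
    letI := actU hF hn; nR (PSU n F q) (X := Pt n F q) _root_.Cfsg.Agent.H113.PSU.Points.Rel g = 0 := by
  let _ := actU hF hn
  obtain ⟨v, c, hv, hc, hv0, hc0, rfl⟩ := hg
  unfold nR
  rw [Nat.card_eq_zero]
  left
  constructor
  rintro ⟨x, hx⟩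
  obtain ⟨w, hw0, hw, rfl⟩ := exists_pt x
  rw [actU_mk, smul_pt, rel_iff hF, act_utv, herm_add_right hF, hw, herm_smul_right, zero_add] at hx
  obtain ⟨h1, h2⟩ := hx
  by_cases h3 : hermForm n F q w v = 0
  · exact h1 ⟨1, one_ne_zero, by rw [h3, mul_zero, zero_smul, add_zero, one_smul]⟩
  · rcases mul_eq_zero.1 h2 with h4 | h4
    · exact mul_ne_zero hc0 h3 ((pow_q_eq_zero hF).1 h4)
    · exact h3 h4

theorem card_trace_zero (hF : Fintype.card F = q ^ 2) : Nat.card {x : F // x + x ^ q = 0} = q := by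
  obtain ⟨c0, hc0, hc⟩ := exists_trace_zero_ne hF
  have hcq : c0 ^ q = -c0 := by linear_combination hc
  refine (Nat.card_congr ?_).trans (card_fixed hF)
  exact
    { toFun := fun x => ⟨c0⁻¹ * x.1, by
        have h1 : x.1 ^ q = -x.1 := by linear_combination x.2
        rw [mul_pow, inv_pow, hcq, h1, inv_neg, neg_mul_neg]⟩
      invFun := fun x => ⟨c0 * x.1, by rw [mul_pow, hcq, x.2]; ring⟩
      left_inv := fun x => Subtype.ext (mul_inv_cancel_left₀ hc0 _)
      right_inv := fun x => Subtype.ext (inv_mul_cancel_left₀ hc0 _) }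

theorem card_trace_zero_ne (hF : Fintype.card F = q ^ 2) : Nat.card {x : F // x + x ^ q = 0 ∧ x ≠ 0} = q - 1 := by
  have h1 : ({x : F | x + x ^ q = 0 ∧ x ≠ 0}) = {x : F | x + x ^ q = 0} \ {0} := by
    ext x
    simp only [_root_.ne_eq, _root_.Set.mem_ofPred_eq, _root_.Set.mem_sdiff, _root_.Set.mem_singleton_iff]
  have h2 : Nat.card {x : F // x + x ^ q = 0 ∧ x ≠ 0} = ({x : F | x + x ^ q = 0} \ {0}).ncard := by
    rw [← h1]
    exact Nat.card_coe_set_eq _
  rw [h2, Set.ncard_diff_singleton_of_mem (by simp only [zero_pow_q hF, _root_.Set.mem_ofPred_eq, _root_.add_zero])]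
  have h3 : ({x : F | x + x ^ q = 0}).ncard = q := card_trace_zero hF
  rw [h3]

theorem utv_inj (hF : Fintype.card F = q ^ 2) (hn : 3 ≤ n) {v v' : Fin n → F} {c c' : F}
    (hv : hermForm n F q v v = 0) (hc : c + c ^ q = 0) (hv' : hermForm n F q v' v' = 0) (hc' : c' + c' ^ q = 0)
    (hv0 : v ≠ 0) (hc0 : c ≠ 0)
    (h : (QuotientGroup.mk (utv hF v c hv hc) : PSU n F q) = QuotientGroup.mk (utv hF v' c' hv' hc')) :
    ∀ w, (c * hermForm n F q w v) • v = (c' * hermForm n F q w v') • v' := by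
  obtain ⟨z, hz, hz2⟩ := Cfsg.Agent.ClassicalGeometry.PSUAutBasic.exists_center_mul h
  obtain ⟨a, ha0, -, ha⟩ := Cfsg.Agent.ClassicalGeometry.PSUAutBasic.exists_scalar_of_mem_center hF hn hz
  have h1 : ∀ w, w + (c' * hermForm n F q w v') • v' = a • (w + (c * hermForm n F q w v) • v) := by
    intro w
    have h2 := congrArg (fun g => act g w) hz2
    simp only [act_utv, act_mul] at h2
    rw [h2, ha, herm_smul_left, smul_add, smul_smul]
    congr 2
    ring
  -- a nonzero vector orthogonal to both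
  obtain ⟨w, hw0, hwv, hwv'⟩ : ∃ w : Fin n → F, w ≠ 0 ∧ hermForm n F q w v = 0 ∧ hermForm n F q w v' = 0 := by
    let f : (Fin n → F) →ₗ[F] (Fin 2 → F) :=
      { toFun := fun w => ![hermForm n F q w v, hermForm n F q w v']
        map_add' := fun x y => by
          rw [herm_add_left, herm_add_left]
          simp
        map_smul' := fun a x => by
          rw [herm_smul_left, herm_smul_left]
          simp }
    have h2 : LinearMap.ker f ≠ ⊥ := by
      apply LinearMap.ker_ne_bot_of_finrank_lt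
      rw [Module.finrank_fin_fun, Module.finrank_fin_fun]
      omega
    obtain ⟨w, hw, hw0⟩ := Submodule.exists_mem_ne_zero_of_ne_bot h2
    have h3 : f w = 0 := hw
    exact ⟨w, hw0, congrFun h3 0, congrFun h3 1⟩
  have h2 := h1 w
  rw [hwv, hwv', mul_zero, mul_zero, zero_smul, zero_smul, add_zero] at h2
  have h3 : a = 1 := by
    by_contra h3
    have h4 : (a - 1) • w = 0 := by rw [sub_smul, one_smul, ← h2, sub_self]
    rcases smul_eq_zero.1 h4 with h5 | h5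
    · exact h3 (sub_eq_zero.1 h5)
    · exact hw0 h5
  intro w
  have h4 := h1 w
  rw [h3, one_smul] at h4
  exact (add_left_cancel h4).symm

theorem card_trv (hF : Fintype.card F = q ^ 2) (hn : 3 ≤ n) :
    Nat.card (trv hF n) = (q - 1) * Nat.card (Pt n F q) := by
  classical
  have hrep : ∀ x : Pt n F q, ∃ (v : Fin n → F) (h0 : v ≠ 0) (h : hermForm n F q v v = 0), x = pt v h0 h := exists_pt
  choose r hr0 hr hrx using hrep
  have hbij : Function.Bijective (fun y : Pt n F q × {x : F // x + x ^ q = 0 ∧ x ≠ 0} =>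
      (⟨(QuotientGroup.mk (utv hF (r y.1) y.2.1 (hr y.1) y.2.2.1) : PSU n F q),
        r y.1, y.2.1, hr y.1, y.2.2.1, hr0 y.1, y.2.2.2, rfl⟩ : trv hF n)) := by
    constructor
    · rintro ⟨x, c, hc, hc0⟩ ⟨x', c', hc', hc0'⟩ h
      have h1 := utv_inj hF hn (hr x) hc (hr x') hc' (hr0 x) hc0 (congrArg Subtype.val h)
      obtain ⟨y, hy'⟩ := Cfsg.Agent.LieClassical.HermBasic.exists_herm_ne_zero hF (hr0 x)
      have hy : hermForm n F q y (r x) ≠ 0 := fun h => hy' (herm_eq_zero_swap hF h)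
      have h2 := h1 y
      have hxx : x = x' := by
        rw [hrx x, hrx x', pt_eq_iff]
        have h3 : c * hermForm n F q y (r x) ≠ 0 := mul_ne_zero hc0 hy
        have h4 : c' * hermForm n F q y (r x') ≠ 0 := by
          intro h5
          rw [h5, zero_smul] at h2
          rcases smul_eq_zero.1 h2 with h6 | h6
          · exact h3 h6
          · exact hr0 x h6
        refine ⟨(c * hermForm n F q y (r x))⁻¹ * (c' * hermForm n F q y (r x')), mul_ne_zero (inv_ne_zero h3) h4, ?_⟩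
        rw [mul_smul, ← h2, smul_smul, inv_mul_cancel₀ h3, one_smul]
      subst hxx
      have h3 : ((c - c') * hermForm n F q y (r x)) • r x = 0 := by
        rw [sub_mul, sub_smul, h2, sub_self]
      rcases smul_eq_zero.1 h3 with h4 | h4
      · rcases mul_eq_zero.1 h4 with h5 | h5
        · rw [Prod.mk.injEq, Subtype.mk.injEq]
          exact ⟨rfl, sub_eq_zero.1 h5⟩
        · exact absurd h5 hy
      · exact absurd h4 (hr0 x)
    · rintro ⟨g, v, c, hv, hc, hv0, hc0, rfl⟩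
      obtain ⟨a, ha, hav⟩ := pt_eq_iff.1 (hrx (pt v hv0 hv))
      set u := r (pt v hv0 hv) with hu
      have hN : (a * a ^ q) ^ q = a * a ^ q := norm_pow_q hF a
      have hc' : c * (a * a ^ q) + (c * (a * a ^ q)) ^ q = 0 := by
        rw [mul_pow, hN, ← add_mul, hc, zero_mul]
      refine ⟨(pt v hv0 hv, ⟨c * (a * a ^ q), hc', mul_ne_zero hc0 (mul_ne_zero ha (pow_ne_zero _ ha))⟩), ?_⟩
      apply Subtype.ext
      show (QuotientGroup.mk (utv hF u (c * (a * a ^ q)) _ hc') : PSU n F q) = QuotientGroup.mk (utv hF v c hv hc)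
      congr 1
      apply ext_act
      intro x
      rw [act_utv, act_utv, hav, herm_smul_right, smul_smul]
      congr 2
      ring
  rw [← Nat.card_congr (Equiv.ofBijective _ hbij), Nat.card_prod, card_trace_zero_ne hF, mul_comm]

/-! ### the rank 3 characters -/

/-- `p ∣ q + 1` divides the number of common neighbours -/
theorem dvd_b {p q m b : ℕ} (hq : 2 ≤ q) (hm : 2 ≤ m) (hp : p ∣ q + 1)
    (hb : ((q : ℤ) ^ 2 - 1) * b = ((q : ℤ) ^ m - (-1) ^ m) * (q ^ (m - 1) + (-1) ^ m)) : (p : ℤ) ∣ b := by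
  have hpZ : (p : ℤ) ∣ (q : ℤ) + 1 := by exact_mod_cast hp
  have hpos : (0 : ℤ) < (q : ℤ) ^ 2 - 1 := by
    have : (2 : ℤ) ≤ q := by exact_mod_cast hq
    nlinarith only [hq]
  have hodd : ∀ j : ℕ, Odd j → (p : ℤ) ∣ (q : ℤ) ^ j + 1 := by
    intro j hj
    have h1 : (q : ℤ) + 1 ∣ (q : ℤ) ^ j + 1 ^ j := Odd.add_dvd_pow_add_pow _ _ hj
    rw [one_pow] at h1
    exact hpZ.trans h1
  have heven : ∀ j : ℕ, ∃ c : ℤ, (q : ℤ) ^ (2 * j) - 1 = ((q : ℤ) ^ 2 - 1) * c := by
    intro j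
    have h1 : (q : ℤ) ^ 2 - 1 ∣ ((q : ℤ) ^ 2) ^ j - 1 ^ j := sub_dvd_pow_sub_pow _ _ j
    rw [one_pow, ← pow_mul] at h1
    exact h1
  rcases Nat.even_or_odd m with hev | hod
  · obtain ⟨j, hj⟩ := hev
    obtain ⟨c, hc⟩ := heven j
    have e1 : (-1 : ℤ) ^ m = 1 := Even.neg_one_pow ⟨j, hj⟩
    have e2 : m = 2 * j := by omega
    rw [e1] at hb
    have h3 : (q : ℤ) ^ m - 1 = ((q : ℤ) ^ 2 - 1) * c := by rw [← hc, ← e2]
    rw [h3, mul_assoc] at hb
    have h4 := mul_left_cancel₀ hpos.ne' hb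
    rw [h4]
    exact Dvd.dvd.mul_left (hodd _ (by rw [Nat.odd_iff]; omega)) _
  · obtain ⟨j, hj⟩ := hod
    obtain ⟨c, hc⟩ := heven j
    have e1 : (-1 : ℤ) ^ m = -1 := Odd.neg_one_pow ⟨j, hj⟩
    have e2 : m - 1 = 2 * j := by omega
    rw [e1] at hb
    have h3 : (q : ℤ) ^ (m - 1) + -1 = ((q : ℤ) ^ 2 - 1) * c := by rw [← hc, ← e2]; ring
    rw [h3, sub_neg_eq_add, mul_left_comm] at hb
    have h4 := mul_left_cancel₀ hpos.ne' hb
    rw [h4]
    exact Dvd.dvd.mul_right (hodd _ ⟨j, hj⟩) _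

/-- **`p ∣ q + 1`, `l` prime to `q (q² - 1)`** -/
theorem not_same_pts {m p l : ℕ} (hF : Fintype.card F = q ^ 2) (hm : 2 ≤ m) (hp : p.Prime) (hl : l.Prime)
    (hpq : p ∣ q + 1) (h0 : ¬ l ∣ q) (h1 : ¬ l ∣ q - 1) (h2 : ¬ l ∣ q + 1) : ¬ Same p l (PSU (m + 2) F q) := by
  intro hsame
  have hq2 := two_le hF
  obtain ⟨b, hb0, hb, hr3', x₀, y₀, hxy, hR, hcom⟩ := H113.PSU.Points.r3 (F := F) (m := m) hF hm
  have hn3 : 3 ≤ m + 2 := by omega
  let _ := actU (F := F) hF hn3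
  have hr3 : R3 (PSU (m + 2) F q) (Pt (m + 2) F q) _root_.Cfsg.Agent.H113.PSU.Points.Rel (q ^ 2 * b) (q ^ (2 * m + 1)) :=
    r3_of_surj (fun g : SU (m + 2) F q => (QuotientGroup.mk g : PSU (m + 2) F q)) (fun g x => rfl)
      QuotientGroup.mk_surjective hr3'
  have hfinG : Finite (PSU (m + 2) F q) := inferInstance
  have hdb := dvd_b hq2 hm hpq hb
  obtain ⟨e, he⟩ : ∃ e : ℤ, e = (-1) ^ m := ⟨_, rfl⟩
  have hee : e * e = 1 := by rw [he, ← mul_pow]; simp
  rw [← he] at hb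
  obtain ⟨Q, hQ⟩ : ∃ Q : ℤ, Q = (q : ℤ) := ⟨_, rfl⟩
  have hQ2 : 2 ≤ Q := by rw [hQ]; exact_mod_cast hq2
  obtain ⟨P, hP⟩ : ∃ P : ℤ, P = (q : ℤ) ^ (m - 1) := ⟨_, rfl⟩
  have hP0 : 0 < P := by rw [hP]; positivity
  have hm0 : (q : ℤ) ^ m = Q * P := by
    rw [hP, hQ, ← pow_succ']; congr 1; omega
  have hm1 : (q : ℤ) ^ (m + 1) = Q ^ 2 * P := by rw [pow_succ, hm0, ← hQ]; ring
  have hl' : ((q ^ (2 * m + 1) : ℕ) : ℤ) = Q ^ 3 * P ^ 2 := by
    push_cast
    have : 2 * m + 1 = m + (m + 1) := by ring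
    rw [this, pow_add, hm0, hm1]; ring
  have hkl : ((q ^ 2 * b : ℕ) : ℤ) = Q ^ 2 * b := by push_cast; rw [hQ]
  rw [hm0, ← hP, ← hQ] at hb
  have hne : e ≠ 0 := by rintro rfl; rw [zero_mul] at hee; exact zero_ne_one hee
  have hd : (e * (Q * P) - 1) - (-(e * P) - 1) ≠ 0 := by
    have : (e * (Q * P) - 1) - (-(e * P) - 1) = e * P * (Q + 1) := by ring
    rw [this]
    exact mul_ne_zero (mul_ne_zero hne hP0.ne') (by omega)
  have hrs : (e * (Q * P) - 1) ≠ (-(e * P) - 1) := sub_ne_zero.1 hd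
  have hA : (e * (Q * P) - 1) * (-(e * P) - 1) = (b : ℤ) - ((q ^ 2 * b : ℕ) : ℤ) := by
    rw [hkl]
    linear_combination hb - (Q * P ^ 2) * hee - hee
  have hB : ((q ^ 2 * b : ℕ) : ℤ) * ((e * (Q * P) - 1) + (-(e * P) - 1) + b) =
      ((q ^ 2 * b : ℕ) : ℤ) * ((q ^ 2 * b : ℕ) : ℤ) - ((q ^ 2 * b : ℕ) : ℤ) - ((q ^ (2 * m + 1) : ℕ) : ℤ) * b := by
    rw [hl', hkl]
    linear_combination (-(Q ^ 2 * b)) * hb + (Q ^ 2 * b) * hee
  have hA' : (-(e * P) - 1) * (e * (Q * P) - 1) = (b : ℤ) - ((q ^ 2 * b : ℕ) : ℤ) := by rw [mul_comm]; exact hA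
  have hB' : ((q ^ 2 * b : ℕ) : ℤ) * ((-(e * P) - 1) + (e * (Q * P) - 1) + b) =
      ((q ^ 2 * b : ℕ) : ℤ) * ((q ^ 2 * b : ℕ) : ℤ) - ((q ^ 2 * b : ℕ) : ℤ) - ((q ^ (2 * m + 1) : ℕ) : ℤ) * b := by
    rw [add_comm (-(e * P) - 1)]; exact hB
  obtain ⟨χ₁, χ₂, hv1, hv2⟩ := frame_vals hr3 hxy hR hcom hrs hA hB
  -- congruences modulo `p`
  have hpZ : (p : ℤ) ∣ Q + 1 := by rw [hQ]; exact_mod_cast hpq
  have hQm : ∀ j : ℕ, (p : ℤ) ∣ (q : ℤ) ^ j - (-1) ^ j := by
    intro j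
    have h3 : (q : ℤ) - -1 ∣ (q : ℤ) ^ j - (-1) ^ j := sub_dvd_pow_sub_pow _ _ j
    refine dvd_trans ?_ h3
    rw [← hQ, sub_neg_eq_add]
    exact hpZ
  have c1 : (p : ℤ) ∣ Q * P - e := by rw [← hm0, he]; exact hQm m
  have c2 : (p : ℤ) ∣ P + e := by
    have h3 := hQm (m - 1)
    rw [← hP] at h3
    have h4 : (-1 : ℤ) ^ (m - 1) = -e := by
      rw [he]
      obtain ⟨j, rfl⟩ : ∃ j, m = j + 1 := ⟨m - 1, by omega⟩
      rw [Nat.add_sub_cancel, pow_succ]
      ring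
    rwa [h4, sub_neg_eq_add] at h3
  have d1 : (p : ℤ) ∣ (e * (Q * P) - 1) := by
    have : e * (Q * P) - 1 = e * (Q * P - e) := by linear_combination hee
    rw [this]
    exact Dvd.dvd.mul_left c1 _
  have d2 : (p : ℤ) ∣ (-(e * P) - 1) := by
    have : -(e * P) - 1 = -e * (P + e) := by linear_combination hee
    rw [this]
    exact Dvd.dvd.mul_left c2 _
  have d3 : (p : ℤ) ∣ ((q ^ 2 * b : ℕ) : ℤ) := by
    rw [hkl]
    exact Dvd.dvd.mul_left hdb _
  have d4 : (p : ℤ) ∣ ((q ^ (2 * m + 1) : ℕ) : ℤ) + 1 := by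
    have h3 := hQm (2 * m + 1)
    have h4 : (-1 : ℤ) ^ (2 * m + 1) = -1 := Odd.neg_one_pow ⟨m, rfl⟩
    rw [h4, sub_neg_eq_add] at h3
    push_cast
    exact h3
  have m1 : χ₁ ∈ B0 p (PSU (m + 2) F q) := mem_of_r3 hr3 hp hrs hA hB hv1 (dvd_sub d1 d3) (dvd_add d4 d1)
  have m2 : χ₂ ∈ B0 p (PSU (m + 2) F q) := mem_of_r3 hr3 hp hrs.symm hA' hB' hv2 (dvd_sub d2 d3) (dvd_add d4 d2)
  have hsame' : B0 p (PSU (m + 2) F q) = B0 l (PSU (m + 2) F q) := hsame
  rw [hsame'] at m1 m2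
  have hc := card_trv (F := F) hF hn3
  have l1 := dvd_of_r3 hr3 hl hrs hA hB hv1 m1 (trv hF (m + 2)) (fun g hg y => trv_conj hF hg y) hc
    (fun g hg => fx_trv hF hn3 hr3' hg) (fun g hg => nR_trv hF hn3 hg)
  have l2 := dvd_of_r3 hr3 hl hrs.symm hA' hB' hv2 m2 (trv hF (m + 2)) (fun g hg y => trv_conj hF hg y) hc
    (fun g hg => fx_trv hF hn3 hr3' hg) (fun g hg => nR_trv hF hn3 hg)
  have hlP : Prime (l : ℤ) := Nat.prime_iff_prime_int.1 hl
  have hlq1 : ¬ (l : ℤ) ∣ ((q - 1 : ℕ) : ℤ) := by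
    intro h3
    exact h1 (by exact_mod_cast h3)
  have hlQ : ¬ (l : ℤ) ∣ Q := by
    rw [hQ]
    intro h3
    exact h0 (by exact_mod_cast h3)
  have hlP' : ¬ (l : ℤ) ∣ P := by
    rw [hP]
    intro h3
    have h4 := hlP.dvd_of_dvd_pow h3
    rw [← hQ] at h4
    exact hlQ h4
  have hle : ¬ (l : ℤ) ∣ e := by
    intro h3
    have h4 : (l : ℤ) ∣ 1 := by rw [← hee]; exact Dvd.dvd.mul_left h3 _
    have h5 : l ∣ 1 := by exact_mod_cast h4
    exact hl.one_lt.ne' (Nat.dvd_one.1 h5)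
  rw [hl'] at l1 l2
  have e1 : Q ^ 3 * P ^ 2 + 1 + (e * (Q * P) - 1) = Q * P * (Q ^ 2 * P + e) := by ring
  have e2 : Q ^ 3 * P ^ 2 + 1 + (-(e * P) - 1) = P * (Q ^ 3 * P - e) := by ring
  rw [e1] at l1
  rw [e2] at l2
  have f1 : (l : ℤ) ∣ Q ^ 2 * P + e := by
    rcases hlP.dvd_or_dvd l1 with h3 | h3
    · exact absurd h3 hlq1
    · rcases hlP.dvd_or_dvd h3 with h4 | h4
      · rcases hlP.dvd_or_dvd h4 with h5 | h5
        · exact absurd h5 hlQ
        · exact absurd h5 hlP'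
      · exact h4
  have f2 : (l : ℤ) ∣ Q ^ 3 * P - e := by
    rcases hlP.dvd_or_dvd l2 with h3 | h3
    · exact absurd h3 hlq1
    · rcases hlP.dvd_or_dvd h3 with h4 | h4
      · exact absurd h4 hlP'
      · exact h4
  have f3 : (l : ℤ) ∣ e * (Q + 1) := by
    have : e * (Q + 1) = Q * (Q ^ 2 * P + e) - (Q ^ 3 * P - e) := by ring
    rw [this]
    exact dvd_sub (Dvd.dvd.mul_left f1 _) f2
  rcases hlP.dvd_or_dvd f3 with h3 | h3
  · exact hle h3
  · apply h2
    rw [hQ] at h3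
    exact_mod_cast h3

/-! ### the torus -/

/-- diagonal elements -/
def IsDiag (g : SU n F q) (t : Fin n → F) : Prop := ∀ x : Fin n → F, act g x = fun i => t i * x i

theorem exists_diag (hF : Fintype.card F = q ^ 2) {t : Fin n → F} (ht : ∀ i, t i * t i ^ q = 1) (hd : ∏ i, t i = 1) :
    ∃ g : SU n F q, IsDiag g t := by
  have h1 : ∀ x : Fin n → F, (Matrix.diagonal t).mulVec x = fun i => t i * x i := by
    intro x
    funext i
    rw [Matrix.mulVec_diagonal]
  refine ⟨Cfsg.Agent.ClassicalGeometry.UnitTransv.mk (Matrix.diagonal t) (by rw [Matrix.det_diagonal, hd])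
    (fun x y => ?_), fun x => h1 x⟩
  rw [h1, h1, herm_def, herm_def]
  refine Finset.sum_congr rfl fun i _ => ?_
  rw [mul_pow]
  linear_combination (x i * y i ^ q) * ht i

theorem IsDiag.mul {g h : SU n F q} {t t' : Fin n → F} (hg : IsDiag g t) (hh : IsDiag h t') :
    IsDiag (g * h) (fun i => t i * t' i) := by
  intro x
  rw [act_mul, hh, hg]
  funext i
  ring

theorem IsDiag.comm {g h : SU n F q} {t t' : Fin n → F} (hg : IsDiag g t) (hh : IsDiag h t') : g * h = h * g := by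
  apply ext_act
  intro x
  rw [hg.mul hh, hh.mul hg]
  funext i
  ring

theorem IsDiag.one : IsDiag (1 : SU n F q) (fun _ => 1) := by
  intro x
  rw [act_one]
  funext i
  rw [one_mul]

theorem IsDiag.inv {g : SU n F q} {t : Fin n → F} (hg : IsDiag g t) (ht : ∀ i, t i ≠ 0) :
    IsDiag g⁻¹ (fun i => (t i)⁻¹) := by
  intro x
  have h1 : act g (fun i => (t i)⁻¹ * x i) = x := by
    rw [hg]
    funext i
    exact mul_inv_cancel_left₀ (ht i) _
  conv_lhs => rw [← h1]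
  rw [act_inv_act]

theorem IsDiag.pow {g : SU n F q} {t : Fin n → F} (hg : IsDiag g t) (k : ℕ) : IsDiag (g ^ k) (fun i => t i ^ k) := by
  induction k with
  | zero => simpa using IsDiag.one
  | succ k ih =>
    rw [pow_succ]
    have := ih.mul hg
    intro x
    rw [this x]
    funext i
    simp only [pow_succ]

/-- the diagonal elements of order `p` -/
def dtor (n : ℕ) (F : Type u) [Field F] [Fintype F] (q : ℕ) {p : ℕ} (hp : p ≠ 0) : Subgroup (SU n F q) where
  carrier := {g | ∃ t : Fin n → F, (∀ i, t i ^ p = 1) ∧ IsDiag g t}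
  one_mem' := ⟨fun _ => 1, fun _ => one_pow p, IsDiag.one⟩
  mul_mem' := by
    rintro g h ⟨t, ht, hg⟩ ⟨t', ht', hh⟩
    exact ⟨_, fun i => by rw [mul_pow, ht, ht', one_mul], hg.mul hh⟩
  inv_mem' := by
    rintro g ⟨t, ht, hg⟩
    refine ⟨_, fun i => by rw [inv_pow, ht, inv_one], hg.inv fun i h => ?_⟩
    have := ht i
    rw [h, zero_pow hp] at this
    exact zero_ne_one this

/-- one coordinate `z`, one coordinate `z⁻¹` -/
def tt (i a : Fin n) (z : F) : Fin n → F := fun k => (if k = i then z else 1) * (if k = a then z⁻¹ else 1)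

theorem prod_tt (i a : Fin n) {z : F} (hz : z ≠ 0) : ∏ k, tt i a z k = 1 := by
  unfold tt
  rw [Finset.prod_mul_distrib, Finset.prod_ite_eq', Finset.prod_ite_eq', if_pos (Finset.mem_univ _),
    if_pos (Finset.mem_univ _), mul_inv_cancel₀ hz]

theorem tt_pow (i a : Fin n) {z : F} {p : ℕ} (hz : z ^ p = 1) (k : Fin n) : tt i a z k ^ p = 1 := by
  unfold tt
  rw [mul_pow, ite_pow, ite_pow, inv_pow, hz, inv_one, one_pow, ite_self, ite_self, one_mul]

theorem exists_tt (hF : Fintype.card F = q ^ 2) (i a : Fin n) {z : F} {p : ℕ} (hz : z ^ p = 1) (hp0 : p ≠ 0)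
    (hpq : p ∣ q + 1) : ∃ g : SU n F q, IsDiag g (tt i a z) := by
  have hz0 : z ≠ 0 := by
    rintro rfl
    rw [zero_pow hp0] at hz
    exact zero_ne_one hz
  refine exists_diag hF (fun k => ?_) (prod_tt i a hz0)
  obtain ⟨c, hc⟩ := hpq
  rw [← pow_succ', hc, pow_mul, tt_pow i a hz, one_pow]

/-- an element of prime order `p ∣ q + 1` -/
theorem exists_zeta (hF : Fintype.card F = q ^ 2) {p : ℕ} (hp : p.Prime) (hpq : p ∣ q + 1) :
    ∃ z : F, z ^ p = 1 ∧ z ≠ 1 := by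
  have : Fact p.Prime := ⟨hp⟩
  have h1 : p ∣ Nat.card Fˣ := by
    rw [card_units_eq hF]
    exact Dvd.dvd.mul_right hpq _
  obtain ⟨z, hz⟩ := exists_prime_orderOf_dvd_card' (G := Fˣ) p h1
  refine ⟨z, ?_, ?_⟩
  · rw [← Units.val_pow_eq_pow_val, ← hz, pow_orderOf_eq_one, Units.val_one]
  · intro h
    have h2 : z = 1 := Units.ext h
    rw [h2, orderOf_one] at hz
    exact hp.one_lt.ne hz

/-- the elements commuting with the diagonal elements of order `p` modulo scalars are diagonal -/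
theorem diag_of_comm (hF : Fintype.card F = q ^ 2) (hn : 4 ≤ n) {p : ℕ} (hp : p.Prime) (hp2 : p ≠ 2)
    (hpq : p ∣ q + 1) {g : SU n F q}
    (hg : ∀ d ∈ dtor n F q hp.ne_zero, (QuotientGroup.mk (d * g) : PSU n F q) = QuotientGroup.mk (g * d)) :
    ∃ t : Fin n → F, IsDiag g t := by
  classical
  have key : ∀ i j : Fin n, i ≠ j → act g (Pi.single j 1) i = 0 := by
    intro i j hij
    by_contra h0
    obtain ⟨i', hi'⟩ : ∃ i', act g (Pi.single i 1) i' ≠ 0 := by
      by_contra hcon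
      push Not at hcon
      have h1 : act g (Pi.single i (1 : F)) = 0 := funext hcon
      rw [act_eq_zero] at h1
      have h2 := congrFun h1 i
      rw [Pi.single_eq_same, Pi.zero_apply] at h2
      exact one_ne_zero h2
    obtain ⟨a, ha⟩ : ∃ a : Fin n, a ∉ ({i, j, i'} : Finset (Fin n)) := by
      by_contra hcon
      push Not at hcon
      have h1 : (Finset.univ : Finset (Fin n)) ⊆ {i, j, i'} := fun x _ => hcon x
      have h2 := Finset.card_le_card h1
      rw [Finset.card_univ, Fintype.card_fin] at h2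
      have h3 : ({i, j, i'} : Finset (Fin n)).card ≤ 3 := Finset.card_le_three
      omega
    simp only [Finset.mem_insert, Finset.mem_singleton, not_or] at ha
    obtain ⟨z, hz, hz1⟩ := exists_zeta hF hp hpq
    obtain ⟨d, hd⟩ := exists_tt (n := n) hF i a hz hp.ne_zero hpq
    obtain ⟨w, hw, hw2⟩ := Cfsg.Agent.ClassicalGeometry.PSUAutBasic.exists_center_mul
      (hg d ⟨_, fun k => tt_pow i a hz k, hd⟩)
    obtain ⟨lam, hl0, -, hlam⟩ := Cfsg.Agent.ClassicalGeometry.PSUAutBasic.exists_scalar_of_mem_center hF (by omega) hw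
    -- `g d = d g w`
    have h1 : ∀ (j' i'' : Fin n), tt i a z j' * act g (Pi.single j' 1) i'' =
        lam * (tt i a z i'' * act g (Pi.single j' 1) i'') := by
      intro j' i''
      have h2 := congrArg (fun h => act h (Pi.single j' 1) i'') hw2
      simp only [act_mul, hlam, act_smul] at h2
      have h3 : act d (Pi.single j' 1) = tt i a z j' • (Pi.single j' 1 : Fin n → F) := by
        rw [hd]
        funext k
        by_cases hk : k = j'
        · subst hk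
          simp
        · rw [Pi.smul_apply, Pi.single_eq_of_ne hk, smul_zero, mul_zero]
      rw [h3, act_smul] at h2
      rw [hd] at h2
      simp only [Pi.smul_apply, smul_eq_mul] at h2
      exact h2
    have h2 := h1 j i
    have h3 := h1 i i'
    have e1 : tt i a z j = lam * tt i a z i := mul_right_cancel₀ h0 (by rw [h2]; ring)
    have e2 : tt i a z i = lam * tt i a z i' := mul_right_cancel₀ hi' (by rw [h3]; ring)
    have f1 : tt i a z j = 1 := by
      unfold tt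
      rw [if_neg hij.symm, if_neg (fun h => ha.2.1 h.symm), one_mul]
    have f2 : tt i a z i = z := by
      unfold tt
      rw [if_pos rfl, if_neg (fun h => ha.1 h.symm), mul_one]
    rw [f1, f2] at e1
    rw [f2] at e2
    by_cases h4 : i' = i
    · rw [h4, f2] at e2
      apply hz1
      rw [← e1] at e2
      exact e2
    · have f3 : tt i a z i' = 1 := by
        unfold tt
        rw [if_neg h4, if_neg (fun h => ha.2.2 h.symm), one_mul]
      rw [f3, mul_one] at e2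
      rw [← e2] at e1
      -- `z ^ 2 = 1`
      have h5 : z ^ 2 = 1 := by rw [sq]; exact e1.symm
      have h6 : orderOf z ∣ 2 := orderOf_dvd_of_pow_eq_one h5
      have h7 : orderOf z ∣ p := orderOf_dvd_of_pow_eq_one hz
      rcases (Nat.dvd_prime hp).1 h7 with h8 | h8
      · exact hz1 (orderOf_eq_one_iff.1 h8)
      · rw [h8] at h6
        exact hp2 ((Nat.prime_dvd_prime_iff_eq hp Nat.prime_two).1 h6)
  refine ⟨fun i => act g (Pi.single i 1) i, fun x => ?_⟩
  have h1 : act g x = ∑ j, x j • act g (Pi.single j 1) := by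
    conv_lhs => rw [← Finset.univ_sum_single x]
    have h2 : ∀ j, (Pi.single j (x j) : Fin n → F) = x j • Pi.single j 1 := by
      intro j
      rw [← Pi.single_smul, smul_eq_mul, mul_one]
    simp only [h2]
    rw [act_sum]
    simp only [act_smul]
  rw [h1]
  funext i
  rw [Finset.sum_apply, Finset.sum_eq_single i]
  · rw [Pi.smul_apply, smul_eq_mul, mul_comm]
  · intro j _ hj
    rw [Pi.smul_apply, key i j hj.symm, smul_zero]
  · intro h
    exact absurd (Finset.mem_univ i) h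

/-- **`p` odd, `p` and `l` divide `q + 1`** -/
theorem not_same_torus {p l : ℕ} (hF : Fintype.card F = q ^ 2) (hn : 4 ≤ n) (hp : p.Prime) (hl : l.Prime)
    (hpl : p ≠ l) (hp2 : p ≠ 2) (hpq : p ∣ q + 1) (hlq : l ∣ q + 1) : ¬ Same p l (PSU n F q) := by
  classical
  intro hsame
  have hfinG : Finite (PSU n F q) := inferInstance
  set D : Subgroup (PSU n F q) := (dtor n F q hp.ne_zero).map (QuotientGroup.mk' (Subgroup.center (SU n F q))) with hD
  have hDp : IsPGroup p D := by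
    rintro ⟨x, hx⟩
    obtain ⟨d, ⟨t, ht, hd⟩, rfl⟩ := hx
    refine ⟨1, Subtype.ext ?_⟩
    have h1 : d ^ p = 1 := by
      apply ext_act
      intro x
      rw [hd.pow p, act_one]
      funext i
      simp only [ht, one_mul]
    show (QuotientGroup.mk' (Subgroup.center (SU n F q)) d) ^ p ^ 1 = 1
    rw [pow_one, ← map_pow, h1, map_one]
  -- centralizing elements are diagonal
  have hcen : ∀ x ∈ Subgroup.centralizer (D : Set (PSU n F q)), ∃ (g : SU n F q) (t : Fin n → F),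
      IsDiag g t ∧ x = QuotientGroup.mk g := by
    intro x hx
    obtain ⟨g, rfl⟩ := QuotientGroup.mk_surjective x
    rw [Subgroup.mem_centralizer_iff] at hx
    obtain ⟨t, ht⟩ := diag_of_comm hF hn hp hp2 hpq (g := g) (fun d hd => hx _ ⟨d, hd, rfl⟩)
    exact ⟨g, t, ht, rfl⟩
  have hcomm : ∀ x y : ↥(Subgroup.centralizer (D : Set (PSU n F q))), x * y = y * x := by
    rintro ⟨x, hx⟩ ⟨y, hy⟩
    obtain ⟨g, t, hg, rfl⟩ := hcen x hx
    obtain ⟨h, t', hh, rfl⟩ := hcen y hy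
    apply Subtype.ext
    show (QuotientGroup.mk (g * h) : PSU n F q) = QuotientGroup.mk (h * g)
    rw [hg.comm hh]
  -- an element of order `l`
  obtain ⟨z, hz, hz1⟩ := exists_zeta hF hl hlq
  have i0 : Fin n := ⟨0, by omega⟩
  obtain ⟨g, hg⟩ := exists_tt (n := n) hF ⟨0, by omega⟩ ⟨1, by omega⟩ hz hl.ne_zero hlq
  have hgc : (QuotientGroup.mk g : PSU n F q) ∈ Subgroup.centralizer (D : Set (PSU n F q)) := by
    rw [Subgroup.mem_centralizer_iff]
    rintro _ ⟨d, ⟨t, ht, hd⟩, rfl⟩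
    show (QuotientGroup.mk (d * g) : PSU n F q) = QuotientGroup.mk (g * d)
    rw [hd.comm hg]
  have hgl : (QuotientGroup.mk g : PSU n F q) ^ l = 1 := by
    have h1 : g ^ l = 1 := by
      apply ext_act
      intro x
      rw [hg.pow l, act_one]
      funext i
      simp only [tt_pow _ _ hz, one_mul]
    rw [← QuotientGroup.mk_pow, h1, QuotientGroup.mk_one]
  have hg1 : (QuotientGroup.mk g : PSU n F q) ≠ 1 := by
    intro h
    have h1 : g ∈ Subgroup.center (SU n F q) := (QuotientGroup.eq_one_iff g).1 h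
    obtain ⟨lam, hl0, -, hlam⟩ := Cfsg.Agent.ClassicalGeometry.PSUAutBasic.exists_scalar_of_mem_center hF (by omega) h1
    have h2 : ∀ i, tt (⟨0, by omega⟩ : Fin n) ⟨1, by omega⟩ z i = lam := by
      intro i
      have h3 := congrFun (hg (fun _ => 1)) i
      rw [hlam, Pi.smul_apply, smul_eq_mul, mul_one, mul_one] at h3
      exact h3.symm
    have h3 := h2 ⟨0, by omega⟩
    have h4 := h2 ⟨2, by omega⟩
    apply hz1
    rw [← h4] at h3
    simpa [tt, Fin.ext_iff] using h3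
  have hord : orderOf (⟨QuotientGroup.mk g, hgc⟩ : ↥(Subgroup.centralizer (D : Set (PSU n F q)))) = l := by
    have : Fact l.Prime := ⟨hl⟩
    rw [Subgroup.orderOf_mk]
    exact orderOf_eq_prime hgl hg1
  set N : Subgroup ↥(Subgroup.centralizer (D : Set (PSU n F q))) := Subgroup.zpowers ⟨QuotientGroup.mk g, hgc⟩ with hN
  have hNn : N.Normal := by
    constructor
    intro x hx y
    rw [hcomm y x, mul_inv_cancel_right]
    exact hx
  have hNc : Nat.card N = l := by rw [hN, Nat.card_zpowers, hord]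
  refine Cfsg.Agent.H990.PQ.Same.core_subgroup hp hl hpl hsame D hDp N ?_ ?_
  · rw [hNc]
    intro h
    exact hpl ((Nat.prime_dvd_prime_iff_eq hp hl).1 h)
  · rw [hNc]

end Cfsg.Agent.H638.PQ.PSUOne
end

-- part: H638/PQ/PSURow
section
/-!
# S4612: `PSU_n(q)`, `n ≥ 4` (helper638)

* `not_same` : `p ∣ q + 1`, every `l` prime to `q`.
* `row_of` : the row from the pairs of two primes of unitary type which do not divide `q + 1`.
-/

set_option autoImplicit false

open Cfsg Cfsg.Agent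

namespace Cfsg.Agent.H638.PQ.PSURow

open Cfsg.Agent.H317.PQ Cfsg.Agent.H638.PQ.PSUOne

universe u

variable {F : Type u} [Field F] [Fintype F] {q n : ℕ}

/-- **`PSU_n(q)`, `n ≥ 4`, `p ∣ q + 1`** -/
theorem not_same {p l : ℕ} (hF : Fintype.card F = q ^ 2) (hn : 4 ≤ n) (hp : p.Prime) (hl : l.Prime) (hpl : p ≠ l)
    (hpq : p ∣ q + 1) (hlq : ¬ l ∣ q) (hd : l ∣ Nat.card (PSU n F q)) : ¬ Same p l (PSU n F q) := by
  have hq2 := LieClassical.HermBasic.two_le hF
  have hpq' : ¬ p ∣ q := by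
    intro h
    have h1 : p ∣ 1 := (Nat.dvd_add_right h).1 hpq
    exact hp.one_lt.ne' (Nat.dvd_one.1 h1)
  by_cases h1 : l ∣ q + 1
  · by_cases hp2 : p = 2
    · intro h
      exact not_same_torus hF hn hl hp hpl.symm (fun h2 => hpl (hp2.trans h2.symm)) h1 hpq h.symm
    · exact not_same_torus hF hn hp hl hpl hp2 hpq h1
  by_cases h2 : l ∣ q - 1
  · have hl2 : l ≠ 2 := by
      rintro rfl
      apply h1
      omega
    have h3 : orderOf ((q : ℕ) : ZMod l) = 1 := by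
      rw [orderOf_eq_one_iff, ← sub_eq_zero]
      have h4 : ((q - 1 : ℕ) : ZMod l) = 0 := (ZMod.natCast_eq_zero_iff _ _).2 h2
      rw [Nat.cast_sub (by omega), Nat.cast_one] at h4
      exact h4
    intro h
    exact H61.PQ.psu_lin hF (by omega) hl hl2 hp hpl hlq hpq' (by rw [h3]; norm_num) hd h.symm
  · obtain ⟨m, rfl⟩ : ∃ m, n = m + 2 := ⟨n - 2, by omega⟩
    exact not_same_pts hF (by omega) hp hl hpq hlq h2 h1

end Cfsg.Agent.H638.PQ.PSURow
end

private theorem dce_2b98efe4f4fb : _root_.True := by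
  try have : _root_.True := by simp only [_root_.Cfsg.Agent.H638.PQ.PSUOne.tt.eq_1]
  exact _root_.True.intro
end

-- part: H766/PQ/RowsL2_mg
section
prune_inst 0x10404501060000000000800040000030380000000000040004810800010080000900880004000001500000000000000001000000420000000a000400000100000080000060810000820006000000000000000000000000000000000000000000000000000
set_option linter.all false
open scoped Cfsg.Agent.FastGrp

-- part: H61/PQ/RowsTwo
section
/-!
# S4612: the pairs `{2, l'}` by `θ` of `2`-power order (helper61)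

For every odd prime `l'` not dividing `q` (`q` odd):
* `odd_two` : `PΩ_{2m+1}(q)`;
* `plus_two`, `minus_two` : `PΩ^±(q)` if `-1 ∉ Ω` or `q = 1 (mod 8)`;
* `psp_two` : `PSp_{2m}(q)` if `q = 1 (mod 8)`;
* `psu_two` : `PSU_n(q)` if `n` is odd or `q = 1 (mod 4)`.
-/

set_option autoImplicit false
set_option linter.unusedSectionVars false

open Cfsg
open scoped ComplexConjugate

namespace Cfsg.Agent.H61.PQ

open Cfsg.Agent.H53.HC Module Cfsg.Agent.H317.PQ Cfsg.Agent.Characters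
open Cfsg.Agent.H477.HC

universe u v w

section rows

variable {K : Type u} [Field K] [Finite K] {l' : ℕ}

/-- `θ` of order `4`, `|K| = 1 (mod 4)` -/
theorem exists_cd2_four (h4 : Nat.card K % 4 = 1) :
    ∃ c : GL (Fin 1) K → ℂ, CD2 K 1 (RingHom.id K) (fun z => z ^ ((Nat.card K - 1) / 4) = 1) c := by
  refine exists_cd2_one (s' := 1) (j := 2) (RingHom.id K) (fun x => (pow_one x).symm) ?_ (by norm_num)
  rw [show (2 : ℕ) ^ 2 = 4 by norm_num]
  exact Nat.div_mul_cancel (by omega)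

/-- the two kinds of data -/
theorem exists_cd2_id (ho : Odd (Nat.card K)) : ∃ k, (k = 1 ∨ k = 2) ∧ ∃ c : GL (Fin k) K → ℂ,
    CD2 K k (RingHom.id K) (fun z => z = 1 ∨ (Nat.card K % 8 = 1 ∧ z = -1)) c := by
  have h3 : Nat.card K % 4 = 1 ∨ Nat.card K % 4 = 3 := by
    obtain ⟨r, hr⟩ := ho
    omega
  rcases h3 with h3 | h3
  · obtain ⟨c, hc⟩ := exists_cd2_four h3
    refine ⟨1, Or.inl rfl, c, ⟨hc.cus.irr, hc.cus.cusp, hc.cus.dual, fun z hz => hc.cus.scal z ?_, hc.cus.deg⟩, hc.mem,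
      hc.not_mem⟩
    rcases hz with rfl | ⟨h8, rfl⟩
    · exact one_pow _
    · have : Even ((Nat.card K - 1) / 4) := by
        rw [Nat.even_iff]
        omega
      exact this.neg_one_pow
  · obtain ⟨c, hc⟩ := exists_cd2_two h3
    refine ⟨2, Or.inr rfl, c, ⟨hc.cus.irr, hc.cus.cusp, hc.cus.dual, fun z hz => hc.cus.scal z ?_, hc.cus.deg⟩, hc.mem,
      hc.not_mem⟩
    rcases hz with rfl | ⟨h8, rfl⟩
    · rfl
    · omega

/-- orthogonal groups: the general statement -/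
theorem om_two {ι : Type} [Fintype ι] [DecidableEq ι] (F : CForm K (ι → K)) (hσ : F.σ = RingHom.id K)
    (hB : ∀ u v, F.B u v = F.Q (u + v) - F.Q u - F.Q v) (ho : Odd (Nat.card K))
    (hOm : ∀ k, (k = 1 ∨ k = 2) → ∃ W₀, W₀ ∈ F.Om k) (hl' : l'.Prime) (hne : l' ≠ 2) (hl'K : ¬ l' ∣ Nat.card K)
    (hcen : ∀ z : Omega K F.Q, z ∈ Subgroup.center (Omega K F.Q) →
      omMat z = 1 ∨ (Nat.card K % 8 = 1 ∧ omMat z = -1)) : ¬ Same 2 l' (POmega K F.Q) := by
  obtain ⟨k, hk, c, hc⟩ := exists_cd2_id ho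
  obtain ⟨W₀, hW₀⟩ := hOm k hk
  refine not_same_of_two' F (isoQuad F hB) (S := POmega K F.Q) (Omega K F.Q) le_rfl (QuotientGroup.mk' _)
    (QuotientGroup.mk'_surjective _) ?_ hl' hne hl'K (c := c) (by rw [hσ]; exact hc) ?_ hW₀
  · rw [QuotientGroup.ker_mk']
  · intro z hz
    rw [QuotientGroup.ker_mk'] at hz
    rcases hcen z hz with h | ⟨h8, h⟩
    · refine ⟨1, Or.inl rfl, fun v => ?_⟩
      show (omMat z).mulVec v = _
      rw [h, Matrix.one_mulVec, Units.val_one, one_smul]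
    · refine ⟨-1, Or.inr ⟨h8, rfl⟩, fun v => ?_⟩
      show (omMat z).mulVec v = _
      rw [h, Matrix.neg_mulVec, Matrix.one_mulVec, Units.val_neg, Units.val_one, neg_one_smul]

theorem omMat_det {ι : Type} [Fintype ι] [DecidableEq ι] {Q : (ι → K) → K} (z : Omega K Q) :
    (omMat z).det = 1 := by
  let d : isometryGroup K Q →* Kˣ := Matrix.GeneralLinearGroup.det.comp (Subgroup.subtype _)
  have h1 : (z : isometryGroup K Q) ∈ d.ker := Abelianization.commutator_subset_ker d z.2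
  exact congrArg Units.val (MonoidHom.mem_ker.1 h1)

/-- **`PΩ_{2m+1}(q)`, the pairs `{2, l'}`** -/
theorem odd_two {m : ℕ} (ho : Odd (Nat.card K)) (hm : 3 ≤ m) (hl' : l'.Prime) (hne : l' ≠ 2)
    (hl'K : ¬ l' ∣ Nat.card K) : ¬ Same 2 l' (POmega K (quadFormOdd m K)) := by
  classical
  obtain ⟨r, hr, hrK⟩ := exists_char_prime (K := K)
  have : Fact r.Prime := ⟨hr⟩
  have h2 := two_ne_zero_of_odd (K := K) (p := r) ho
  refine (om_two (CForm.oddF K m h2) rfl (odd_hB K m h2) ho ?_ hl' hne hl'K ?_ :)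
  · intro k hk
    obtain ⟨n, rfl⟩ : ∃ n, m = k + n := ⟨m - k, by omega⟩
    obtain ⟨⟨W₀, hW₀⟩, -⟩ := CForm.oddF_frame (K := K) (p := r) h2 k n
    exact ⟨W₀, hW₀⟩
  · intro z hz
    rcases cen_odd K h2 (by omega) z hz with h | h
    · exact Or.inl h
    · exfalso
      have h4 : (-1 : Matrix (Unit ⊕ (Fin m ⊕ Fin m)) (Unit ⊕ (Fin m ⊕ Fin m)) K).det = 1 :=
        (congrArg Matrix.det h).symm.trans (omMat_det z)
      rw [Matrix.det_neg, Matrix.det_one, mul_one] at h4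
      have h5 : Odd (Fintype.card (Unit ⊕ (Fin m ⊕ Fin m))) := by
        simp only [Fintype.card_sum, Fintype.card_fin, Fintype.card_unit]
        exact ⟨m, by ring⟩
      rw [h5.neg_one_pow] at h4
      apply h2
      linear_combination -h4

/-- **`PΩ⁺_{2m}(q)`, the pairs `{2, l'}`** -/
theorem plus_two {m : ℕ} (ho : Odd (Nat.card K)) (hm : 4 ≤ m) (hl' : l'.Prime) (hne : l' ≠ 2)
    (hl'K : ¬ l' ∣ Nat.card K)
    (h : Nat.card K % 8 = 1 ∨ ∀ z : Omega K (quadFormPlus m K), omMat z ≠ -1) :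
    ¬ Same 2 l' (POmega K (quadFormPlus m K)) := by
  classical
  obtain ⟨r, hr, hrK⟩ := exists_char_prime (K := K)
  have : Fact r.Prime := ⟨hr⟩
  refine om_two (CForm.plusF K m) rfl (plus_hB K m) ho ?_ hl' hne hl'K ?_
  · intro k hk
    obtain ⟨n, rfl⟩ : ∃ n, m = k + n := ⟨m - k, by omega⟩
    obtain ⟨⟨W₀, hW₀⟩, -⟩ := CForm.plusF_frame (K := K) (p := r) k n
    exact ⟨W₀, hW₀⟩
  · intro z hz
    rcases cen_plus K (by omega) z hz with h1 | h1
    · exact Or.inl h1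
    · rcases h with h | h
      · exact Or.inr ⟨h, h1⟩
      · exact absurd h1 (h z)

/-- **`PΩ⁻_{2m+2}(q)`, the pairs `{2, l'}`** -/
theorem minus_two {m : ℕ} (ho : Odd (Nat.card K)) (hm : 3 ≤ m) {a b : K}
    (hab : ∀ z₁ z₂ : K, z₁ ^ 2 + a * z₁ * z₂ + b * z₂ ^ 2 = 0 → z₁ = 0 ∧ z₂ = 0) (hl' : l'.Prime) (hne : l' ≠ 2)
    (hl'K : ¬ l' ∣ Nat.card K)
    (h : Nat.card K % 8 = 1 ∨ ∀ z : Omega K (quadFormMinus m K a b), omMat z ≠ -1) :
    ¬ Same 2 l' (POmega K (quadFormMinus m K a b)) := by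
  classical
  obtain ⟨r, hr, hrK⟩ := exists_char_prime (K := K)
  have : Fact r.Prime := ⟨hr⟩
  refine (om_two (CForm.minusF K m a b hab) rfl (minus_hB K m a b hab) ho ?_ hl' hne hl'K ?_ :)
  · intro k hk
    obtain ⟨n, rfl⟩ : ∃ n, m = k + n := ⟨m - k, by omega⟩
    obtain ⟨⟨W₀, hW₀⟩, -⟩ := CForm.minusF_frame (K := K) (p := r) hab k n
    exact ⟨W₀, hW₀⟩
  · intro z hz
    rcases cen_minus K (by omega) a b hab z hz with h1 | h1
    · exact Or.inl h1
    · rcases h with h | h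
      · exact Or.inr ⟨h, h1⟩
      · exact absurd h1 (h z)

/-- **`PSp_{2m}(q)`, the pairs `{2, l'}`, `q = 1 (mod 8)`** -/
theorem psp_two {m : ℕ} (h8 : Nat.card K % 8 = 1) (hm : 1 ≤ m) (hl' : l'.Prime) (hne : l' ≠ 2)
    (hl'K : ¬ l' ∣ Nat.card K) : ¬ Same 2 l' (PSp m K) := by
  classical
  obtain ⟨r, hr, hrK⟩ := exists_char_prime (K := K)
  have : Fact r.Prime := ⟨hr⟩
  obtain ⟨c, hc⟩ := exists_cd2_four (K := K) (by omega)
  obtain ⟨n, rfl⟩ : ∃ n, m = 1 + n := ⟨m - 1, by omega⟩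
  obtain ⟨⟨W₀, hW₀⟩, -⟩ := CForm.spF_frame (K := K) (p := r) 1 n
  let f : (⊤ : Subgroup (Matrix.symplecticGroup (Fin (1 + n)) K)) →* PSp (1 + n) K :=
    (QuotientGroup.mk' (Subgroup.center (Matrix.symplecticGroup (Fin (1 + n)) K))).comp (Subgroup.subtype ⊤)
  have hker : ∀ z ∈ f.ker, (z : Matrix.symplecticGroup (Fin (1 + n)) K) ∈
      Subgroup.center (Matrix.symplecticGroup (Fin (1 + n)) K) := by
    intro z hz
    exact (QuotientGroup.eq_one_iff _).1 (MonoidHom.mem_ker.1 hz)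
  refine not_same_of_two' (CForm.spF K (1 + n)) (isoSp (1 + n) K) (S := PSp (1 + n) K) ⊤ le_top f ?_ ?_ hl' hne hl'K
    hc ?_ hW₀
  · intro x
    obtain ⟨y, rfl⟩ := QuotientGroup.mk_surjective x
    exact ⟨⟨y, Subgroup.mem_top y⟩, rfl⟩
  · intro z hz
    have h1 := hker z hz
    rw [Subgroup.mem_center_iff] at h1 ⊢
    intro g
    exact Subtype.ext (h1 g)
  · intro z hz
    rcases Cfsg.Agent.ClassicalGeometry.SympInvolutions.center_eq (hker z hz) with h | h
    · refine ⟨1, one_pow _, fun v => ?_⟩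
      rw [isoSp_apply, h, Matrix.one_mulVec, Units.val_one, one_smul]
    · refine ⟨-1, ?_, fun v => ?_⟩
      · have : Even ((Nat.card K - 1) / 4) := by
          rw [Nat.even_iff]
          omega
        exact this.neg_one_pow
      · rw [isoSp_apply, h, Matrix.neg_mulVec, Matrix.one_mulVec, Units.val_neg, Units.val_one, neg_one_smul]

end rows

/-! ### unitary groups -/

section unitary

variable {K : Type u} [Field K] [Fintype K] {l' q : ℕ}

/-- **`PSU_n(q)`, the pairs `{2, l'}`, `n` odd or `q = 1 (mod 4)`** -/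
theorem psu_two {n : ℕ} (hF : Fintype.card K = q ^ 2) (hn : 3 ≤ n) (hqo : Odd q) (h : Odd n ∨ q % 4 = 1)
    (hl' : l'.Prime) (hne : l' ≠ 2) (hl'q : ¬ l' ∣ q) : ¬ Same 2 l' (PSU n K q) := by
  classical
  have hq : Nat.card K = q ^ 2 := by rw [Nat.card_eq_fintype_card, hF]
  obtain ⟨r, hr, hrK⟩ := exists_char_prime (K := K)
  have : Fact r.Prime := ⟨hr⟩
  have hq2 := CForm.two_le_of_card hq
  have hl'K : ¬ l' ∣ Nat.card K := fun h => hl'q (hl'.dvd_of_dvd_pow (hq ▸ h))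
  obtain ⟨e, w, hw, hew⟩ := Nat.exists_eq_two_pow_mul_odd (n := q + 1) (by omega)
  obtain ⟨c, hc⟩ := exists_cd2_one (K := K) (s' := q) (a := (q - 1) / 2 * w) (j := e + 1) (CForm.powHom hq)
    (fun x => rfl) (by
      have h1 : q ^ 2 - 1 ^ 2 = (q + 1) * (q - 1) := Nat.sq_sub_sq q 1
      rw [one_pow] at h1
      have h2 : (q - 1) / 2 * 2 = q - 1 := Nat.div_mul_cancel (by
        obtain ⟨t, ht⟩ := hqo
        exact ⟨t, by omega⟩)
      rw [hq, h1, hew]
      calc (q - 1) / 2 * w * 2 ^ (e + 1) = 2 ^ e * w * ((q - 1) / 2 * 2) := by rw [pow_succ]; ring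
        _ = 2 ^ e * w * (q - 1) := by rw [h2]) (by
      intro h1
      rw [hew, pow_succ] at h1
      have h2 := Nat.dvd_of_mul_dvd_mul_left (by positivity) h1
      rw [← even_iff_two_dvd, ← Nat.not_odd_iff_even] at h2
      exact h2 hw)
  obtain ⟨m, rfl⟩ : ∃ m, n = 1 + (1 + m) := ⟨n - 2, by omega⟩
  obtain ⟨⟨W₀, hW₀⟩, -⟩ := CForm.hermF_frame (K := K) (p := r) hq 1 m
  let F := CForm.hermF K hq (1 + (1 + m))
  let E := suE (K := K) hq (1 + (1 + m))
  let f : H328.Gow.sg F →* PSU (1 + (1 + m)) K q :=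
    (QuotientGroup.mk' (Subgroup.center (SU (1 + (1 + m)) K q))).comp E.symm.toMonoidHom
  have hsgn : (H328.Gow.sg F).Normal := MonoidHom.normal_ker _
  have hker : ∀ z ∈ f.ker, E.symm z ∈ Subgroup.center (SU (1 + (1 + m)) K q) := by
    intro z hz
    exact (QuotientGroup.eq_one_iff _).1 (MonoidHom.mem_ker.1 hz)
  have hfin : Finite F.iso := finite_iso' F
  refine not_same_of_two F (H328.Gow.sg F) ?_ f ?_ ?_ hl' hne hl'K hc ?_ hW₀
  · exact Abelianization.commutator_subset_ker _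
  · exact (QuotientGroup.mk'_surjective _).comp E.symm.surjective
  · intro z hz
    have h1 := hker z hz
    rw [Subgroup.mem_center_iff] at h1 ⊢
    intro g
    apply E.symm.injective
    rw [map_mul, map_mul]
    exact h1 _
  · intro z hz
    obtain ⟨a, han, haq, h5⟩ := (Cfsg.Agent.LieClassical.SUBasic.mem_center_SU_iff hF
      hn _).1 (hker z hz)
    have ha0 : a ≠ 0 := by
      rintro rfl
      rw [zero_pow (Nat.succ_ne_zero q)] at haq
      exact zero_ne_one haq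
    refine ⟨Units.mk0 a ha0, ?_, fun v => ?_⟩
    · rw [← orderOf_dvd_iff_pow_eq_one]
      have h7 : orderOf (Units.mk0 a ha0) ∣ q + 1 := orderOf_dvd_of_pow_eq_one (Units.ext haq)
      have h8 : orderOf (Units.mk0 a ha0) ∣ 1 + (1 + m) := orderOf_dvd_of_pow_eq_one (Units.ext han)
      rcases h with ho | h4
      · have h9 : Odd (orderOf (Units.mk0 a ha0)) := Odd.of_dvd_nat ho h8
        rw [hew] at h7
        have h10 : orderOf (Units.mk0 a ha0) ∣ w :=
          (Nat.Coprime.pow_right e (Nat.coprime_two_right.2 h9)).dvd_of_dvd_mul_left h7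
        exact h10.trans (dvd_mul_left _ _)
      · refine h7.trans ?_
        have h9 : e = 1 := by
          rcases Nat.lt_or_ge e 2 with h10 | h10
          · rcases Nat.lt_or_ge e 1 with h11 | h11
            · exfalso
              have : e = 0 := by omega
              rw [this, pow_zero, one_mul] at hew
              obtain ⟨t, ht⟩ := hw
              obtain ⟨t', ht'⟩ := hqo
              omega
            · omega
          · exfalso
            have h11 : 2 ^ 2 ∣ q + 1 := by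
              rw [hew]
              exact Dvd.dvd.mul_right (pow_dvd_pow 2 h10) _
            omega
        rw [hew, h9, pow_one]
        exact Nat.mul_dvd_mul ⟨(q - 1) / 2 / 2, by omega⟩ dvd_rfl
    · have h7 : z = E (E.symm z) := (E.apply_symm_apply z).symm
      rw [h7]
      change (((E.symm z : SU (1 + (1 + m)) K q) : Matrix.SpecialLinearGroup (Fin (1 + (1 + m))) K) :
        Matrix _ _ K).mulVec v = a • v
      rw [h5]
      change (Matrix.diagonal (fun _ => a)).mulVec v = a • v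
      ext i
      rw [Matrix.mulVec_diagonal, Pi.smul_apply, smul_eq_mul]

end unitary

end Cfsg.Agent.H61.PQ
end

-- part: H766/PQ/TwoA
section
/-!
# S4612: `{2, q}`, `q` odd of unitary type: local tests (helper766)

`K` odd, `ord_q |K| = 2 d`:

* `le_of_PQ`, `not_PQ_two` : `PQ l' 2` implies `B0 2 ⊆ B0 l'`; helper61's characters contradict it;
* `plus_not_PQ`, `minus_not_PQ` : for the commutator subgroups of the isometry groups of plus and minus type;
* `psp_two_lt` : `PSp_{2m}`, `d < m`;  `psp_two_odd` : `d = m` odd, `|K| = 3 mod 4`;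
* `plus_two_core` : `PΩ⁺_{2m}`, `d = m - 1` odd, `|K| = 3 mod 4`;
* `plus_two_desc`, `plus_two_four` : `PΩ⁺_{2m}`, `d ≤ m - 2`;
* `minus_two_desc` : `PΩ⁻_{2m+2}`, `d ≤ m`.
-/

set_option autoImplicit false
set_option linter.unusedSectionVars false

open Cfsg Cfsg.Agent

namespace Cfsg.Agent.H766.PQ

open Cfsg.Agent.H358.A3 (PQ)
open Cfsg.Agent.H317.PQ
open Cfsg.Agent.H477.HC Module Cfsg.Agent.H477.HC.CForm
open Cfsg.Agent.H61.PQ
open Cfsg.Agent.ClassicalGeometry.OmegaIndex Cfsg.Agent.ClassicalGeometry.Reflection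
  Cfsg.Agent.ClassicalGeometry.Universal
open Cfsg.Agent.H53.HC Cfsg.Agent.Characters

universe u v w

/-! ### squares of isometries -/

section sq

variable {ι : Type} [Fintype ι] [DecidableEq ι] {K : Type u} [Field K] [Finite K]

end sq

/-! ### the descent target -/

section le

variable {G : Type u} [Group G] [Finite G] {p q : ℕ}

/-- `PQ p q` implies `B0 q ⊆ B0 p` -/
theorem le_of_PQ (hp : p.Prime) (hq : q.Prime) (h : PQ p q G) {χ : IrrCharacter G} (hχ : χ ∈ B0 q G) : χ ∈ B0 p G := by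
  obtain ⟨M, hM⟩ := Cfsg.Agent.Blocks.ExistsModular.exists_isPModular hq
  refine h M hM (H358.A3.oneC G) χ (hχ M hM) ?_
  intro M' hM'
  have : Fact p.Prime := ⟨hp⟩
  have : M'.IsPrime := Blocks.Local.isPrime_of_isPModular hM'
  exact Blocks.Basic.sameBlock_refl _

variable {K : Type u} [Field K] [Finite K] {V : Type v} [AddCommGroup V] [Module K V] [Finite V]
  [FiniteDimensional K V] (F : CForm K V) {k : ℕ}

/-- helper61's character of `F.iso` contradicts `PQ l' 2` for the commutator subgroup -/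
theorem not_PQ_two {l' : ℕ} (hl' : l'.Prime) (hne : l' ≠ 2) (hq : ¬ l' ∣ Nat.card K) {Z : Kˣ → Prop}
    {c : GL (Fin k) K → ℂ} (hc : CD2 K k F.σ Z c) {W₀ : Submodule K V} (hW₀ : W₀ ∈ F.Om k) :
    ¬ PQ l' 2 ↥(commutator F.iso) := by
  classical
  intro hS
  have : Finite (F.Om k) := by
    have : Finite (Submodule K V) := Finite.of_injective (fun W : Submodule K V => (W : Set V)) SetLike.coe_injective
    infer_instance
  have := Fintype.ofFinite (F.Om k)
  have := Fintype.ofFinite F.iso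
  have := Fintype.ofFinite (commutator F.iso)
  have hirr := F.isIrr_hc_one hc.cus.irr hc.cus.cusp hc.cus.dual hW₀
  let χ : IrrCharacter F.iso := ⟨_, hirr⟩
  have hχ : χ ∈ B0 2 F.iso := hc_mem F Nat.prime_two (hc.mem hc.cus.irr) hW₀ χ rfl
  obtain ⟨ψ, hψ⟩ := exists_under (commutator F.iso) χ
  have h1 : ψ ∈ B0 2 ↥(commutator F.iso) := (H451.PQ.mem_B0_normal Nat.prime_two _ ψ).2 ⟨χ, hχ, hψ⟩
  have h2 : ψ ∈ B0 l' ↥(commutator F.iso) := le_of_PQ hl' Nat.prime_two hS h1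
  obtain ⟨lam, -, ξ, hξ, hξ2⟩ := exists_linear hl' (commutator F.iso) le_rfl h2 hψ
  obtain ⟨f', hf', η, hη, hη2⟩ := exists_of_twist' F hl' hq lam hc.cus.irr hW₀ ξ hξ2 hξ
  exact hc.not_mem hl' hne hq f' hf' η hη2 hη

end le

section target

variable {K : Type u} [Field K] [Finite K] {q : ℕ}

theorem four_cases (ho : Odd (Nat.card K)) : Nat.card K % 4 = 1 ∨ Nat.card K % 4 = 3 := by
  obtain ⟨r, hr⟩ := ho
  omega

/-- the general form -/
theorem not_PQ_of_Om {V : Type v} [AddCommGroup V] [Module K V] [Finite V] [FiniteDimensional K V] (F : CForm K V)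
    (hσ : F.σ = RingHom.id K) (ho : Odd (Nat.card K)) (hq : q.Prime) (hq2 : q ≠ 2) (hqK : ¬ q ∣ Nat.card K)
    (h1 : Nat.card K % 4 = 1 → ∃ W₀, W₀ ∈ F.Om 1) (h2 : Nat.card K % 4 = 3 → ∃ W₀, W₀ ∈ F.Om 2) :
    ¬ PQ q 2 ↥(commutator F.iso) := by
  rcases four_cases ho with h4 | h4
  · obtain ⟨W₀, hW₀⟩ := h1 h4
    obtain ⟨c, hc⟩ := exists_cd2_four (K := K) h4
    rw [← hσ] at hc
    exact not_PQ_two F hq hq2 hqK hc hW₀
  · obtain ⟨W₀, hW₀⟩ := h2 h4
    obtain ⟨c, hc⟩ := exists_cd2_two (K := K) h4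
    rw [← hσ] at hc
    exact not_PQ_two F hq hq2 hqK hc hW₀

/-- plus type -/
theorem plus_not_PQ (ho : Odd (Nat.card K)) (hq : q.Prime) (hq2 : q ≠ 2) (hqK : ¬ q ∣ Nat.card K) {n : ℕ}
    (hn : 1 ≤ n) (hn2 : Nat.card K % 4 = 3 → 2 ≤ n) : ¬ PQ q 2 ↥(commutator (plusF K n).iso) := by
  obtain ⟨r, hr, hrK⟩ := exists_char_prime (K := K)
  have : Fact r.Prime := ⟨hr⟩
  refine not_PQ_of_Om (plusF K n) rfl ho hq hq2 hqK (fun _ => ?_) (fun h => ?_)
  · obtain ⟨t, rfl⟩ : ∃ t, n = 1 + t := ⟨n - 1, by omega⟩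
    exact (CForm.plusF_frame (K := K) (p := r) 1 t).1
  · have := hn2 h
    obtain ⟨t, rfl⟩ : ∃ t, n = 2 + t := ⟨n - 2, by omega⟩
    exact (CForm.plusF_frame (K := K) (p := r) 2 t).1

/-- minus type -/
theorem minus_not_PQ (ho : Odd (Nat.card K)) (hq : q.Prime) (hq2 : q ≠ 2) (hqK : ¬ q ∣ Nat.card K) {a b : K}
    (hab : ∀ z₁ z₂ : K, z₁ ^ 2 + a * z₁ * z₂ + b * z₂ ^ 2 = 0 → z₁ = 0 ∧ z₂ = 0) {n : ℕ}
    (hn : 1 ≤ n) (hn2 : Nat.card K % 4 = 3 → 2 ≤ n) : ¬ PQ q 2 ↥(commutator (minusF K n a b hab).iso) := by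
  obtain ⟨r, hr, hrK⟩ := exists_char_prime (K := K)
  have : Fact r.Prime := ⟨hr⟩
  refine not_PQ_of_Om (minusF K n a b hab) rfl ho hq hq2 hqK (fun _ => ?_) (fun h => ?_)
  · obtain ⟨t, rfl⟩ : ∃ t, n = 1 + t := ⟨n - 1, by omega⟩
    exact (CForm.minusF_frame (K := K) (p := r) hab 1 t).1
  · have := hn2 h
    obtain ⟨t, rfl⟩ : ∃ t, n = 2 + t := ⟨n - 2, by omega⟩
    exact (CForm.minusF_frame (K := K) (p := r) hab 2 t).1

/-- an anisotropic binary form -/
theorem exists_aniso (ho : Odd (Nat.card K)) : ∃ a b : K, ∀ z₁ z₂ : K, z₁ ^ 2 + a * z₁ * z₂ + b * z₂ ^ 2 = 0 →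
    z₁ = 0 ∧ z₂ = 0 := by
  obtain ⟨r, hr, hrK⟩ := exists_char_prime (K := K)
  have : Fact r.Prime := ⟨hr⟩
  have h2 := two_ne_zero_of_odd (K := K) (p := r) ho
  have h3 : ringChar K ≠ 2 := by
    intro h
    apply h2
    have h4 := ringChar.Nat.cast_ringChar (R := K)
    rw [h] at h4
    exact_mod_cast h4
  obtain ⟨c, hc⟩ := FiniteField.exists_nonsquare h3
  refine ⟨0, -c, fun z₁ z₂ h => ?_⟩
  have h5 : z₂ = 0 := by
    by_contra hz
    apply hc
    refine ⟨z₁ * z₂⁻¹, ?_⟩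
    field_simp
    linear_combination -h
  rw [h5] at h
  exact ⟨pow_eq_zero_iff (two_ne_zero) |>.1 (by linear_combination h), h5⟩

/-- **`PΩ⁺_{2m}`, `ord_q |K| = 2 (d + 1)`, `m = d + (l + 2)`, `l ≥ 1`** -/
theorem plus_two_desc (ho : Odd (Nat.card K)) {m l d : ℕ} (hm : m = d + (l + 2)) (hm4 : 4 ≤ m) (hq : q.Prime)
    (hd : orderOf ((Nat.card K : ℕ) : ZMod q) = 2 * (d + 1)) (hl : 1 ≤ l) (hl2 : Nat.card K % 4 = 3 → 2 ≤ l) :
    ¬ PQ q 2 (POmega K (quadFormPlus m K)) := by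
  intro h
  obtain ⟨a, b, hab⟩ := exists_aniso ho
  exact minus_not_PQ ho hq (ne_two_of_order (Nat.succ_pos d) hd) (not_dvd_of_order hq (Nat.succ_pos d) hd) hab hl hl2
    (plus_step hm hm4 hq Nat.prime_two (ne_two_of_order (Nat.succ_pos d) hd) hd hab h)

/-- **`PΩ⁻_{2m+2}`, `ord_q |K| = 2 (d + 1)`, `m = k + d`, `k ≥ 1`** -/
theorem minus_two_desc (ho : Odd (Nat.card K)) {m k d : ℕ} (hm : m = k + d) (hm3 : 3 ≤ m) (hq : q.Prime)
    (hd : orderOf ((Nat.card K : ℕ) : ZMod q) = 2 * (d + 1)) {a b : K}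
    (hab : ∀ z₁ z₂ : K, z₁ ^ 2 + a * z₁ * z₂ + b * z₂ ^ 2 = 0 → z₁ = 0 ∧ z₂ = 0) (hk : 1 ≤ k)
    (hk2 : Nat.card K % 4 = 3 → 2 ≤ k) : ¬ PQ q 2 (POmega K (quadFormMinus m K a b)) := fun h =>
  plus_not_PQ ho hq (ne_two_of_order (Nat.succ_pos d) hd) (not_dvd_of_order hq (Nat.succ_pos d) hd) hk hk2
    (minus_step hm hm3 hq Nat.prime_two (ne_two_of_order (Nat.succ_pos d) hd) hd hab h)

/-- **`PΩ⁺_{2m}`, `ord_q |K| = 2 (m - 2)`, `m ≥ 5`**: the group of the descent is of order prime to `q` -/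
theorem plus_two_four (ho : Odd (Nat.card K)) {m d : ℕ} (hm : m = d + (1 + 2)) (hm5 : 5 ≤ m) (hq : q.Prime)
    (hd : orderOf ((Nat.card K : ℕ) : ZMod q) = 2 * (d + 1)) : ¬ PQ q 2 (POmega K (quadFormPlus m K)) := by
  intro h
  obtain ⟨r, hr, hrK⟩ := exists_char_prime (K := K)
  have : Fact r.Prime := ⟨hr⟩
  obtain ⟨a, b, hab⟩ := exists_aniso ho
  have hq2 := ne_two_of_order (Nat.succ_pos d) hd
  have hqK := not_dvd_of_order hq (Nat.succ_pos d) hd
  have h1 := plus_step hm (by omega) hq Nat.prime_two hq2 hd hab h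
  have hidx : (commutator (minusF K 1 a b hab).iso).index = 4 := by
    rw [comm_index _ (minus_hB K 1 a b hab)]
    exact minus_idx_four K (p := r) ho a b hab 1
  have hfin : Finite (minusF K 1 a b hab).iso := finite_iso' _
  have hcard : Nat.card ↥(commutator (minusF K 1 a b hab).iso) * 4 =
      2 * Nat.card K ^ 2 * (Nat.card K ^ 2 + 1) * (Nat.card K ^ 2 - 1) := by
    rw [← hidx, Subgroup.card_mul_index, card_minusF]
    simp only [_root_.Nat.reduceAdd, _root_.mul_one, _root_.Finset.range_one, _root_.Finset.prod_singleton, _root_.zero_add]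
  have hcore := H358.A3.PQ.core hq Nat.prime_two hq2 h1 ⊤
  rw [Subgroup.card_top] at hcore
  have hodd2 : Odd (Nat.card K ^ 2) := ho.pow
  apply hcore
  · intro hdv
    have h2 : q ∣ 2 * Nat.card K ^ 2 * (Nat.card K ^ 2 + 1) * (Nat.card K ^ 2 - 1) := by
      rw [← hcard]
      exact hdv.mul_right 4
    rcases hq.dvd_mul.1 h2 with h3 | h3
    · rcases hq.dvd_mul.1 h3 with h4 | h4
      · rcases hq.dvd_mul.1 h4 with h5 | h5
        · exact hq2 ((Nat.prime_dvd_prime_iff_eq hq Nat.prime_two).1 h5)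
        · exact hqK (hq.dvd_of_dvd_pow h5)
      · have h5 : q ∣ Nat.card K ^ 4 - 1 := by
          have h6 : Nat.card K ^ (2 * 2) - 1 = (Nat.card K ^ 2 + 1) * (Nat.card K ^ 2 - 1) := by
            rw [sq_sub, mul_comm]
          rw [show (4 : ℕ) = 2 * 2 by norm_num, h6]
          exact h4.mul_right _
        have h6 := ord_le hd 4 (by norm_num) h5
        omega
    · have h6 := ord_le hd 2 (by norm_num) h3
      omega
  · obtain ⟨t, ht⟩ := hodd2
    have h3 : Nat.card K ^ 2 + 1 = 2 * (t + 1) := by omega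
    have h4 : Nat.card K ^ 2 - 1 = 2 * t := by omega
    rw [h3, h4] at hcard
    refine ⟨?_, ?_⟩
    · exact Nat.card K ^ 2 * (t + 1) * t
    · have h5 : Nat.card ↥(commutator (minusF K 1 a b hab).iso) * 4 = 2 * (Nat.card K ^ 2 * (t + 1) * t) * 4 := by
        rw [hcard]; ring
      exact Nat.eq_of_mul_eq_mul_right (by norm_num) h5

end target

end Cfsg.Agent.H766.PQ
end

-- part: H766/PQ/TwoB
section
/-!
# S4612: `{2, q}`, `q` odd of unitary type: core tests (helper766)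

* `psp_two_lt` : `PSp_{2m}`, `ord_q |K| = 2 d`, `d < m`;
* `psp_two_odd` : `PSp_{2m}`, `d = m` odd, `|K| = 3 mod 4`;
* `plus_two_core` : `PΩ⁺_{2m}`, `d = m - 1` odd, `|K| = 3 mod 4`.
-/

set_option autoImplicit false
set_option linter.unusedSectionVars false

open Cfsg Cfsg.Agent

namespace Cfsg.Agent.H766.PQ

open Cfsg.Agent.H358.A3 (PQ)
open Cfsg.Agent.H317.PQ
open Cfsg.Agent.H477.HC Module Cfsg.Agent.H477.HC.CForm
open Cfsg.Agent.H61.PQ

universe u v w

variable {K : Type u} [Field K] [Finite K] {q : ℕ}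

/-- an element of order `2 ^ k` commuting with the centralizer of `x` -/
theorem exists_two {V : Type v} [AddCommGroup V] [Module K V] [Finite V] [FiniteDimensional K V] {F : CForm K V}
    (hσ : F.σ = RingHom.id K) (hq : q.Prime) {d k : ℕ} (hd0 : 0 < d)
    (hd : orderOf ((Nat.card K : ℕ) : ZMod q) = 2 * d) (hk : 0 < k) (h2k : 2 ^ k ∣ Nat.card K ^ d + 1)
    (h2d : 2 ^ k ∣ Nat.card K ^ (2 * d) - 1) {x : F.iso} (hx : orderOf x = q) :
    ∃ g : F.iso, orderOf g = 2 ^ k ∧ (∀ c : F.iso, c * x = x * c → c * g = g * c) ∧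
      (∀ v ∈ fixS (x : V ≃ₗ[K] V), (g : V ≃ₗ[K] V) v = v) := by
  obtain ⟨r, hr, hrK⟩ := exists_char_prime (K := K)
  have : Fact r.Prime := ⟨hr⟩
  obtain ⟨a, ha⟩ := H477.HC.card_pow K r
  have hQ : 1 ≤ Nat.card K := Nat.card_pos
  have hx1 : x ≠ 1 := by
    rintro rfl
    rw [orderOf_one] at hx
    exact hq.one_lt.ne hx
  have hqK := not_dvd_of_order hq hd0 hd
  have hq0 : (q : K) ≠ 0 := by
    intro h
    apply hqK
    have h1 : r ∣ q := (CharP.cast_eq_zero_iff K r q).1 h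
    have h2 : r = q := (Nat.prime_dvd_prime_iff_eq hr hq).1 h1
    have h3 : 0 < a := by
      rcases Nat.eq_zero_or_pos a with h | h
      · exfalso
        have : 1 < Nat.card K := Finite.one_lt_card
        rw [ha, h, pow_zero] at this
        omega
      · exact h
    rw [ha, ← h2]
    exact dvd_pow_self r h3.ne'
  obtain ⟨g, h1, h2, h3, -⟩ := exists_cen (F := F) (r := r) (t := a * d) (N := Nat.card K ^ d) (by rw [ha, ← pow_mul])
    (Nat.one_lt_pow hd0.ne' Finite.one_lt_card) (fun y => by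
      rw [hσ, RingHom.id_apply]
      have : Fintype K := Fintype.ofFinite K
      rw [Nat.card_eq_fintype_card]
      exact FiniteField.pow_card_pow d y) hq (dvd_pow_add_one hq hQ hd0 hd) hq0 (by rw [← hx, pow_orderOf_eq_one]) hx1
    Nat.prime_two hk h2k (fun j hj => by
      rw [pow_sub_one_iff hQ, hd] at hj
      obtain ⟨i, rfl⟩ := hj
      refine h2d.trans ?_
      rw [pow_mul (Nat.card K) (2 * d) i]
      have := Nat.sub_dvd_pow_sub_pow (Nat.card K ^ (2 * d)) 1 i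
      rwa [one_pow] at this)
  exact ⟨g, h1, h2, h3⟩

/-- `|K| = 3 mod 4`, `d` odd: `4 ∣ |K| ^ d + 1` -/
theorem four_dvd_of_odd (h3 : Nat.card K % 4 = 3) {d : ℕ} (hd : Odd d) : 4 ∣ Nat.card K ^ d + 1 := by
  obtain ⟨i, rfl⟩ := hd
  have h1 : Nat.card K ^ (2 * i + 1) % 4 = 3 := by
    rw [pow_succ, pow_mul, Nat.mul_mod, Nat.pow_mod, Nat.pow_mod (Nat.card K) 2 4, h3]
    norm_num
  omega

theorem four_dvd_of_odd' (h3 : Nat.card K % 4 = 3) (d : ℕ) : 4 ∣ Nat.card K ^ (2 * d) - 1 := by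
  have h1 : Nat.card K ^ (2 * d) % 4 = 1 := by
    rw [pow_mul, Nat.pow_mod, Nat.pow_mod (Nat.card K) 2 4, h3]
    norm_num
  omega

theorem two_dvd_card_add_one (ho : Odd (Nat.card K)) (d : ℕ) : 2 ∣ Nat.card K ^ d + 1 := by
  have h1 : Odd (Nat.card K ^ d) := ho.pow
  obtain ⟨t, ht⟩ := h1
  exact ⟨t + 1, by omega⟩

theorem two_dvd_card_sub_one (ho : Odd (Nat.card K)) (d : ℕ) : 2 ∣ Nat.card K ^ d - 1 := by
  have h1 : Odd (Nat.card K ^ d) := ho.pow
  obtain ⟨t, ht⟩ := h1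
  exact ⟨t, by omega⟩

/-! ### symplectic groups -/

section sp

/-- the projection -/
noncomputable def spPr (m : ℕ) (K : Type u) [Field K] : (⊤ : Subgroup (spF K m).iso) →* PSp m K :=
  (QuotientGroup.mk' (Subgroup.center (Matrix.symplecticGroup (Fin m) K))).comp
    ((isoSp m K).symm.toMonoidHom.comp (Subgroup.subtype ⊤))

theorem spPr_surjective (m : ℕ) : Function.Surjective (spPr m K) := by
  intro x
  obtain ⟨y, rfl⟩ := QuotientGroup.mk_surjective x
  refine ⟨⟨isoSp m K y, Subgroup.mem_top _⟩, ?_⟩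
  change QuotientGroup.mk' _ ((isoSp m K).symm (isoSp m K y)) = _
  rw [MulEquiv.symm_apply_apply]
  rfl

theorem spPr_ker {m : ℕ} {z : (⊤ : Subgroup (spF K m).iso)} (hz : z ∈ (spPr m K).ker) :
    (∀ v, ((z : (spF K m).iso) : (Fin m ⊕ Fin m → K) ≃ₗ[K] (Fin m ⊕ Fin m → K)) v = v) ∨
      ∀ v, ((z : (spF K m).iso) : (Fin m ⊕ Fin m → K) ≃ₗ[K] (Fin m ⊕ Fin m → K)) v = -v := by
  have h1 : (isoSp m K).symm (z : (spF K m).iso) ∈ Subgroup.center (Matrix.symplecticGroup (Fin m) K) :=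
    (QuotientGroup.eq_one_iff _).1 (MonoidHom.mem_ker.1 hz)
  have h2 : (z : (spF K m).iso) = isoSp m K ((isoSp m K).symm z) := ((isoSp m K).apply_symm_apply _).symm
  rcases Cfsg.Agent.ClassicalGeometry.SympInvolutions.center_eq h1 with h | h
  · left
    intro v
    rw [h2, isoSp_apply, h, Matrix.one_mulVec]
  · right
    intro v
    rw [h2, isoSp_apply, h, Matrix.neg_mulVec, Matrix.one_mulVec]

theorem spPr_center (m : ℕ) : (spPr m K).ker ≤ Subgroup.center _ := by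
  intro z hz
  rw [Subgroup.mem_center_iff]
  intro g
  apply Subtype.ext
  apply Subtype.ext
  apply LinearEquiv.ext
  intro v
  change ((g : (spF K m).iso) : (Fin m ⊕ Fin m → K) ≃ₗ[K] (Fin m ⊕ Fin m → K))
    (((z : (spF K m).iso) : (Fin m ⊕ Fin m → K) ≃ₗ[K] (Fin m ⊕ Fin m → K)) v) =
    ((z : (spF K m).iso) : (Fin m ⊕ Fin m → K) ≃ₗ[K] (Fin m ⊕ Fin m → K))
    (((g : (spF K m).iso) : (Fin m ⊕ Fin m → K) ≃ₗ[K] (Fin m ⊕ Fin m → K)) v)
  rcases spPr_ker hz with h | h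
  · rw [h, h]
  · rw [h, h, map_neg]

theorem spPr_card (m : ℕ) {l : ℕ} (hl : l.Prime) (hl2 : l ≠ 2) : ¬ l ∣ Nat.card (spPr m K).ker := by
  have hfin : Finite (spF K m).iso := finite_iso' _
  refine not_dvd_card_of_exp hl (m := 2) (fun h => hl2 ((Nat.prime_dvd_prime_iff_eq hl Nat.prime_two).1 h)) ?_
  rintro ⟨z, hz⟩
  apply Subtype.ext
  apply Subtype.ext
  apply Subtype.ext
  apply LinearEquiv.ext
  intro v
  change ((z : (spF K m).iso) : (Fin m ⊕ Fin m → K) ≃ₗ[K] (Fin m ⊕ Fin m → K))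
    (((z : (spF K m).iso) : (Fin m ⊕ Fin m → K) ≃ₗ[K] (Fin m ⊕ Fin m → K)) v) = v
  rcases spPr_ker hz with h | h
  · rw [h, h]
  · rw [h, h, neg_neg]

/-- **`PSp_{2m}`, `ord_q |K| = 2 d`, `d < m`** -/
theorem psp_two_lt (ho : Odd (Nat.card K)) {m d : ℕ} (hd0 : 0 < d) (hdm : d < m) (hq : q.Prime)
    (hd : orderOf ((Nat.card K : ℕ) : ZMod q) = 2 * d) : ¬ PQ q 2 (PSp m K) := by
  classical
  obtain ⟨k, rfl⟩ : ∃ k, m = k + d := ⟨m - d, by omega⟩
  have hk : 0 < k := by omega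
  have hq2 := ne_two_of_order hd0 hd
  obtain ⟨x, hx, hfix⟩ := block_step (sp_j (K := K) k d) (sp_k k d) (sp_orth k d) (by
      rw [finrank_plus, finrank_plus, finrank_plus]; ring) hq (not_dvd_of_order hq hd0 hd) (fun i hi h => by
      rw [finrank_plus]
      rw [pow_sub_one_iff Nat.card_pos, hd] at h
      exact Nat.le_of_dvd hi h) (by
      rw [card_spF]
      refine Dvd.dvd.mul_left ?_ _
      refine Dvd.dvd.trans ?_ (Finset.dvd_prod_of_mem _ (Finset.mem_range.2 (Nat.sub_lt hd0 Nat.one_pos)))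
      rw [pow_sub_one_iff Nat.card_pos, hd, Nat.sub_add_cancel hd0])
  obtain ⟨g, hg, hgc, hgf⟩ := exists_two (F := spF K (k + d)) rfl hq hd0 hd (k := 1) one_pos
    (by rw [pow_one]; exact two_dvd_card_add_one ho d) (by rw [pow_one]; exact two_dvd_card_sub_one ho _) hx
  have h2 : (2 : K) ≠ 0 := by
    obtain ⟨r, hr, hrK⟩ := exists_char_prime (K := K)
    have : Fact r.Prime := ⟨hr⟩
    exact two_ne_zero_of_odd (K := K) (p := r) ho
  refine not_PQ_of_cen hq Nat.prime_two hq2 ⊤ (spPr (k + d) K) (spPr_surjective _) (spPr_center _) (spPr_card _ hq hq2)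
    (Subgroup.mem_top x) hx (Subgroup.mem_top g) hg ?_ hgc
  intro hker
  rcases spPr_ker hker with h | h
  · have h3 : g = 1 := by
      apply Subtype.ext
      apply LinearEquiv.ext
      exact h
    rw [h3, orderOf_one] at hg
    norm_num at hg
  · let e : Fin k ⊕ Fin k → K := Pi.single (.inl ⟨0, hk⟩) 1
    have h3 : kmap K k d e ∈ fixS ((x : (spF K (k + d)).iso) : (Fin (k + d) ⊕ Fin (k + d) → K) ≃ₗ[K] _) := by
      rw [hfix]
      exact ⟨e, rfl⟩
    have h4 := (hgf _ h3).symm.trans (h _)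
    have h5 : (2 : K) • kmap K k d e = 0 := by
      rw [two_smul]
      nth_rewrite 1 [h4]
      exact neg_add_cancel _
    have h6 := (smul_eq_zero.1 h5).resolve_left h2
    have h7 := (sp_k (K := K) k d).inj (h6.trans (map_zero _).symm)
    have h8 := congrFun h7 (.inl ⟨0, hk⟩)
    simp [e] at h8

/-- **`PSp_{2m}`, `ord_q |K| = 2 m`, `m` odd, `|K| = 3 mod 4`** -/
theorem psp_two_odd (h3 : Nat.card K % 4 = 3) {m : ℕ} (hm : Odd m) (hq : q.Prime)
    (hd : orderOf ((Nat.card K : ℕ) : ZMod q) = 2 * m) (hdS : q ∣ Nat.card (PSp m K)) : ¬ PQ q 2 (PSp m K) := by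
  classical
  have hm0 : 0 < m := hm.pos
  have hq2 := ne_two_of_order hm0 hd
  have hfin : Finite (spF K m).iso := finite_iso' _
  have hdG : q ∣ Nat.card (⊤ : Subgroup (spF K m).iso) :=
    hdS.trans (Subgroup.card_dvd_of_surjective _ (spPr_surjective m))
  have : Fact q.Prime := ⟨hq⟩
  obtain ⟨⟨x, hx⟩, hxq⟩ := exists_prime_orderOf_dvd_card' (G := (⊤ : Subgroup (spF K m).iso)) q hdG
  rw [Subgroup.orderOf_mk] at hxq
  obtain ⟨g, hg, hgc, -⟩ := exists_two (F := spF K m) rfl hq hm0 hd (k := 2) two_pos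
    (four_dvd_of_odd h3 hm) (four_dvd_of_odd' h3 m) hxq
  refine not_PQ_of_cen hq Nat.prime_two hq2 ⊤ (spPr m K) (spPr_surjective _) (spPr_center _) (spPr_card _ hq hq2)
    hx hxq (Subgroup.mem_top g) hg ?_ hgc
  intro hker
  have h4 : g ^ 2 = 1 := by
    apply Subtype.ext
    apply LinearEquiv.ext
    intro v
    rw [sq]
    change ((g : (spF K m).iso) : (Fin m ⊕ Fin m → K) ≃ₗ[K] (Fin m ⊕ Fin m → K))
      (((g : (spF K m).iso) : (Fin m ⊕ Fin m → K) ≃ₗ[K] (Fin m ⊕ Fin m → K)) v) = v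
    rcases spPr_ker hker with h | h
    · have h' : ∀ v, ((g : (spF K m).iso) : (Fin m ⊕ Fin m → K) ≃ₗ[K] (Fin m ⊕ Fin m → K)) v = v := h
      rw [h', h']
    · have h' : ∀ v, ((g : (spF K m).iso) : (Fin m ⊕ Fin m → K) ≃ₗ[K] (Fin m ⊕ Fin m → K)) v = -v := h
      rw [h', h', neg_neg]
  have h5 := orderOf_dvd_of_pow_eq_one h4
  rw [hg] at h5
  norm_num at h5

end sp

end Cfsg.Agent.H766.PQ
end

-- part: H897/PQ/Rank3
section
/-!
# S4612: the rank 3 test for `PSp_{2m}(q)` and `PΩ⁻_{2m}(q)` (task R)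

`R3T G s t N` : the two non-trivial constituents `s`, `t` of a rank 3 permutation character of degree `N`: `p ^ k ∣ N`
and `¬ p ^ k ∣ s` force the constituent of degree `s` into the principal `p`-block, the same for `t`.
`r3t_psp`, `r3t_minus` : the permutation characters on the singular points.
`psp_two_unit` : `PSp_{2m}(q)`, `m` even, `ord_l q = 2 m`;
`minus_two_unit` : `PΩ⁻_{2r+2}(q)`, `r` even, `ord_l q = 2 (r + 1)`;
`minus_succ` : `PΩ⁻_{2r+2}(q)`, `r` even, `ord_l q = 2 r`, every prime `p ∣ q + 1` (in particular `p = 2`).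
-/

set_option autoImplicit false
set_option linter.unusedSectionVars false

open scoped ComplexConjugate
open Cfsg

namespace Cfsg.Agent.H897.PQ.Rk3

open Module Cfsg.Agent.H53.HC Cfsg.Agent.H690.Spor.RankThree Cfsg.Agent.H690.Spor.RankThree.R3
open Cfsg.Agent.Characters Cfsg.Agent.H477.HC Cfsg.Agent.H477.HC.CForm Cfsg.Agent.H33
open Cfsg.Agent.H317.PQ Cfsg.Agent.H329.PQ Cfsg.Agent.H301.PQ Cfsg.Agent.Characters.Core Cfsg.Agent.H934.Eight
  Cfsg.Agent.H61.PQ Cfsg.Agent.Blocks.Basic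

universe u v w

/-- the rank 3 test -/
def R3T (G : Type u) [Group G] (s t N : ℕ) : Prop :=
  ∃ χ ψ : IrrCharacter G, charDegree (χ : G → ℂ) = s ∧ charDegree (ψ : G → ℂ) = t ∧
    ∀ p k : ℕ, p.Prime → 0 < k → p ^ k ∣ N → (¬ p ^ k ∣ s → χ ∈ B0 p G) ∧ (¬ p ^ k ∣ t → ψ ∈ B0 p G)

theorem not_same_of_mem {p l : ℕ} {G : Type u} [Group G] {χ : IrrCharacter G} (h1 : χ ∈ B0 p G) (h2 : χ ∉ B0 l G) :
    ¬ Same p l G := fun h => h2 (h ▸ h1)

/-- the first constituent -/
theorem R3T.fst {G : Type u} [Group G] [Finite G] {s t N : ℕ} (h : R3T G s t N) {p k l j : ℕ} (hp : p.Prime)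
    (hk : 0 < k) (hN : p ^ k ∣ N) (hs : ¬ p ^ k ∣ s) (hl : l.Prime) (hlG : l ∣ Nat.card G)
    (hj : ¬ l ^ (j + 1) ∣ Nat.card G) (hjs : l ^ j ∣ s) : ¬ Same p l G := by
  obtain ⟨χ, ψ, h1, h2, h3⟩ := h
  exact not_same_of_mem ((h3 p k hp hk hN).1 hs) (not_mem_dz hl hlG h1 j hj hjs)

/-- the second constituent -/
theorem R3T.snd {G : Type u} [Group G] [Finite G] {s t N : ℕ} (h : R3T G s t N) {p k l j : ℕ} (hp : p.Prime)
    (hk : 0 < k) (hN : p ^ k ∣ N) (ht : ¬ p ^ k ∣ t) (hl : l.Prime) (hlG : l ∣ Nat.card G)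
    (hj : ¬ l ^ (j + 1) ∣ Nat.card G) (hjt : l ^ j ∣ t) : ¬ Same p l G := by
  obtain ⟨χ, ψ, h1, h2, h3⟩ := h
  exact not_same_of_mem ((h3 p k hp hk hN).2 ht) (not_mem_dz hl hlG h2 j hj hjt)

/-- from `Ω ≃* H` acting on `X` to `Ω ⧸ Z(Ω)` -/
theorem r3t_center {Om : Type u} [Group Om] [Finite Om] {H : Type v} [Group H] [Finite H] (E : Om ≃* H) {X : Type w}
    [MulAction H X] [Finite X] [MulAction.IsPretransitive H X] {χ₁ χ₂ : IrrCharacter H} {a b : ℕ}
    (h1 : (χ₁ : H → ℂ) 1 = a) (h2 : (χ₂ : H → ℂ) 1 = b) (ha1 : a ≠ 1) (hb1 : b ≠ 1) (hab : a ≠ b)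
    (hsum : ∀ x : H, (Nat.card (MulAction.fixedBy X x) : ℂ) = 1 + (χ₁ : H → ℂ) x + (χ₂ : H → ℂ) x)
    (hker : ∀ z ∈ Subgroup.center Om, (χ₁ : H → ℂ) (E z) = a ∧ (χ₂ : H → ℂ) (E z) = b) :
    R3T (Om ⧸ Subgroup.center Om) a b (Nat.card X) := by
  classical
  have hN : Nat.card X = 1 + a + b := by
    have h3 := hsum 1
    rw [h1, h2] at h3
    have h4 : Nat.card (MulAction.fixedBy X (1 : H)) = Nat.card X := by
      have : MulAction.fixedBy X (1 : H) = Set.univ := by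
        ext x; simp
      rw [this, Nat.card_univ]
    rw [h4] at h3
    exact_mod_cast h3
  have d1 : charDegree (χ₁ : H → ℂ) = a := charDegree_of_eq h1
  have d2 : charDegree (χ₂ : H → ℂ) = b := charDegree_of_eq h2
  have dz : charDegree ((_root_.Cfsg.Agent.H301.PQ.one H : IrrCharacter H) : H → ℂ) = 1 := charDegree_one'
  have hMF : MF H X ![_root_.Cfsg.Agent.H301.PQ.one H, χ₁, χ₂] := by
    refine ⟨?_, fun g => ?_⟩
    · intro i j hij
      have e := congrArg (fun χ : IrrCharacter H => charDegree (χ : H → ℂ)) hij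
      fin_cases i <;> fin_cases j <;> simp [d1, d2, dz] at e ⊢ <;> first
        | exact absurd e ha1 | exact absurd e.symm ha1 | exact absurd e hb1 | exact absurd e.symm hb1
        | exact absurd e hab | exact absurd e.symm hab
    · rw [Fin.sum_univ_three, hsum g]
      rfl
  let f : H →* Om ⧸ Subgroup.center Om := (QuotientGroup.mk' (Subgroup.center Om)).comp E.symm.toMonoidHom
  have hf : Function.Surjective f := (QuotientGroup.mk'_surjective _).comp E.symm.surjective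
  have hmem : ∀ z ∈ f.ker, E.symm z ∈ Subgroup.center Om := fun z hz =>
    (QuotientGroup.eq_one_iff _).1 (MonoidHom.mem_ker.1 hz)
  have hZ : f.ker ≤ Subgroup.center H := by
    intro z hz
    have h3 := hmem z hz
    rw [Subgroup.mem_center_iff] at h3 ⊢
    intro g
    apply E.symm.injective
    rw [map_mul, map_mul]
    exact h3 _
  have key : ∀ (χ : IrrCharacter H) (c : ℕ), (χ : H → ℂ) 1 = c → (∀ z ∈ Subgroup.center Om, (χ : H → ℂ) (E z) = c) →
      ∃ η : IrrCharacter (Om ⧸ Subgroup.center Om), charDegree (η : (Om ⧸ Subgroup.center Om) → ℂ) = c ∧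
        (χ : H → ℂ) = (η : (Om ⧸ Subgroup.center Om) → ℂ) ∘ f := by
    intro χ c hc hz
    obtain ⟨η, hη, hη'⟩ := exists_quot (Subgroup.center Om) (Core.isIrr_comp E.toMonoidHom E.surjective χ.2)
      (fun z hz' => by
        show (χ : H → ℂ) (E z) = (χ : H → ℂ) (E 1)
        rw [hz z hz', map_one, hc])
    refine ⟨⟨η, hη⟩, charDegree_of_eq ?_, ?_⟩
    · have h3 := hη' 1
      have h4 : ((χ : H → ℂ) ∘ E.toMonoidHom) 1 = c := by
        show (χ : H → ℂ) (E 1) = c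
        rw [map_one, hc]
      rw [h4] at h3
      exact h3
    · funext x
      have h3 := hη' (E.symm x)
      have h4 : ((χ : H → ℂ) ∘ E.toMonoidHom) (E.symm x) = (χ : H → ℂ) x := by
        show (χ : H → ℂ) (E (E.symm x)) = _
        rw [E.apply_symm_apply]
      rw [h4] at h3
      exact h3.symm
  obtain ⟨η₁, e1, e1'⟩ := key χ₁ a h1 fun z hz => (hker z hz).1
  obtain ⟨η₂, e2, e2'⟩ := key χ₂ b h2 fun z hz => (hker z hz).2
  refine ⟨η₁, η₂, e1, e2, fun p k hp hk hpN => ⟨fun hs => ?_, fun ht => ?_⟩⟩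
  · refine (mem_B0_infl_iff hp f hf hZ e1').1 (mem_fst hp hMF k d2 hpN ?_ ?_)
    · intro h
      exact absurd (Nat.dvd_one.1 h) (by
        have := Nat.one_lt_pow hk.ne' hp.one_lt
        omega)
    · intro h
      refine hs ?_
      have h3 : p ^ k ∣ (1 + b) + a := by
        have : 1 + b + a = Nat.card X := by omega
        rw [this]; exact hpN
      exact (Nat.dvd_add_right h).1 h3
  · refine (mem_B0_infl_iff hp f hf hZ e2').1 (mem_snd hp hMF k d1 hpN ?_ ?_)
    · intro h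
      exact absurd (Nat.dvd_one.1 h) (by
        have := Nat.one_lt_pow hk.ne' hp.one_lt
        omega)
    · intro h
      refine ht ?_
      have h3 : p ^ k ∣ (1 + a) + b := by
        have : 1 + a + b = Nat.card X := by omega
        rw [this]; exact hpN
      exact (Nat.dvd_add_right h).1 h3

section forms

variable {K : Type u} [Field K] [Finite K]

/-- scalars act trivially on the points -/
theorem smul_pt {V : Type v} [AddCommGroup V] [Module K V] {F : CForm K V} {g : F.iso} {c : Kˣ}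
    (hg : ∀ v, (g : V ≃ₗ[K] V) v = (c : K) • v) (y : F.Pt) : g • y = y := by
  apply Subtype.ext
  rw [F.smul_val]
  apply le_antisymm
  · rintro _ ⟨w, hw, rfl⟩
    change (g : V ≃ₗ[K] V) w ∈ y.1
    rw [hg]
    exact y.1.smul_mem _ hw
  · intro w hw
    refine ⟨(c : K)⁻¹ • w, y.1.smul_mem _ hw, ?_⟩
    change (g : V ≃ₗ[K] V) ((c : K)⁻¹ • w) = w
    rw [hg, smul_smul, mul_inv_cancel₀ c.ne_zero, one_smul]

/-- transitivity on the points -/
theorem trans_pt {V : Type v} [AddCommGroup V] [Module K V] [FiniteDimensional K V] {F : CForm K V} (H : Subgroup F.iso)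
    (hH : ∀ (g : F.iso) (x y : F.Pt), ∃ h ∈ H, h • x = g • x ∧ h • y = g • y) :
    MulAction.IsPretransitive H F.Pt := by
  refine ⟨fun x y => ?_⟩
  obtain ⟨g, hg⟩ := F.trans_Om x.2 y.2
  have hg' : g • x = y := Subtype.ext hg
  obtain ⟨h, hh, h1, -⟩ := hH g x x
  exact ⟨⟨h, hh⟩, h1.trans hg'⟩

/-- degrees divisible by `q` -/
theorem ne_one_of {Q x z : ℤ} {n : ℕ} (hQ : 2 ≤ Q) (hx : IsCoprime Q x) (h : x * n = Q * z) : n ≠ 1 := by
  rintro rfl
  have h1 : Q ∣ x * ((1 : ℕ) : ℤ) := ⟨z, h⟩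
  rw [Nat.cast_one, mul_one] at h1
  have h2 := hx.isUnit_of_dvd' dvd_rfl h1
  rw [Int.isUnit_iff] at h2
  omega

variable (K)

/-- **`PSp_{2m}(q)`** -/
theorem r3t_psp {m : ℕ} (hm : 2 ≤ m) (ho : Odd (Nat.card K)) : ∃ s t N : ℕ, R3T (PSp m K) s t N ∧
    2 * ((Nat.card K : ℤ) - 1) * s = Nat.card K * (Nat.card K ^ (m - 1) + 1) * ((Nat.card K : ℤ) ^ m - 1) ∧
    2 * ((Nat.card K : ℤ) - 1) * t = Nat.card K * (Nat.card K ^ (m - 1) - 1) * ((Nat.card K : ℤ) ^ m + 1) ∧
    ((Nat.card K : ℤ) - 1) * N = (Nat.card K : ℤ) ^ (2 * m) - 1 := by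
  classical
  have hfin := Fintype.ofFinite K
  have hq : 2 ≤ Nat.card K := Finite.one_lt_card
  have hq3 : 3 ≤ Nat.card K := by
    obtain ⟨r, hr⟩ := ho
    omega
  obtain ⟨n, rfl⟩ : ∃ n, m = n + 1 := ⟨m - 1, by omega⟩
  obtain ⟨e, f, j, h⟩ := CForm.frm_sp (K := K) (show 1 + n = n + 1 by omega)
  have hsing : ∀ k : ℕ, Nat.card {v : Fin k ⊕ Fin k → K // (CForm.spF K k).Sing v} = Nat.card K ^ (2 * k) := by
    intro k
    have e1 : Nat.card {v : Fin k ⊕ Fin k → K // (CForm.spF K k).Sing v} = Nat.card (Fin k ⊕ Fin k → K) :=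
      Nat.card_congr (Equiv.subtypeUnivEquiv fun v => ⟨rfl, (CForm.spF K k).alt v rfl⟩)
    rw [e1, Nat.card_fun, Nat.card_eq_fintype_card (α := Fin k ⊕ Fin k), Fintype.card_sum, Fintype.card_fin, two_mul]
  have hH : ∀ (g : (CForm.spF K (n + 1)).iso) (x y : (CForm.spF K (n + 1)).Pt),
      ∃ h ∈ (⊤ : Subgroup (CForm.spF K (n + 1)).iso), h • x = g • x ∧ h • y = g • y :=
    fun g x y => ⟨g, Subgroup.mem_top _, rfl, rfl⟩
  obtain ⟨χ₁, χ₂, s, t, c1, c2, c3, c4, c5, c6⟩ := exists_chars_of' h.hyp (P := Nat.card K ^ n)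
    (P' := Nat.card K ^ n) (two_le_pow hq (by omega)) (Nat.one_le_pow _ _ (by omega))
    (by rw [hsing, ← num_odd hq n])
    (by rw [hsing, ← pow_succ', ← num_odd hq (n + 1)])
    ⊤ hH
  have hfi : Finite (CForm.spF K (n + 1)).iso := finite_iso _
  have hfp : Finite (CForm.spF K (n + 1)).Pt := inferInstance
  have htr := trans_pt (F := CForm.spF K (n + 1)) ⊤ hH
  have hz : ((Nat.card K : ℤ) ^ n) ≠ 0 := pow_ne_zero _ (by exact_mod_cast (by omega : Nat.card K ≠ 0))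
  have d3 : 2 * ((Nat.card K : ℤ) - 1) * s = Nat.card K * (Nat.card K ^ n + 1) * ((Nat.card K : ℤ) ^ (n + 1) - 1) := by
    apply mul_left_cancel₀ hz
    push_cast at c3
    linear_combination c3
  have d4 : 2 * ((Nat.card K : ℤ) - 1) * t = Nat.card K * (Nat.card K ^ n - 1) * ((Nat.card K : ℤ) ^ (n + 1) + 1) := by
    apply mul_left_cancel₀ hz
    push_cast at c4
    linear_combination c4
  have hcop : IsCoprime (Nat.card K : ℤ) (2 * ((Nat.card K : ℤ) - 1)) := by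
    apply IsCoprime.mul_right
    · obtain ⟨r, hr⟩ := ho
      refine ⟨1, -r, ?_⟩
      rw [hr]; push_cast; ring
    · exact ⟨1, -1, by ring⟩
  have hs1 : s ≠ 1 := ne_one_of (by exact_mod_cast hq) hcop (d3.trans (mul_assoc _ _ _))
  have ht1 : t ≠ 1 := ne_one_of (by exact_mod_cast hq) hcop (d4.trans (mul_assoc _ _ _))
  have hst : s ≠ t := by
    rintro rfl
    have h1 : (Nat.card K : ℤ) * (Nat.card K ^ n + 1) * ((Nat.card K : ℤ) ^ (n + 1) - 1) =
        Nat.card K * (Nat.card K ^ n - 1) * ((Nat.card K : ℤ) ^ (n + 1) + 1) := d3.symm.trans d4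
    have h2 : (2 * (Nat.card K : ℤ)) * ((Nat.card K : ℤ) ^ n * ((Nat.card K : ℤ) - 1)) = 0 := by
      linear_combination h1
    rcases mul_eq_zero.1 h2 with h3 | h3
    · omega
    · rcases mul_eq_zero.1 h3 with h4 | h4
      · exact hz h4
      · omega
  let E : Matrix.symplecticGroup (Fin (n + 1)) K ≃* (⊤ : Subgroup (CForm.spF K (n + 1)).iso) :=
    (isoSp (n + 1) K).trans Subgroup.topEquiv.symm
  have hfO : Finite (Matrix.symplecticGroup (Fin (n + 1)) K) := Finite.of_equiv _ E.symm.toEquiv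
  have hR := r3t_center (X := (CForm.spF K (n + 1)).Pt) E c1 c2 hs1 ht1 hst c5 (fun z hz => c6 _ fun y => by
    rcases Cfsg.Agent.ClassicalGeometry.SympInvolutions.center_eq hz with h | h
    · refine smul_pt (g := isoSp (n + 1) K z) (c := 1) (fun v => ?_) y
      rw [isoSp_apply, h, Matrix.one_mulVec, Units.val_one, one_smul]
    · refine smul_pt (g := isoSp (n + 1) K z) (c := -1) (fun v => ?_) y
      rw [isoSp_apply, h, Matrix.neg_mulVec, Matrix.one_mulVec, Units.val_neg, Units.val_one, neg_one_smul])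
  refine ⟨s, t, _, hR, d3, d4, ?_⟩
  have h5 := card_sing (F := CForm.spF K (n + 1))
  rw [hsing] at h5
  have h6 : (((Nat.card K - 1 : ℕ) : ℤ)) = (Nat.card K : ℤ) - 1 := by
    rw [Nat.cast_sub (by omega)]; simp
  have h7 := congrArg (fun x : ℕ => (x : ℤ)) h5
  push_cast [h6] at h7
  linear_combination h7

/-- **`PΩ⁻_{2r+2}(q)`** -/
theorem r3t_minus (a b : K) (hab : ∀ z₁ z₂ : K, z₁ ^ 2 + a * z₁ * z₂ + b * z₂ ^ 2 = 0 → z₁ = 0 ∧ z₂ = 0) {r : ℕ}
    (hr : 3 ≤ r) : ∃ s t N : ℕ, R3T (POmega K (quadFormMinus r K a b)) s t N ∧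
    ((Nat.card K : ℤ) ^ 2 - 1) * s = Nat.card K ^ 2 * ((Nat.card K : ℤ) ^ (2 * r) - 1) ∧
    ((Nat.card K : ℤ) ^ 2 - 1) * t = Nat.card K * (Nat.card K ^ (r + 1) + 1) * ((Nat.card K : ℤ) ^ (r - 1) - 1) ∧
    ((Nat.card K : ℤ) - 1) * N = ((Nat.card K : ℤ) ^ r - 1) * ((Nat.card K : ℤ) ^ (r + 1) + 1) := by
  classical
  have hfin := Fintype.ofFinite K
  have hq : 2 ≤ Nat.card K := Finite.one_lt_card
  obtain ⟨n, rfl⟩ : ∃ n, r = n + 1 := ⟨r - 1, by omega⟩
  obtain ⟨e, f, j, h⟩ := CForm.frm_minus (K := K) hab (show 1 + n = n + 1 by omega)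
  obtain ⟨e3, f3, j3, h3⟩ := CForm.frm_minus (K := K) hab (show 3 + (n - 2) = n + 1 by omega)
  have hc : Fintype.card K = Nat.card K := Nat.card_eq_fintype_card.symm
  have hG : LieClassical.OrthTrans.Good (LieClassical.OrthForms.minusForm (n + 1) K a b) := by
    apply LieClassical.OrthFinite.good_of_finite (LieClassical.OrthForms.nondeg_minusForm (n + 1) K a b hab)
    rw [Module.finrank_fintype_fun_eq_card, Fintype.card_sum, Fintype.card_sum, Fintype.card_fin, Fintype.card_fin]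
    omega
  have hstab := CForm.om_stab (F := CForm.minusF K (n + 1) a b hab) (F' := CForm.minusF K (n - 2) a b hab) hG
    (fun v => congrFun (LieClassical.OrthForms.coe_minusForm (n + 1) K a b) v) (minus_hB K (n + 1) a b hab) h3
    (fun _ => rfl) (fun _ => rfl)
  have hV : Nat.card {v // (CForm.minusF K (n + 1) a b hab).Sing v} =
      (Nat.card K * Nat.card K ^ n - 1) * (Nat.card K * Nat.card K ^ (n + 1) + 1) + 1 := by
    rw [card_Sing_quad, ← pow_succ', ← pow_succ', ← num_minus hq (n + 1)]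
    exact S0290.result hc (n + 2) (by omega) a b hab
  obtain ⟨χ₁, χ₂, s, t, c1, c2, c3, c4, c5, c6⟩ := exists_chars_of' h.hyp (P := Nat.card K ^ n)
    (P' := Nat.card K ^ (n + 1)) (two_le_pow hq (by omega)) (Nat.one_le_pow _ _ (by omega))
    (by
      rw [card_Sing_quad, ← num_minus hq n]
      exact S0290.result hc (n + 1) (by omega) a b hab)
    hV (commutator _) hstab
  have hfi : Finite (CForm.minusF K (n + 1) a b hab).iso := finite_iso _
  have hfp : Finite (CForm.minusF K (n + 1) a b hab).Pt := inferInstance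
  have htr := trans_pt (F := CForm.minusF K (n + 1) a b hab) (commutator _) hstab
  have hz : ((Nat.card K : ℤ) ^ n) ≠ 0 := pow_ne_zero _ (by exact_mod_cast (by omega : Nat.card K ≠ 0))
  have d3 : ((Nat.card K : ℤ) ^ 2 - 1) * s = Nat.card K ^ 2 * ((Nat.card K : ℤ) ^ (2 * (n + 1)) - 1) := by
    apply mul_left_cancel₀ hz
    have e2 : 2 * (n + 1) = (n + 1) + (n + 1) := by omega
    rw [e2]
    push_cast at c3
    linear_combination c3
  have d4 : ((Nat.card K : ℤ) ^ 2 - 1) * t = Nat.card K * (Nat.card K ^ (n + 1 + 1) + 1) *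
      ((Nat.card K : ℤ) ^ (n + 1 - 1) - 1) := by
    apply mul_left_cancel₀ hz
    have e2 : n + 1 - 1 = n := by omega
    rw [e2]
    push_cast at c4
    linear_combination c4
  have hcop : IsCoprime (Nat.card K : ℤ) ((Nat.card K : ℤ) ^ 2 - 1) := ⟨Nat.card K, -1, by ring⟩
  have hs1 : s ≠ 1 := ne_one_of (by exact_mod_cast hq) hcop (z := Nat.card K * ((Nat.card K : ℤ) ^ (2 * (n + 1)) - 1))
    (by rw [d3]; ring)
  have ht1 : t ≠ 1 := ne_one_of (by exact_mod_cast hq) hcop (d4.trans (mul_assoc _ _ _))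
  have hst : s ≠ t := by
    rintro rfl
    -- `q ^ 2` divides `s` but not `t`
    have h1 : (Nat.card K : ℤ) ^ 2 * ((Nat.card K : ℤ) ^ (2 * (n + 1)) - 1) = Nat.card K * (Nat.card K ^ (n + 1 + 1) + 1) *
      ((Nat.card K : ℤ) ^ (n + 1 - 1) - 1) := d3.symm.trans d4
    have hK0 : (Nat.card K : ℤ) ≠ 0 := by exact_mod_cast (by omega : Nat.card K ≠ 0)
    have h2 : (Nat.card K : ℤ) * ((Nat.card K : ℤ) ^ (2 * (n + 1)) - 1) = (Nat.card K ^ (n + 1 + 1) + 1) *
      ((Nat.card K : ℤ) ^ n - 1) := by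
      apply mul_left_cancel₀ hK0
      rw [Nat.add_sub_cancel] at h1
      linear_combination h1
    obtain ⟨i, rfl⟩ : ∃ i, n = i + 1 := ⟨n - 1, by omega⟩
    have h3 : (Nat.card K : ℤ) ∣ 1 := by
      refine ⟨(Nat.card K : ℤ) ^ (2 * i + 3) - (Nat.card K : ℤ) ^ (i + 2) + (Nat.card K : ℤ) ^ i -
        (Nat.card K : ℤ) ^ (2 * (i + 2)) + 1, ?_⟩
      linear_combination h2
    have h4 := Int.le_of_dvd one_pos h3
    omega
  have hB := minus_hB K (n + 1) a b hab
  have e0 : (Omega K (CForm.minusF K (n + 1) a b hab).Q).map (isoQuad (CForm.minusF K (n + 1) a b hab) hB).toMonoidHom =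
      commutator (CForm.minusF K (n + 1) a b hab).iso := by
    change (commutator (isometryGroup K _)).map (isoQuad _ hB).toMonoidHom = commutator _
    rw [commutator_def, commutator_def, Subgroup.map_commutator, ← MonoidHom.range_eq_map]
    have : (isoQuad (CForm.minusF K (n + 1) a b hab) hB).toMonoidHom.range = ⊤ :=
      MonoidHom.range_eq_top.2 (isoQuad _ hB).surjective
    rw [this]
  let E : Omega K (CForm.minusF K (n + 1) a b hab).Q ≃* commutator (CForm.minusF K (n + 1) a b hab).iso :=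
    ((isoQuad (CForm.minusF K (n + 1) a b hab) hB).subgroupMap _).trans (MulEquiv.subgroupCongr e0)
  have hfO : Finite (Omega K (CForm.minusF K (n + 1) a b hab).Q) := Finite.of_equiv _ E.symm.toEquiv
  have hR := r3t_center (X := (CForm.minusF K (n + 1) a b hab).Pt) E c1 c2 hs1 ht1 hst c5 (fun z hz => c6 _ fun y => by
    obtain ⟨c, -, hc⟩ := scal_of (cen_minus K (by omega) a b hab z hz)
    exact smul_pt (g := isoQuad (CForm.minusF K (n + 1) a b hab) hB z) (c := c) (fun v => hc v) y)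
  refine ⟨s, t, _, hR, d3, d4, ?_⟩
  have h5 := card_sing (F := CForm.minusF K (n + 1) a b hab)
  rw [hV] at h5
  have h6 : (((Nat.card K - 1 : ℕ) : ℤ)) = (Nat.card K : ℤ) - 1 := by
    rw [Nat.cast_sub (by omega)]; simp
  have h8 : (((Nat.card K * Nat.card K ^ n - 1 : ℕ) : ℤ)) = (Nat.card K : ℤ) * Nat.card K ^ n - 1 := by
    rw [Nat.cast_sub (by
      have := Nat.one_le_pow n (Nat.card K) (by omega)
      nlinarith only [hq, this])]
    simp
  have h7 := congrArg (fun x : ℕ => (x : ℤ)) (Nat.add_right_cancel h5)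
  push_cast [h6, h8] at h7
  linear_combination h7

end forms

end Cfsg.Agent.H897.PQ.Rk3
end

-- part: H897/PQ/Rank3Rows
section
/-!
# S4612: rows from the rank 3 test (task R)

`K` a finite field of odd order `q`, `l` an odd prime:
* `psp_two_unit` : `¬ Same 2 l (PSp m K)`, `m` even, `ord_l q = 2 m`;
* `minus_two_unit` : `¬ Same 2 l (PΩ⁻_{2r+2}(q))`, `r` even, `ord_l q = 2 (r + 1)`;
* `minus_succ` : `¬ Same p l (PΩ⁻_{2r+2}(q))`, `r` even, `ord_l q = 2 r`, `p` a prime divisor of `q + 1` (in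
  particular `p = 2`).
-/

set_option autoImplicit false
set_option linter.unusedSectionVars false

open Cfsg

namespace Cfsg.Agent.H897.PQ.Rk3

open Cfsg.Agent.H53.HC Cfsg.Agent.H477.HC Cfsg.Agent.H317.PQ

universe u

/-! ### arithmetic -/

section arith

variable {q l : ℕ}

theorem dvd_pow_sub_one (h1 : 1 ≤ q) (i : ℕ) : l ∣ q ^ i - 1 ↔ orderOf ((q : ℕ) : ZMod l) ∣ i := by
  rw [orderOf_dvd_iff_pow_eq_one, ← ZMod.natCast_eq_zero_iff, Nat.cast_sub (Nat.one_le_pow _ _ h1), Nat.cast_pow,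
    Nat.cast_one, sub_eq_zero]

theorem sq_sub' (x : ℕ) : x ^ 2 - 1 = (x + 1) * (x - 1) := by
  have := Nat.sq_sub_sq x 1
  rwa [one_pow] at this

/-- `ord_l q = 2 n` : `l ∣ q ^ n + 1` -/
theorem dvd_add_one (hl : l.Prime) (h1 : 1 ≤ q) {n : ℕ} (hn : 0 < n) (ho : orderOf ((q : ℕ) : ZMod l) = 2 * n) :
    l ∣ q ^ n + 1 := by
  have h2 : l ∣ q ^ (2 * n) - 1 := (dvd_pow_sub_one h1 _).2 (by rw [ho])
  rw [mul_comm, pow_mul, sq_sub'] at h2
  refine (hl.dvd_mul.1 h2).resolve_right fun h3 => ?_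
  rw [dvd_pow_sub_one h1, ho] at h3
  have := Nat.le_of_dvd hn h3
  omega

/-- `l` divides no `q ^ i + 1` with `i` not an odd multiple of `n` -/
theorem not_dvd_add_one' (hl : l.Prime) (hl2 : l ≠ 2) (h1 : 1 ≤ q) {n : ℕ}
    (ho : orderOf ((q : ℕ) : ZMod l) = 2 * n) {i : ℕ} (hi : ¬ n ∣ i) : ¬ l ∣ q ^ i + 1 := by
  intro h
  have h2 : l ∣ q ^ (2 * i) - 1 := by
    rw [mul_comm, pow_mul, sq_sub']
    exact Dvd.dvd.mul_right h _
  rw [dvd_pow_sub_one h1, ho] at h2
  exact hi (Nat.dvd_of_mul_dvd_mul_left (by norm_num) h2)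

/-- the full `l`-part -/
theorem full_part (hl : l.Prime) {A B C s : ℕ} (hA : 0 < A) (hAB : ¬ l ∣ B) (hs : A ∣ C * s) (hC : ¬ l ∣ C) :
    ∃ j, l ^ j ∣ s ∧ ∀ n, n ∣ B * A → ¬ l ^ (j + 1) ∣ n := by
  refine ⟨A.factorization l, ?_, fun n hn h => ?_⟩
  · have h1 : l ^ A.factorization l ∣ C * s := (Nat.ordProj_dvd A l).trans hs
    exact ((Nat.Coprime.pow_left _ ((Nat.Prime.coprime_iff_not_dvd hl).2 hC)).dvd_of_dvd_mul_left h1)
  · have h1 : l ^ (A.factorization l + 1) ∣ B * A := h.trans hn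
    have h2 := (Nat.Coprime.pow_left (A.factorization l + 1) ((Nat.Prime.coprime_iff_not_dvd hl).2 hAB)).dvd_of_dvd_mul_left h1
    exact Nat.pow_succ_factorization_not_dvd hA.ne' hl h2

theorem odd_geom (hq : Odd q) {n : ℕ} (hn : Odd n) : Odd (∑ i ∈ Finset.range n, q ^ i) := by
  rw [Finset.odd_sum_iff_odd_card_odd]
  have : (Finset.range n).filter (fun i => Odd (q ^ i)) = Finset.range n := by
    apply Finset.filter_true_of_mem
    intro i _
    exact hq.pow
  rw [this, Finset.card_range]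
  exact hn

end arith

/-! ### symplectic groups -/

section rows

variable {K : Type u} [Field K] [Finite K] {l : ℕ}

/-- **`PSp_{2m}(q)`, `m` even, `ord_l q = 2 m`, the pair `{2, l}`** -/
theorem psp_two_unit {m : ℕ} (hm : 2 ≤ m) (he : Even m) (hodd : Odd (Nat.card K)) (hl : l.Prime) (hl2 : l ≠ 2)
    (hlK : ¬ l ∣ Nat.card K) (ho : orderOf ((Nat.card K : ℕ) : ZMod l) = 2 * m) (hlG : l ∣ Nat.card (PSp m K)) :
    ¬ Same 2 l (PSp m K) := by
  classical
  obtain ⟨s, t, N, hR, -, ht, hN⟩ := r3t_psp K hm hodd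
  have hq2 : 2 ≤ Nat.card K := Finite.one_lt_card
  obtain ⟨q, hq⟩ : ∃ q, q = Nat.card K := ⟨_, rfl⟩
  rw [← hq] at hodd hlK ho ht hN hq2
  have h1 : 1 ≤ q := by omega
  have hz : (q : ℤ) - 1 ≠ 0 := by omega
  have ht' : 2 * t = q * (∑ i ∈ Finset.range (m - 1), q ^ i) * (q ^ m + 1) := by
    have hg := mul_geom_sum (q : ℤ) (m - 1)
    zify
    apply mul_left_cancel₀ hz
    push_cast at hg ⊢
    linear_combination ht - (q : ℤ) * ((q : ℤ) ^ m + 1) * hg
  have hN' : N = (∑ i ∈ Finset.range m, q ^ i) * (q ^ m + 1) := by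
    have hg := mul_geom_sum (q : ℤ) m
    zify
    apply mul_left_cancel₀ hz
    have e2 : (q : ℤ) ^ (2 * m) = (q : ℤ) ^ m * (q : ℤ) ^ m := by rw [← pow_add, two_mul]
    rw [e2] at hN
    push_cast at hg ⊢
    linear_combination hN - ((q : ℤ) ^ m + 1) * hg
  have h4 : q ^ m % 4 = 1 := by
    obtain ⟨n, rfl⟩ := he
    have h5 : q ^ (n + n) = (q ^ n) ^ 2 := by rw [← pow_mul]; congr 1; ring
    rw [h5]
    obtain ⟨w, hw⟩ := hodd.pow (n := n)
    rw [hw]
    have : (2 * w + 1) ^ 2 = 4 * (w * (w + 1)) + 1 := by ring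
    omega
  obtain ⟨u, hu⟩ : ∃ u, q ^ m + 1 = 2 * u := ⟨(q ^ m + 1) / 2, by omega⟩
  have hu2 : Odd u := by rw [Nat.odd_iff]; omega
  have ht2 : t = q * (∑ i ∈ Finset.range (m - 1), q ^ i) * u := by
    rw [hu] at ht'
    have : 2 * t = 2 * (q * (∑ i ∈ Finset.range (m - 1), q ^ i) * u) := by rw [ht']; ring
    omega
  have htodd : Odd t := by
    rw [ht2]
    refine (hodd.mul (odd_geom hodd ?_)).mul hu2
    obtain ⟨n, rfl⟩ := he
    exact ⟨n - 1, by omega⟩
  have hc : Nat.card (PSp m K) ∣ q ^ (m ^ 2) * ∏ i ∈ Finset.range m, (q ^ (2 * (i + 1)) - 1) := by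
    have h5 := card_spF K m
    rw [← Nat.card_congr (isoSp m K).toEquiv, ← hq] at h5
    rw [← h5]
    exact Subgroup.card_quotient_dvd_card _
  obtain ⟨j, hj1, hj2⟩ := full_part (l := l) hl (A := q ^ m + 1) (B := q ^ (m ^ 2) *
      (∏ i ∈ Finset.range (m - 1), (q ^ (2 * (i + 1)) - 1)) * (q ^ m - 1)) (C := 2) (s := t) (Nat.succ_pos _) (by
    intro h
    rcases hl.dvd_mul.1 h with h | h
    · rcases hl.dvd_mul.1 h with h | h
      · exact hlK (hl.dvd_of_dvd_pow h)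
      · obtain ⟨i, hi, h⟩ := (Prime.dvd_finset_prod_iff hl.prime _).1 h
        rw [dvd_pow_sub_one h1, ho] at h
        have := Nat.le_of_dvd (by omega) h
        rw [Finset.mem_range] at hi
        omega
    · rw [dvd_pow_sub_one h1, ho] at h
      have := Nat.le_of_dvd (by omega) h
      omega) (Dvd.intro_left _ ht'.symm) (fun h => hl2 ((Nat.prime_dvd_prime_iff_eq hl Nat.prime_two).1 h))
  refine hR.snd Nat.prime_two one_pos (k := 1) (j := j) ?_ ?_ hl hlG (hj2 _ ?_) hj1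
  · rw [pow_one, hN', hu]
    exact ⟨(∑ i ∈ Finset.range m, q ^ i) * u, by ring⟩
  · rw [pow_one, ← even_iff_two_dvd, Nat.not_even_iff_odd]
    exact htodd
  · refine hc.trans (dvd_of_eq ?_)
    obtain ⟨n, rfl⟩ : ∃ n, m = n + 1 := ⟨m - 1, by omega⟩
    rw [Finset.prod_range_succ, Nat.add_sub_cancel]
    have h5 : q ^ (2 * (n + 1)) - 1 = (q ^ (n + 1) + 1) * (q ^ (n + 1) - 1) := by
      rw [mul_comm 2, pow_mul, sq_sub']
    rw [h5]
    ring

/-! ### orthogonal groups of minus type -/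

theorem card_pomega_dvd (r : ℕ) (a b : K) (hab : ∀ z₁ z₂ : K, z₁ ^ 2 + a * z₁ * z₂ + b * z₂ ^ 2 = 0 → z₁ = 0 ∧ z₂ = 0) :
    Nat.card (POmega K (quadFormMinus r K a b)) ∣ 2 * Nat.card K ^ ((r + 1) * r) * (Nat.card K ^ (r + 1) + 1) *
      ∏ i ∈ Finset.range r, (Nat.card K ^ (2 * (i + 1)) - 1) := by
  rw [← card_minusF K r a b hab]
  have h5 := Nat.card_congr (isoQuad (CForm.minusF K r a b hab) (minus_hB K r a b hab)).toEquiv
  rw [← h5]
  exact (Subgroup.card_quotient_dvd_card _).trans (Subgroup.card_subgroup_dvd_card _)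

/-- the numbers for `r` even -/
theorem minus_num {a b : K} (hab : ∀ z₁ z₂ : K, z₁ ^ 2 + a * z₁ * z₂ + b * z₂ ^ 2 = 0 → z₁ = 0 ∧ z₂ = 0) {i : ℕ}
    (hi : 2 ≤ i) : ∃ s t N : ℕ, R3T (POmega K (quadFormMinus (2 * i) K a b)) s t N ∧
    s = Nat.card K ^ 2 * (∑ j ∈ Finset.range i, (Nat.card K ^ 2) ^ j) * (Nat.card K ^ (2 * i) + 1) ∧
    t = Nat.card K * (1 + (Nat.card K - 1) * Nat.card K * ∑ j ∈ Finset.range i, (Nat.card K ^ 2) ^ j) *
      (∑ j ∈ Finset.range (2 * i - 1), Nat.card K ^ j) ∧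
    N = (Nat.card K + 1) ^ 2 * (∑ j ∈ Finset.range i, (Nat.card K ^ 2) ^ j) *
      (1 + (Nat.card K - 1) * Nat.card K * ∑ j ∈ Finset.range i, (Nat.card K ^ 2) ^ j) := by
  obtain ⟨s, t, N, hR, hs, ht, hN⟩ := r3t_minus K a b hab (r := 2 * i) (by omega)
  have hq2 : 2 ≤ Nat.card K := Finite.one_lt_card
  obtain ⟨q, hq⟩ : ∃ q, q = Nat.card K := ⟨_, rfl⟩
  rw [← hq] at hs ht hN hq2 ⊢
  have hz : (q : ℤ) - 1 ≠ 0 := by omega
  have hz2 : (q : ℤ) ^ 2 - 1 ≠ 0 := by
    have : (q : ℤ) ^ 2 - 1 = (q - 1) * (q + 1) := by ring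
    rw [this]
    exact mul_ne_zero hz (by omega)
  obtain ⟨S, hS⟩ : ∃ S, S = ∑ j ∈ Finset.range i, (q ^ 2) ^ j := ⟨_, rfl⟩
  obtain ⟨B, hB⟩ : ∃ B, B = ∑ j ∈ Finset.range (2 * i - 1), q ^ j := ⟨_, rfl⟩
  have hS' : ((q : ℤ) ^ 2 - 1) * S = (q : ℤ) ^ (2 * i) - 1 := by
    rw [hS, pow_mul]
    push_cast
    exact mul_geom_sum _ _
  have hB' : ((q : ℤ) - 1) * B = (q : ℤ) ^ (2 * i - 1) - 1 := by
    rw [hB]
    push_cast
    exact mul_geom_sum _ _
  rw [← hS, ← hB]
  have hcast : (((q - 1 : ℕ) : ℤ)) = (q : ℤ) - 1 := by rw [Nat.cast_sub (by omega)]; simp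
  refine ⟨s, t, N, hR, ?_, ?_, ?_⟩
  · zify
    apply mul_left_cancel₀ hz2
    have e2 : (q : ℤ) ^ (2 * (2 * i)) = (q : ℤ) ^ (2 * i) * (q : ℤ) ^ (2 * i) := by rw [← pow_add, two_mul]
    rw [e2] at hs
    linear_combination hs - (q : ℤ) ^ 2 * ((q : ℤ) ^ (2 * i) + 1) * hS'
  · zify
    rw [hcast]
    apply mul_left_cancel₀ hz2
    rw [pow_succ (q : ℤ) (2 * i)] at ht
    linear_combination ht - (q : ℤ) * ((q : ℤ) ^ (2 * i) * q + 1) * hB' -
      (q : ℤ) * ((q : ℤ) - 1) * q * B * hS'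
  · zify
    rw [hcast]
    apply mul_left_cancel₀ hz
    rw [pow_succ (q : ℤ) (2 * i)] at hN
    have h3 : ((q : ℤ) - 1) * ((q + 1) * S) = (q : ℤ) ^ (2 * i) - 1 := by rw [← hS']; ring
    have h4 : ((q : ℤ) + 1) * (1 + (q - 1) * q * S) = (q : ℤ) ^ (2 * i) * q + 1 := by
      linear_combination (q : ℤ) * h3
    calc ((q : ℤ) - 1) * N = ((q : ℤ) ^ (2 * i) - 1) * ((q : ℤ) ^ (2 * i) * q + 1) := hN
      _ = ((q : ℤ) - 1) * ((q + 1) * S) * (((q : ℤ) + 1) * (1 + (q - 1) * q * S)) := by rw [h3, h4]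
      _ = _ := by ring

/-- **`PΩ⁻_{2r+2}(q)`, `r` even, `ord_l q = 2 (r + 1)`, the pair `{2, l}`** -/
theorem minus_two_unit {r : ℕ} (hr : 4 ≤ r) (he : Even r) {a b : K}
    (hab : ∀ z₁ z₂ : K, z₁ ^ 2 + a * z₁ * z₂ + b * z₂ ^ 2 = 0 → z₁ = 0 ∧ z₂ = 0) (hodd : Odd (Nat.card K))
    (hl : l.Prime) (hl2 : l ≠ 2) (hlK : ¬ l ∣ Nat.card K)
    (ho : orderOf ((Nat.card K : ℕ) : ZMod l) = 2 * (r + 1)) (hlG : l ∣ Nat.card (POmega K (quadFormMinus r K a b))) :
    ¬ Same 2 l (POmega K (quadFormMinus r K a b)) := by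
  classical
  obtain ⟨i, rfl⟩ : ∃ i, r = 2 * i := ⟨r / 2, by obtain ⟨n, rfl⟩ := he; omega⟩
  have hfO : Finite (POmega K (quadFormMinus (2 * i) K a b)) := inferInstance
  obtain ⟨s, t, N, hR, hs, ht, hN⟩ := minus_num (K := K) hab (i := i) (by omega)
  have hc := card_pomega_dvd (2 * i) a b hab
  have hq2 : 2 ≤ Nat.card K := Finite.one_lt_card
  obtain ⟨q, hq⟩ : ∃ q, q = Nat.card K := ⟨_, rfl⟩
  rw [← hq] at hodd hlK ho ht hN hq2 hc hs
  have h1 : 1 ≤ q := by omega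
  obtain ⟨S, hS⟩ : ∃ S, S = ∑ j ∈ Finset.range i, (q ^ 2) ^ j := ⟨_, rfl⟩
  obtain ⟨B, hB⟩ : ∃ B, B = ∑ j ∈ Finset.range (2 * i - 1), q ^ j := ⟨_, rfl⟩
  rw [← hS] at hN hs
  rw [← hS, ← hB] at ht
  have hA : Odd (1 + (q - 1) * q * S) := by
    obtain ⟨w, hw⟩ := hodd
    refine ⟨w * q * S, ?_⟩
    have : q - 1 = 2 * w := by omega
    rw [this]; ring
  have hBo : Odd B := by rw [hB]; exact odd_geom hodd ⟨i - 1, by omega⟩
  have hS' : (q ^ 2 - 1) * S = q ^ (2 * i) - 1 := by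
    rw [hS, pow_mul]
    have h3 := mul_geom_sum ((q : ℤ) ^ 2) i
    have h4 : 1 ≤ q ^ 2 := Nat.one_le_pow _ _ (by omega)
    have h5 : 1 ≤ (q ^ 2) ^ i := Nat.one_le_pow _ _ (by positivity)
    zify [h4, h5]
    exact h3
  have hA' : (q + 1) * (1 + (q - 1) * q * S) = q ^ (2 * i + 1) + 1 := by
    have h4 : 1 ≤ q ^ 2 := Nat.one_le_pow _ _ (by omega)
    have h5 : 1 ≤ q ^ (2 * i) := Nat.one_le_pow _ _ (by omega)
    zify [h1, h4, h5] at hS' ⊢
    linear_combination (q : ℤ) * hS'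
  obtain ⟨j, hj1, hj2⟩ := full_part (l := l) hl (A := q ^ (2 * i + 1) + 1) (B := 2 * q ^ ((2 * i + 1) * (2 * i)) *
      (∏ j ∈ Finset.range (2 * i), (q ^ (2 * (j + 1)) - 1))) (C := q + 1) (s := t) (Nat.succ_pos _) (by
    intro h
    rcases hl.dvd_mul.1 h with h | h
    · rcases hl.dvd_mul.1 h with h | h
      · exact hl2 ((Nat.prime_dvd_prime_iff_eq hl Nat.prime_two).1 h)
      · exact hlK (hl.dvd_of_dvd_pow h)
    · obtain ⟨j, hj, h⟩ := (Prime.dvd_finset_prod_iff hl.prime _).1 h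
      rw [dvd_pow_sub_one h1, ho] at h
      have := Nat.le_of_dvd (by omega) h
      rw [Finset.mem_range] at hj
      omega) (by
        rw [ht, ← hA']
        exact ⟨q * B, by ring⟩) (by
        have := not_dvd_add_one' hl hl2 h1 ho (i := 1) (by
          intro h
          have := Nat.le_of_dvd one_pos h
          omega)
        rwa [pow_one] at this)
  refine hR.snd Nat.prime_two one_pos (k := 1) (j := j) ?_ ?_ hl hlG (hj2 _ ?_) hj1
  · rw [pow_one, hN]
    obtain ⟨w, hw⟩ := hodd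
    refine ⟨(w + 1) * (q + 1) * S * (1 + (q - 1) * q * S), ?_⟩
    have h3 : (q + 1) ^ 2 = 2 * ((w + 1) * (q + 1)) := by
      have : q + 1 = 2 * (w + 1) := by omega
      rw [pow_two]
      nth_rewrite 1 [this]
      ring
    rw [h3]; ring
  · rw [pow_one, ← even_iff_two_dvd, Nat.not_even_iff_odd, ht]
    exact (hodd.mul hA).mul hBo
  · refine hc.trans (dvd_of_eq ?_)
    ring

/-- **`PΩ⁻_{2r+2}(q)`, `r` even, `ord_l q = 2 r`, `p ∣ q + 1`, the pair `{p, l}`** -/
theorem minus_succ {r : ℕ} (hr : 4 ≤ r) (he : Even r) {a b : K}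
    (hab : ∀ z₁ z₂ : K, z₁ ^ 2 + a * z₁ * z₂ + b * z₂ ^ 2 = 0 → z₁ = 0 ∧ z₂ = 0) {p : ℕ} (hp : p.Prime)
    (hpq : p ∣ Nat.card K + 1) (hl : l.Prime) (hl2 : l ≠ 2) (hlK : ¬ l ∣ Nat.card K)
    (ho : orderOf ((Nat.card K : ℕ) : ZMod l) = 2 * r) (hlG : l ∣ Nat.card (POmega K (quadFormMinus r K a b))) :
    ¬ Same p l (POmega K (quadFormMinus r K a b)) := by
  classical
  obtain ⟨i, rfl⟩ : ∃ i, r = 2 * i := ⟨r / 2, by obtain ⟨n, rfl⟩ := he; omega⟩
  have hfO : Finite (POmega K (quadFormMinus (2 * i) K a b)) := inferInstance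
  obtain ⟨s, t, N, hR, hs, ht, hN⟩ := minus_num (K := K) hab (i := i) (by omega)
  have hc := card_pomega_dvd (2 * i) a b hab
  have hq2 : 2 ≤ Nat.card K := Finite.one_lt_card
  obtain ⟨q, hq⟩ : ∃ q, q = Nat.card K := ⟨_, rfl⟩
  rw [← hq] at hpq hlK ho ht hN hq2 hc hs
  have h1 : 1 ≤ q := by omega
  obtain ⟨S, hS⟩ : ∃ S, S = ∑ j ∈ Finset.range i, (q ^ 2) ^ j := ⟨_, rfl⟩
  rw [← hS] at hN hs
  have hS' : (q ^ 2 - 1) * S = q ^ (2 * i) - 1 := by
    rw [hS, pow_mul]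
    have h3 := mul_geom_sum ((q : ℤ) ^ 2) i
    have h4 : 1 ≤ q ^ 2 := Nat.one_le_pow _ _ (by omega)
    have h5 : 1 ≤ (q ^ 2) ^ i := Nat.one_le_pow _ _ (by positivity)
    zify [h4, h5]
    exact h3
  have hS0 : S ≠ 0 := by
    rintro rfl
    rw [mul_zero] at hS'
    have : 2 ^ 1 ≤ q ^ (2 * i) := (Nat.pow_le_pow_left hq2 1).trans (Nat.pow_le_pow_right (by omega) (by omega))
    omega
  have hpK : ¬ p ∣ q := fun h => hp.one_lt.ne' (Nat.dvd_one.1 ((Nat.dvd_add_right h).1 hpq))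
  -- `p ^ 2` does not divide `q ^ r + 1`
  have hp2 : ¬ p ^ 2 ∣ q ^ (2 * i) + 1 := by
    intro h
    have h3 : p ∣ q ^ (2 * i) - 1 := by
      rw [← hS', sq_sub']
      exact Dvd.dvd.mul_right (Dvd.dvd.mul_right hpq _) _
    have h4 : p ∣ 2 := by
      have h5 : p ∣ q ^ (2 * i) + 1 := (dvd_pow_self p two_ne_zero).trans h
      have h6 : q ^ (2 * i) + 1 = (q ^ (2 * i) - 1) + 2 := by
        have := Nat.one_le_pow (2 * i) q (by omega)
        omega
      rw [h6] at h5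
      exact (Nat.dvd_add_right h3).1 h5
    have h5 : p = 2 := (Nat.prime_dvd_prime_iff_eq hp Nat.prime_two).1 h4
    subst h5
    have hodd : Odd q := by
      rw [← Nat.not_even_iff_odd, even_iff_two_dvd]
      exact hpK
    have h6 : q ^ (2 * i) % 4 = 1 := by
      rw [mul_comm, pow_mul]
      obtain ⟨w, hw⟩ := hodd.pow (n := i)
      rw [hw]
      have : (2 * w + 1) ^ 2 = 4 * (w * (w + 1)) + 1 := by ring
      omega
    obtain ⟨c, hc⟩ := h
    omega
  obtain ⟨j, hj1, hj2⟩ := full_part (l := l) hl (A := q ^ (2 * i) + 1) (B := 2 * q ^ ((2 * i + 1) * (2 * i)) *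
      (q ^ (2 * i + 1) + 1) * (∏ j ∈ Finset.range (2 * i - 1), (q ^ (2 * (j + 1)) - 1)) * (q ^ (2 * i) - 1))
      (C := 1) (s := s) (Nat.succ_pos _) (by
    intro h
    rcases hl.dvd_mul.1 h with h | h
    · rcases hl.dvd_mul.1 h with h | h
      · rcases hl.dvd_mul.1 h with h | h
        · rcases hl.dvd_mul.1 h with h | h
          · exact hl2 ((Nat.prime_dvd_prime_iff_eq hl Nat.prime_two).1 h)
          · exact hlK (hl.dvd_of_dvd_pow h)
        · refine not_dvd_add_one' hl hl2 h1 ho ?_ h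
          intro h
          have := (Nat.dvd_add_right (dvd_refl (2 * i))).1 h
          have := Nat.le_of_dvd one_pos this
          omega
      · obtain ⟨j, hj, h⟩ := (Prime.dvd_finset_prod_iff hl.prime _).1 h
        rw [dvd_pow_sub_one h1, ho] at h
        have := Nat.le_of_dvd (by omega) h
        rw [Finset.mem_range] at hj
        omega
    · rw [dvd_pow_sub_one h1, ho] at h
      have := Nat.le_of_dvd (by omega) h
      omega) (by rw [hs]; exact ⟨q ^ 2 * S, by ring⟩) (fun h => hl.one_lt.ne' (Nat.dvd_one.1 h))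
  refine hR.fst hp (k := S.factorization p + 2) (by omega) (j := j) ?_ ?_ hl hlG (hj2 _ ?_) hj1
  · rw [hN, pow_add]
    refine Dvd.dvd.mul_right ?_ _
    rw [mul_comm]
    exact Nat.mul_dvd_mul (pow_dvd_pow_of_dvd hpq 2) (Nat.ordProj_dvd S p)
  · intro h
    rw [hs] at h
    have h3 : q ^ 2 ≠ 0 := by positivity
    have h4 : q ^ (2 * i) + 1 ≠ 0 := by omega
    rw [hp.pow_dvd_iff_le_factorization (mul_ne_zero (mul_ne_zero h3 hS0) h4), Nat.factorization_mul
      (mul_ne_zero h3 hS0) h4, Nat.factorization_mul h3 hS0, Finsupp.add_apply, Finsupp.add_apply] at h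
    have h5 : (q ^ 2).factorization p = 0 := by
      apply Nat.factorization_eq_zero_of_not_dvd
      intro h6
      exact hpK (hp.dvd_of_dvd_pow h6)
    have h6 : (q ^ (2 * i) + 1).factorization p < 2 := by
      by_contra hcon
      push Not at hcon
      exact hp2 ((hp.pow_dvd_iff_le_factorization h4).2 hcon)
    omega
  · refine hc.trans (dvd_of_eq ?_)
    have h7 : 2 * i = (2 * i - 1) + 1 := by omega
    have h5 : ∏ j ∈ Finset.range (2 * i), (q ^ (2 * (j + 1)) - 1) =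
        (∏ j ∈ Finset.range (2 * i - 1), (q ^ (2 * (j + 1)) - 1)) * ((q ^ (2 * i) + 1) * (q ^ (2 * i) - 1)) := by
      conv_lhs => rw [h7, Finset.prod_range_succ]
      rw [← h7, mul_comm 2 (2 * i), pow_mul, sq_sub']
    rw [h5]
    ring

end rows

end Cfsg.Agent.H897.PQ.Rk3
end

-- part: H897/PQ/Rank3Plus
section
/-!
# S4612: the rank 3 test for `PΩ⁺_{2m}(q)` (task R)

* `r3t_plus` : the constituents of the permutation character on the singular points;
* `plus_four` : `¬ Same 2 l (PΩ⁺_8(q))`, `q` odd, `ord_l q = 4`;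
* `plus_two_unit` : `¬ Same 2 l (PΩ⁺_{2m}(q))`, `q` odd, `m` even, `ord_l q = 2 (m - 1)`.
-/

set_option autoImplicit false
set_option linter.unusedSectionVars false

open Cfsg

namespace Cfsg.Agent.H897.PQ.Rk3

open Module Cfsg.Agent.H53.HC Cfsg.Agent.H690.Spor.RankThree Cfsg.Agent.H690.Spor.RankThree.R3
open Cfsg.Agent.Characters Cfsg.Agent.H477.HC Cfsg.Agent.H477.HC.CForm Cfsg.Agent.H33
open Cfsg.Agent.H317.PQ Cfsg.Agent.H329.PQ Cfsg.Agent.H301.PQ Cfsg.Agent.Characters.Core Cfsg.Agent.H934.Eight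
  Cfsg.Agent.H61.PQ Cfsg.Agent.Blocks.Basic

universe u

section plus

variable (K : Type u) [Field K] [Finite K]

/-- **`PΩ⁺_{2m}(q)`** -/
theorem r3t_plus {m : ℕ} (hm : 4 ≤ m) : ∃ s t N : ℕ, R3T (POmega K (quadFormPlus m K)) s t N ∧
    ((Nat.card K : ℤ) ^ 2 - 1) * s = Nat.card K * (Nat.card K ^ (m - 2) + 1) * ((Nat.card K : ℤ) ^ m - 1) ∧
    ((Nat.card K : ℤ) ^ 2 - 1) * t = Nat.card K ^ 2 * ((Nat.card K : ℤ) ^ (2 * m - 2) - 1) ∧
    ((Nat.card K : ℤ) - 1) * N = ((Nat.card K : ℤ) ^ m - 1) * ((Nat.card K : ℤ) ^ (m - 1) + 1) := by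
  classical
  have hfin := Fintype.ofFinite K
  have hq : 2 ≤ Nat.card K := Finite.one_lt_card
  obtain ⟨n, rfl⟩ : ∃ n, m = n + 2 := ⟨m - 2, by omega⟩
  obtain ⟨e, f, j, h⟩ := CForm.frm_plus (K := K) (show 1 + (n + 1) = n + 2 by omega)
  obtain ⟨e3, f3, j3, h3⟩ := CForm.frm_plus (K := K) (show 3 + (n - 1) = n + 2 by omega)
  have hc : Fintype.card K = Nat.card K := Nat.card_eq_fintype_card.symm
  have hG : LieClassical.OrthTrans.Good (LieClassical.OrthForms.plusForm (n + 2) K) := by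
    apply LieClassical.OrthFinite.good_of_finite (LieClassical.OrthForms.nondeg_plusForm (n + 2) K)
    rw [Module.finrank_fintype_fun_eq_card, Fintype.card_sum, Fintype.card_fin]
    omega
  have hstab := CForm.om_stab (F := CForm.plusF K (n + 2)) (F' := CForm.plusF K (n - 1)) hG
    (fun v => congrFun (LieClassical.OrthForms.coe_plusForm (n + 2) K) v) (plus_hB K (n + 2)) h3 (fun _ => rfl)
    (fun _ => rfl)
  have hV : Nat.card {v // (CForm.plusF K (n + 2)).Sing v} =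
      (Nat.card K * Nat.card K ^ (n + 1) - 1) * (Nat.card K * Nat.card K ^ n + 1) + 1 := by
    rw [card_Sing_quad, ← pow_succ', ← pow_succ', ← num_plus hq (n + 1)]
    exact S0289.result hc (n + 2) (by omega)
  obtain ⟨χ₁, χ₂, s, t, c1, c2, c3, c4, c5, c6⟩ := exists_chars_of' h.hyp (P := Nat.card K ^ (n + 1))
    (P' := Nat.card K ^ n) (two_le_pow hq (by omega)) (Nat.one_le_pow _ _ (by omega))
    (by
      rw [card_Sing_quad, ← num_plus hq n]
      exact S0289.result hc (n + 1) (by omega))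
    hV (commutator _) hstab
  have hfi : Finite (CForm.plusF K (n + 2)).iso := finite_iso _
  have hfp : Finite (CForm.plusF K (n + 2)).Pt := inferInstance
  have htr := trans_pt (F := CForm.plusF K (n + 2)) (commutator _) hstab
  have hz : ((Nat.card K : ℤ) ^ n) ≠ 0 := pow_ne_zero _ (by exact_mod_cast (by omega : Nat.card K ≠ 0))
  have d3 : ((Nat.card K : ℤ) ^ 2 - 1) * s = Nat.card K * (Nat.card K ^ n + 1) * ((Nat.card K : ℤ) ^ (n + 2) - 1) := by
    apply mul_left_cancel₀ hz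
    push_cast at c3
    linear_combination c3
  have d4 : ((Nat.card K : ℤ) ^ 2 - 1) * t = Nat.card K ^ 2 * ((Nat.card K : ℤ) ^ ((n + 1) + (n + 1)) - 1) := by
    apply mul_left_cancel₀ hz
    push_cast at c4
    linear_combination c4
  have hcop : IsCoprime (Nat.card K : ℤ) ((Nat.card K : ℤ) ^ 2 - 1) := ⟨Nat.card K, -1, by ring⟩
  have hs1 : s ≠ 1 := ne_one_of (by exact_mod_cast hq) hcop (d3.trans (mul_assoc _ _ _))
  have ht1 : t ≠ 1 := ne_one_of (by exact_mod_cast hq) hcop (z := Nat.card K * ((Nat.card K : ℤ) ^ ((n + 1) + (n + 1)) - 1))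
    (by rw [d4]; ring)
  have hst : s ≠ t := by
    rintro rfl
    have h1 : (Nat.card K : ℤ) * (Nat.card K ^ n + 1) * ((Nat.card K : ℤ) ^ (n + 2) - 1) =
      Nat.card K ^ 2 * ((Nat.card K : ℤ) ^ ((n + 1) + (n + 1)) - 1) := d3.symm.trans d4
    have hK0 : (Nat.card K : ℤ) ≠ 0 := by exact_mod_cast (by omega : Nat.card K ≠ 0)
    have h2 : (Nat.card K ^ n + 1) * ((Nat.card K : ℤ) ^ (n + 2) - 1) =
      Nat.card K * ((Nat.card K : ℤ) ^ ((n + 1) + (n + 1)) - 1) := by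
      apply mul_left_cancel₀ hK0
      linear_combination h1
    obtain ⟨i, rfl⟩ : ∃ i, n = i + 1 := ⟨n - 1, by omega⟩
    have h3 : (Nat.card K : ℤ) ∣ 1 := by
      refine ⟨(Nat.card K : ℤ) ^ (2 * i + 3) + (Nat.card K : ℤ) ^ (i + 2) - (Nat.card K : ℤ) ^ i -
        (Nat.card K : ℤ) ^ (2 * (i + 2)) + 1, ?_⟩
      linear_combination -h2
    have h4 := Int.le_of_dvd one_pos h3
    omega
  have hB := plus_hB K (n + 2)
  have e0 : (Omega K (CForm.plusF K (n + 2)).Q).map (isoQuad (CForm.plusF K (n + 2)) hB).toMonoidHom =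
      commutator (CForm.plusF K (n + 2)).iso := by
    change (commutator (isometryGroup K _)).map (isoQuad _ hB).toMonoidHom = commutator _
    rw [commutator_def, commutator_def, Subgroup.map_commutator, ← MonoidHom.range_eq_map]
    have : (isoQuad (CForm.plusF K (n + 2)) hB).toMonoidHom.range = ⊤ :=
      MonoidHom.range_eq_top.2 (isoQuad _ hB).surjective
    rw [this]
  let E : Omega K (CForm.plusF K (n + 2)).Q ≃* commutator (CForm.plusF K (n + 2)).iso :=
    ((isoQuad (CForm.plusF K (n + 2)) hB).subgroupMap _).trans (MulEquiv.subgroupCongr e0)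
  have hfO : Finite (Omega K (CForm.plusF K (n + 2)).Q) := Finite.of_equiv _ E.symm.toEquiv
  have hR := r3t_center (X := (CForm.plusF K (n + 2)).Pt) E c1 c2 hs1 ht1 hst c5 (fun z hz => c6 _ fun y => by
    obtain ⟨c, -, hc⟩ := scal_of (cen_plus K (by omega) z hz)
    exact smul_pt (g := isoQuad (CForm.plusF K (n + 2)) hB z) (c := c) (fun v => hc v) y)
  refine ⟨s, t, _, hR, d3, ?_, ?_⟩
  · rw [d4]
    have e2 : 2 * (n + 2) - 2 = (n + 1) + (n + 1) := by omega
    rw [e2]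
  have h5 := card_sing (F := CForm.plusF K (n + 2))
  rw [hV] at h5
  have h6 : (((Nat.card K - 1 : ℕ) : ℤ)) = (Nat.card K : ℤ) - 1 := by
    rw [Nat.cast_sub (by omega)]; simp
  have h8 : (((Nat.card K * Nat.card K ^ (n + 1) - 1 : ℕ) : ℤ)) = (Nat.card K : ℤ) * Nat.card K ^ (n + 1) - 1 := by
    rw [Nat.cast_sub (by
      have := Nat.one_le_pow (n + 1) (Nat.card K) (by omega)
      nlinarith only [hq, this])]
    simp
  have h7 := congrArg (fun x : ℕ => (x : ℤ)) (Nat.add_right_cancel h5)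
  push_cast [h6, h8] at h7
  have e3 : n + 2 - 1 = n + 1 := by omega
  rw [e3]
  linear_combination h7

end plus

variable {K : Type u} [Field K] [Finite K] {l : ℕ}

/-- **`PΩ⁺_8(q)`, `q` odd, `ord_l q = 4`, the pair `{2, l}`** -/
theorem plus_four (hodd : Odd (Nat.card K)) (hl : l.Prime) (hl2 : l ≠ 2) (hlK : ¬ l ∣ Nat.card K)
    (ho : orderOf ((Nat.card K : ℕ) : ZMod l) = 4) (hlG : l ∣ Nat.card (POmega K (quadFormPlus 4 K))) :
    ¬ Same 2 l (POmega K (quadFormPlus 4 K)) := by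
  classical
  obtain ⟨s, t, N, hR, hs, -, hN⟩ := r3t_plus K (m := 4) le_rfl
  have hc : Nat.card (POmega K (quadFormPlus 4 K)) ∣ 2 * Nat.card K ^ (4 * (4 - 1)) * (Nat.card K ^ 4 - 1) *
      ∏ i ∈ Finset.range (4 - 1), (Nat.card K ^ (2 * (i + 1)) - 1) := by
    rw [← card_plusF (K := K) (m := 4) (by norm_num)]
    have h5 := Nat.card_congr (isoQuad (CForm.plusF K 4) (plus_hB K 4)).toEquiv
    rw [← h5]
    exact (Subgroup.card_quotient_dvd_card _).trans (Subgroup.card_subgroup_dvd_card _)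
  have hq2 : 2 ≤ Nat.card K := Finite.one_lt_card
  obtain ⟨q, hq⟩ : ∃ q, q = Nat.card K := ⟨_, rfl⟩
  rw [← hq] at hodd hlK ho hs hN hq2 hc
  have h1 : 1 ≤ q := by omega
  have hz : (q : ℤ) - 1 ≠ 0 := by omega
  have hz2 : (q : ℤ) ^ 2 - 1 ≠ 0 := by
    have : (q : ℤ) ^ 2 - 1 = (q - 1) * (q + 1) := by ring
    rw [this]
    exact mul_ne_zero hz (by omega)
  have hs' : s = q * (q ^ 2 + 1) ^ 2 := by
    zify
    apply mul_left_cancel₀ hz2
    norm_num at hs
    linear_combination hs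
  have hN' : N = (q + 1) * (q ^ 2 + 1) * (q ^ 3 + 1) := by
    zify
    apply mul_left_cancel₀ hz
    norm_num at hN
    linear_combination hN
  obtain ⟨w, hw⟩ := hodd
  have h2 : q ^ 2 + 1 = 2 * (2 * w ^ 2 + 2 * w + 1) := by rw [hw]; ring
  obtain ⟨j, hj1, hj2⟩ := full_part (l := l) hl (A := (q ^ 2 + 1) ^ 2) (B := 2 * q ^ 12 * (q ^ 2 - 1) ^ 3 *
      (q ^ 6 - 1)) (C := 1) (s := s) (by positivity) (by
    intro h
    rcases hl.dvd_mul.1 h with h | h
    · rcases hl.dvd_mul.1 h with h | h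
      · rcases hl.dvd_mul.1 h with h | h
        · exact hl2 ((Nat.prime_dvd_prime_iff_eq hl Nat.prime_two).1 h)
        · exact hlK (hl.dvd_of_dvd_pow h)
      · have h := hl.dvd_of_dvd_pow h
        rw [dvd_pow_sub_one h1, ho] at h
        omega
    · rw [dvd_pow_sub_one h1, ho] at h
      omega) (by rw [hs']; exact ⟨q, by ring⟩) (fun h => hl.one_lt.ne' (Nat.dvd_one.1 h))
  refine hR.fst Nat.prime_two (k := 3) (by norm_num) (j := j) ?_ ?_ hl hlG (hj2 _ ?_) hj1
  · rw [hN', h2]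
    have h3 : q ^ 3 + 1 = 2 * (4 * w ^ 3 + 6 * w ^ 2 + 3 * w + 1) := by rw [hw]; ring
    have h4 : q + 1 = 2 * (w + 1) := by omega
    rw [h3, h4]
    exact ⟨(w + 1) * (2 * w ^ 2 + 2 * w + 1) * (4 * w ^ 3 + 6 * w ^ 2 + 3 * w + 1), by ring⟩
  · rw [hs', h2]
    intro h
    have h3 : Odd (q * (2 * w ^ 2 + 2 * w + 1) ^ 2) := by
      refine Odd.mul ⟨w, hw⟩ (Odd.pow ⟨w ^ 2 + w, by ring⟩)
    have h4 : q * (2 * (2 * w ^ 2 + 2 * w + 1)) ^ 2 = 4 * (q * (2 * w ^ 2 + 2 * w + 1) ^ 2) := by ring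
    rw [h4] at h
    obtain ⟨c, hc'⟩ := h
    obtain ⟨d, hd⟩ := h3
    omega
  · refine hc.trans (dvd_of_eq ?_)
    norm_num only [Finset.prod_range_succ, _root_.Finset.range_one, _root_.Finset.prod_singleton]
    have h3 : q ^ 4 - 1 = (q ^ 2 + 1) * (q ^ 2 - 1) := by
      rw [← sq_sub' (q ^ 2), ← pow_mul]
    rw [h3]
    ring

/-- **`PΩ⁺_{2m}(q)`, `q` odd, `m` even, `ord_l q = 2 (m - 1)`, the pair `{2, l}`** (R5) -/
theorem plus_two_unit {m : ℕ} (hm : 4 ≤ m) (he : Even m) (hodd : Odd (Nat.card K)) (hl : l.Prime) (hl2 : l ≠ 2)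
    (hlK : ¬ l ∣ Nat.card K) (ho : orderOf ((Nat.card K : ℕ) : ZMod l) = 2 * (m - 1))
    (hlG : l ∣ Nat.card (POmega K (quadFormPlus m K))) : ¬ Same 2 l (POmega K (quadFormPlus m K)) := by
  classical
  obtain ⟨s, t, N, hR, -, ht, hN⟩ := r3t_plus K (m := m) hm
  have hc : Nat.card (POmega K (quadFormPlus m K)) ∣ 2 * Nat.card K ^ (m * (m - 1)) * (Nat.card K ^ m - 1) *
      ∏ i ∈ Finset.range (m - 1), (Nat.card K ^ (2 * (i + 1)) - 1) := by
    rw [← card_plusF (K := K) (m := m) (by omega)]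
    have h5 := Nat.card_congr (isoQuad (CForm.plusF K m) (plus_hB K m)).toEquiv
    rw [← h5]
    exact (Subgroup.card_quotient_dvd_card _).trans (Subgroup.card_subgroup_dvd_card _)
  have hq2 : 2 ≤ Nat.card K := Finite.one_lt_card
  obtain ⟨q, hq⟩ : ∃ q, q = Nat.card K := ⟨_, rfl⟩
  rw [← hq] at hodd hlK ho ht hN hq2 hc
  obtain ⟨n, rfl⟩ : ∃ n, m = n + 2 := ⟨m - 2, by omega⟩
  have e1 : n + 2 - 1 = n + 1 := by omega
  have e2 : 2 * (n + 2) - 2 = 2 * (n + 1) := by omega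
  rw [e1] at ho hN hc
  rw [e2] at ht
  have h1 : 1 ≤ q := by omega
  have hz : (q : ℤ) - 1 ≠ 0 := by omega
  have hz2 : (q : ℤ) ^ 2 - 1 ≠ 0 := by
    have : (q : ℤ) ^ 2 - 1 = (q - 1) * (q + 1) := by ring
    rw [this]
    exact mul_ne_zero hz (by omega)
  have ht' : t = q ^ 2 * ∑ i ∈ Finset.range (n + 1), (q ^ 2) ^ i := by
    have hg := mul_geom_sum ((q : ℤ) ^ 2) (n + 1)
    zify
    apply mul_left_cancel₀ hz2
    rw [← pow_mul] at hg
    linear_combination ht - (q : ℤ) ^ 2 * hg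
  have hN' : N = (∑ i ∈ Finset.range (n + 2), q ^ i) * (q ^ (n + 1) + 1) := by
    have hg := mul_geom_sum (q : ℤ) (n + 2)
    zify
    apply mul_left_cancel₀ hz
    linear_combination hN - ((q : ℤ) ^ (n + 1) + 1) * hg
  have htodd : Odd t := by
    rw [ht']
    refine hodd.pow.mul (odd_geom hodd.pow ?_)
    obtain ⟨w, hw⟩ := he
    exact ⟨w - 1, by omega⟩
  have hpos : 0 < q ^ (2 * (n + 1)) - 1 := by
    have : 1 < q ^ (2 * (n + 1)) := Nat.one_lt_pow (by omega) (by omega)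
    omega
  obtain ⟨j, hj1, hj2⟩ := full_part (l := l) hl (A := q ^ (2 * (n + 1)) - 1) (B := 2 * q ^ ((n + 2) * (n + 1)) *
      (q ^ (n + 2) - 1) * ∏ i ∈ Finset.range n, (q ^ (2 * (i + 1)) - 1)) (C := q ^ 2 - 1) (s := t) hpos (by
    intro h
    rcases hl.dvd_mul.1 h with h | h
    · rcases hl.dvd_mul.1 h with h | h
      · rcases hl.dvd_mul.1 h with h | h
        · exact hl2 ((Nat.prime_dvd_prime_iff_eq hl Nat.prime_two).1 h)
        · exact hlK (hl.dvd_of_dvd_pow h)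
      · rw [dvd_pow_sub_one h1, ho] at h
        have := Nat.le_of_dvd (by omega) h
        omega
    · obtain ⟨i, hi, h⟩ := (Prime.dvd_finset_prod_iff hl.prime _).1 h
      rw [dvd_pow_sub_one h1, ho] at h
      have := Nat.le_of_dvd (by omega) h
      rw [Finset.mem_range] at hi
      omega) (by
    refine ⟨q ^ 2, ?_⟩
    have h3 : ((q ^ 2 - 1 : ℕ) : ℤ) = (q : ℤ) ^ 2 - 1 := by
      rw [Nat.cast_sub (Nat.one_le_pow _ _ h1)]; push_cast; ring
    have h4 : ((q ^ (2 * (n + 1)) - 1 : ℕ) : ℤ) = (q : ℤ) ^ (2 * (n + 1)) - 1 := by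
      rw [Nat.cast_sub (Nat.one_le_pow _ _ h1)]; push_cast; ring
    zify
    rw [h3, h4]
    linear_combination ht) (by
    rw [dvd_pow_sub_one h1, ho]
    intro h
    have := Nat.le_of_dvd (by omega) h
    omega)
  refine hR.snd Nat.prime_two one_pos (k := 1) (j := j) ?_ ?_ hl hlG (hj2 _ ?_) hj1
  · rw [pow_one, hN']
    obtain ⟨w, hw⟩ := hodd.pow (n := n + 1)
    rw [hw]
    exact ⟨(∑ i ∈ Finset.range (n + 2), q ^ i) * (w + 1), by ring⟩
  · rw [pow_one, ← even_iff_two_dvd, Nat.not_even_iff_odd]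
    exact htodd
  · refine hc.trans (dvd_of_eq ?_)
    rw [Finset.prod_range_succ]
    ring

end Cfsg.Agent.H897.PQ.Rk3
end

-- part: H766/PQ/RowsL2
section
/-!
# S4612: the pairs `{2, q}`, `q` odd of unitary type, `PSp` and `PΩ^±` (helper766)

`psp_two_unit`, `plus_two_unit`, `minus_two_unit`; `TOne`, `TTwo` : the two families of the `sgn` test.
-/

set_option autoImplicit false
set_option linter.unusedSectionVars false

open Cfsg Cfsg.Agent

namespace Cfsg.Agent.H766.PQ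

open Cfsg.Agent.H358.A3 (PQ)
open Cfsg.Agent.H317.PQ
open Cfsg.Agent.H477.HC Module Cfsg.Agent.H477.HC.CForm
open Cfsg.Agent.H61.PQ

universe u v w

/-- the `sgn` test, symplectic groups -/
def TOne : Prop := ∀ (K : Type u) [Field K] [Finite K] (m q : ℕ), Nat.card K % 8 = 5 → 2 ≤ m → Odd m → q.Prime →
  orderOf ((Nat.card K : ℕ) : ZMod q) = 2 * m → q ∣ Nat.card (PSp m K) → ¬ Same 2 q (PSp m K)

/-- the rank 3 test, orthogonal groups of plus type -/
def RFive : Prop := ∀ (K : Type u) [Field K] [Finite K] (m q : ℕ), Odd (Nat.card K) → 4 ≤ m → Even m → q.Prime →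
  orderOf ((Nat.card K : ℕ) : ZMod q) = 2 * (m - 1) → q ∣ Nat.card (POmega K (quadFormPlus m K)) →
  ¬ Same 2 q (POmega K (quadFormPlus m K))

/-- the `sgn` test, orthogonal groups of plus type -/
def TTwo : Prop := ∀ (K : Type u) [Field K] [Finite K] (m q : ℕ), Nat.card K % 8 = 5 → 4 ≤ m → Odd m → q.Prime →
  orderOf ((Nat.card K : ℕ) : ZMod q) = 2 * (m - 1) → q ∣ Nat.card (POmega K (quadFormPlus m K)) →
  ¬ Same 2 q (POmega K (quadFormPlus m K))

variable {K : Type u} [Field K] [Finite K] {q : ℕ}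

theorem not_same_of_PQ {G : Type v} [Group G] [Finite G] {p l : ℕ} (hp : p.Prime) (h : ¬ PQ l p G) : ¬ Same p l G :=
  fun hS => h (H358.A3.PQ.of_same hp hS.symm)

/-! ### the centre of `Ω` -/

theorem pow_odd_mod (h3 : Nat.card K % 4 = 3) {d : ℕ} (hd : Odd d) : Nat.card K ^ d % 4 = 3 := by
  obtain ⟨i, rfl⟩ := hd
  rw [pow_succ, pow_mul, Nat.mul_mod, Nat.pow_mod, Nat.pow_mod (Nat.card K) 2 4, h3]
  norm_num

theorem pow_even_mod (ho : Odd (Nat.card K)) {d : ℕ} (hd : Even d) : Nat.card K ^ d % 4 = 1 := by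
  obtain ⟨i, rfl⟩ := hd
  rw [← two_mul, pow_mul, Nat.pow_mod, Nat.pow_mod (Nat.card K) 2 4]
  rcases four_cases ho with h | h <;> rw [h] <;> norm_num

theorem gcd_four {a : ℕ} (h : a % 4 = 2) : Nat.gcd 4 a = 2 := by
  obtain ⟨c, rfl⟩ : ∃ c, a = 4 * c + 2 := ⟨a / 4, by omega⟩
  rw [Nat.gcd_comm, Nat.gcd_comm, Nat.gcd_mul_left_add_right]
  rfl

theorem not_neg_one {ι : Type} [Fintype ι] [DecidableEq ι] [Nonempty ι] {Q : (ι → K) → K} (h2 : (2 : K) ≠ 0)
    (hc : Nat.card (Subgroup.center (Omega K Q)) = 1) (z : Omega K Q) : omMat z ≠ -1 := by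
  intro h
  have h1 : z ∈ Subgroup.center (Omega K Q) := by
    rw [Subgroup.mem_center_iff]
    intro g
    apply Subtype.ext
    apply Subtype.ext
    apply Units.ext
    change omMat g * omMat z = omMat z * omMat g
    rw [h, mul_neg, neg_mul, mul_one, one_mul]
  have h3 := (Nat.card_eq_one_iff_unique.1 hc).1
  have h4 : z = 1 := congrArg Subtype.val (Subsingleton.elim (⟨z, h1⟩ : Subgroup.center (Omega K Q)) 1)
  rw [h4] at h
  have h5 : (1 : Matrix ι ι K) = -1 := h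
  obtain ⟨i⟩ := ‹Nonempty ι›
  have h6 := congrFun (congrFun h5 i) i
  rw [Matrix.neg_apply, Matrix.one_apply_eq] at h6
  apply h2
  linear_combination h6

theorem plus_center (ho : Odd (Nat.card K)) {m : ℕ} (hm : 4 ≤ m) (h : (Nat.card K ^ m - 1) % 4 = 2) :
    Nat.card (Subgroup.center (Omega K (quadFormPlus m K))) = 1 := by
  obtain ⟨r, hr, hrK⟩ := exists_char_prime (K := K)
  have : Fact r.Prime := ⟨hr⟩
  have h1 := H722.HC.plus_idx_mul K hm
  rw [H722.HC.plus_idx_four K (p := r) ho (by omega), gcd_four h] at h1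
  omega

theorem minus_center (ho : Odd (Nat.card K)) {m : ℕ} (hm : 3 ≤ m) {a b : K}
    (hab : ∀ z₁ z₂ : K, z₁ ^ 2 + a * z₁ * z₂ + b * z₂ ^ 2 = 0 → z₁ = 0 ∧ z₂ = 0)
    (h : (Nat.card K ^ (m + 1) + 1) % 4 = 2) :
    Nat.card (Subgroup.center (Omega K (quadFormMinus m K a b))) = 1 := by
  obtain ⟨r, hr, hrK⟩ := exists_char_prime (K := K)
  have : Fact r.Prime := ⟨hr⟩
  have h1 := minus_idx_mul K a b hab hm
  rw [minus_idx_four K (p := r) ho a b hab m, gcd_four h] at h1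
  omega

/-! ### the rows -/

section rows

variable {d : ℕ}

/-- the bound of the order of `q` by the rank: symplectic groups -/
theorem psp_bound {m : ℕ} (hq : q.Prime) (hd0 : 0 < d) (hd : orderOf ((Nat.card K : ℕ) : ZMod q) = 2 * d)
    (hdS : q ∣ Nat.card (PSp m K)) : d ≤ m := by
  have hd1 : q ∣ Nat.card (Matrix.symplecticGroup (Fin m) K) := hdS.trans (Subgroup.card_quotient_dvd_card _)
  rw [Nat.card_congr (isoSp m K).toEquiv, card_spF] at hd1
  obtain ⟨i, h0, hi, h2⟩ := exists_idx_of_prod hq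
    ((hq.dvd_mul.1 hd1).resolve_left fun h => not_dvd_of_order hq hd0 hd (hq.dvd_of_dvd_pow h))
  rw [pow_sub_one_iff Nat.card_pos, hd] at h2
  have := Nat.le_of_dvd h0 (Nat.dvd_of_mul_dvd_mul_left (by norm_num) h2)
  omega

theorem plus_bound {m : ℕ} (hm : 1 ≤ m) (hq : q.Prime) (hd0 : 0 < d)
    (hd : orderOf ((Nat.card K : ℕ) : ZMod q) = 2 * d) (hdS : q ∣ Nat.card (POmega K (quadFormPlus m K))) :
    d ≤ m - 1 := by
  have hq2 := ne_two_of_order hd0 hd
  have hd1 : q ∣ Nat.card (isometryGroup K (quadFormPlus m K)) :=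
    hdS.trans ((Subgroup.card_quotient_dvd_card _).trans (Subgroup.card_subgroup_dvd_card _))
  have hd2 : q ∣ Nat.card (CForm.plusF K m).iso := by
    rwa [← Nat.card_congr (isoQuad (CForm.plusF K m) (plus_hB K m)).toEquiv]
  rw [card_plusF K hm] at hd2
  rcases hq.dvd_mul.1 hd2 with h | h
  · rcases hq.dvd_mul.1 h with h' | h'
    · rcases hq.dvd_mul.1 h' with h'' | h''
      · exact absurd ((Nat.prime_dvd_prime_iff_eq hq Nat.prime_two).1 h'') hq2
      · exact absurd (hq.dvd_of_dvd_pow h'') (not_dvd_of_order hq hd0 hd)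
    · rw [pow_sub_one_iff Nat.card_pos, hd] at h'
      obtain ⟨c, hc⟩ := h'
      rcases Nat.lt_or_ge c 1 with h0 | h0
      · have : c = 0 := by omega
        rw [this] at hc
        omega
      · have : d ≤ d * c := Nat.le_mul_of_pos_right d h0
        have h5 : m = 2 * (d * c) := by rw [hc]; ring
        omega
  · obtain ⟨i, h0, hi, h4⟩ := exists_idx_of_prod hq h
    rw [pow_sub_one_iff Nat.card_pos, hd] at h4
    have := Nat.le_of_dvd h0 (Nat.dvd_of_mul_dvd_mul_left (by norm_num) h4)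
    omega

theorem minus_bound {m : ℕ} {a b : K}
    (hab : ∀ z₁ z₂ : K, z₁ ^ 2 + a * z₁ * z₂ + b * z₂ ^ 2 = 0 → z₁ = 0 ∧ z₂ = 0) (hq : q.Prime) (hd0 : 0 < d)
    (hd : orderOf ((Nat.card K : ℕ) : ZMod q) = 2 * d) (hdS : q ∣ Nat.card (POmega K (quadFormMinus m K a b))) :
    d ≤ m + 1 := by
  have hq2 := ne_two_of_order hd0 hd
  have hd1 : q ∣ Nat.card (isometryGroup K (quadFormMinus m K a b)) :=
    hdS.trans ((Subgroup.card_quotient_dvd_card _).trans (Subgroup.card_subgroup_dvd_card _))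
  have hd2 : q ∣ Nat.card (CForm.minusF K m a b hab).iso := by
    rwa [← Nat.card_congr (isoQuad (CForm.minusF K m a b hab) (minus_hB K m a b hab)).toEquiv]
  rw [card_minusF K] at hd2
  rcases hq.dvd_mul.1 hd2 with h | h
  · rcases hq.dvd_mul.1 h with h' | h'
    · rcases hq.dvd_mul.1 h' with h'' | h''
      · exact absurd ((Nat.prime_dvd_prime_iff_eq hq Nat.prime_two).1 h'') hq2
      · exact absurd (hq.dvd_of_dvd_pow h'') (not_dvd_of_order hq hd0 hd)
    · have h6 : q ∣ Nat.card K ^ (2 * (m + 1)) - 1 := by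
        have h7 : Nat.card K ^ (2 * (m + 1)) - 1 = (Nat.card K ^ (m + 1) + 1) * (Nat.card K ^ (m + 1) - 1) := by
          rw [mul_comm, pow_mul, H897.PQ.Rk3.sq_sub']
        rw [h7]
        exact h'.mul_right _
      rw [pow_sub_one_iff Nat.card_pos, hd] at h6
      exact Nat.le_of_dvd (Nat.succ_pos m) (Nat.dvd_of_mul_dvd_mul_left (by norm_num) h6)
  · obtain ⟨i, h0, hi, h4⟩ := exists_idx_of_prod hq h
    rw [pow_sub_one_iff Nat.card_pos, hd] at h4
    have := Nat.le_of_dvd h0 (Nat.dvd_of_mul_dvd_mul_left (by norm_num) h4)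
    omega

/-- **`PSp_{2m}`** -/
theorem psp_two_unit (T1 : TOne.{u}) (ho : Odd (Nat.card K)) {m : ℕ} (hm : 2 ≤ m) (hq : q.Prime) (hd0 : 0 < d)
    (hd : orderOf ((Nat.card K : ℕ) : ZMod q) = 2 * d) (hdS : q ∣ Nat.card (PSp m K)) : ¬ Same 2 q (PSp m K) := by
  have hq2 := ne_two_of_order hd0 hd
  have hqK := not_dvd_of_order hq hd0 hd
  have hb := psp_bound hq hd0 hd hdS
  rcases Nat.lt_or_ge d m with h | h
  · exact not_same_of_PQ Nat.prime_two (psp_two_lt ho hd0 h hq hd)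
  · have h1 : d = m := le_antisymm hb h
    subst h1
    rcases Nat.even_or_odd d with he | hodd
    · exact H897.PQ.Rk3.psp_two_unit hm he ho hq hq2 hqK hd hdS
    · rcases four_cases ho with h4 | h4
      · rcases (by omega : Nat.card K % 8 = 1 ∨ Nat.card K % 8 = 5) with h8 | h8
        · exact H61.PQ.psp_two h8 (by omega) hq hq2 hqK
        · exact T1 K d q h8 hm hodd hq hd hdS
      · exact not_same_of_PQ Nat.prime_two (psp_two_odd h4 hodd hq hd hdS)

/-- **`PΩ⁺_{2m}`** -/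
theorem plus_two_unit (T2 : TTwo.{u}) (R5 : RFive.{u}) (ho : Odd (Nat.card K)) {m : ℕ} (hm : 4 ≤ m) (hq : q.Prime)
    (hd0 : 0 < d) (hd : orderOf ((Nat.card K : ℕ) : ZMod q) = 2 * d)
    (hdS : q ∣ Nat.card (POmega K (quadFormPlus m K))) : ¬ Same 2 q (POmega K (quadFormPlus m K)) := by
  obtain ⟨r, hr, hrK⟩ := exists_char_prime (K := K)
  have : Fact r.Prime := ⟨hr⟩
  have h2 := two_ne_zero_of_odd (K := K) (p := r) ho
  have hq2 := ne_two_of_order hd0 hd
  have hqK := not_dvd_of_order hq hd0 hd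
  have hb := plus_bound (by omega) hq hd0 hd hdS
  obtain ⟨d₀, rfl⟩ : ∃ d₀, d = d₀ + 1 := ⟨d - 1, by omega⟩
  rcases Nat.eq_or_lt_of_le hb with h | h
  · -- `d = m - 1`
    rcases Nat.even_or_odd m with he | hodd
    · exact R5 K m q ho hm he hq (by rw [← h]; exact hd) hdS
    · rcases four_cases ho with h4 | h4
      · rcases (by omega : Nat.card K % 8 = 1 ∨ Nat.card K % 8 = 5) with h8 | h8
        · exact H61.PQ.plus_two ho hm hq hq2 hqK (Or.inl h8)
        · exact T2 K m q h8 hm hodd hq (by rw [← h]; exact hd) hdS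
      · refine H61.PQ.plus_two ho hm hq hq2 hqK (Or.inr ?_)
        have : Nonempty (Fin m ⊕ Fin m) := ⟨.inl ⟨0, by omega⟩⟩
        refine not_neg_one h2 (plus_center ho hm ?_)
        have := pow_odd_mod h4 hodd
        omega
  · rcases Nat.eq_or_lt_of_le (show d₀ + 3 ≤ m by omega) with h3 | h3
    · -- `l = 1`
      rcases four_cases ho with h4 | h4
      · exact not_same_of_PQ Nat.prime_two (plus_two_desc ho (l := 1) h3.symm hm hq hd le_rfl (by omega))
      · rcases Nat.eq_or_lt_of_le hm with h5 | h5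
        · subst h5
          have h6 : d₀ = 1 := by omega
          subst h6
          exact H897.PQ.Rk3.plus_four ho hq hq2 hqK hd hdS
        · exact not_same_of_PQ Nat.prime_two (plus_two_four ho h3.symm h5 hq hd)
    · obtain ⟨l, hl⟩ : ∃ l, m = d₀ + (l + 2) := ⟨m - d₀ - 2, by omega⟩
      exact not_same_of_PQ Nat.prime_two (plus_two_desc ho hl hm hq hd (by omega) (by omega))

/-- **`PΩ⁻_{2m+2}`** -/
theorem minus_two_unit (ho : Odd (Nat.card K)) {m : ℕ} (hm : 3 ≤ m) {a b : K}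
    (hab : ∀ z₁ z₂ : K, z₁ ^ 2 + a * z₁ * z₂ + b * z₂ ^ 2 = 0 → z₁ = 0 ∧ z₂ = 0) (hq : q.Prime)
    (hd0 : 0 < d) (hd : orderOf ((Nat.card K : ℕ) : ZMod q) = 2 * d)
    (hdS : q ∣ Nat.card (POmega K (quadFormMinus m K a b))) : ¬ Same 2 q (POmega K (quadFormMinus m K a b)) := by
  obtain ⟨r, hr, hrK⟩ := exists_char_prime (K := K)
  have : Fact r.Prime := ⟨hr⟩
  have h2 := two_ne_zero_of_odd (K := K) (p := r) ho
  have hq2 := ne_two_of_order hd0 hd
  have hqK := not_dvd_of_order hq hd0 hd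
  have hb := minus_bound hab hq hd0 hd hdS
  have key : Odd m → ¬ Same 2 q (POmega K (quadFormMinus m K a b)) := by
    intro hodd
    refine H61.PQ.minus_two ho hm hab hq hq2 hqK (Or.inr ?_)
    have : Nonempty ((Fin m ⊕ Fin m) ⊕ Fin 2) := ⟨.inr 0⟩
    refine not_neg_one h2 (minus_center ho hm hab ?_)
    have := pow_even_mod ho hodd.add_one
    omega
  obtain ⟨d₀, rfl⟩ : ∃ d₀, d = d₀ + 1 := ⟨d - 1, by omega⟩
  rcases Nat.eq_or_lt_of_le hb with h | h
  · rcases Nat.even_or_odd m with he | hodd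
    · obtain ⟨i, hi⟩ := he
      exact H897.PQ.Rk3.minus_two_unit (by omega) ⟨i, hi⟩ hab ho hq hq2 hqK (by rw [← h]; exact hd) hdS
    · exact key hodd
  · rcases Nat.eq_or_lt_of_le (show d₀ + 1 ≤ m by omega) with h3 | h3
    · rcases four_cases ho with h4 | h4
      · exact not_same_of_PQ Nat.prime_two (minus_two_desc ho (k := 1) (by omega) hm hq hd hab le_rfl (by omega))
      · rcases Nat.even_or_odd m with he | hodd
        · obtain ⟨i, hi⟩ := he
          refine H897.PQ.Rk3.minus_succ (by omega) ⟨i, hi⟩ hab Nat.prime_two ?_ hq hq2 hqK (by rw [← h3]; exact hd) hdS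
          omega
        · exact key hodd
    · obtain ⟨k, hk⟩ : ∃ k, m = k + d₀ := ⟨m - d₀, by omega⟩
      exact not_same_of_PQ Nat.prime_two (minus_two_desc ho hk hm hq hd hab (by omega) (by omega))

end rows

end Cfsg.Agent.H766.PQ
end

-- part: H61/PQ/Le
section
/-!
# S4612: the one-sided forms (helper61)

`B0 q S ⊆ B0 p S` is what the arguments use; it follows from `PQ p q S`.

* `twist_le`, `not_le_of_two`, `not_PQ_of_two`.
-/

set_option autoImplicit false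
set_option linter.unusedSectionVars false

open Cfsg
open scoped ComplexConjugate

namespace Cfsg.Agent.H61.PQ

open Cfsg.Agent.H53.HC Module Cfsg.Agent.H317.PQ Cfsg.Agent.Characters Cfsg.Agent.Characters.Core
open Cfsg.Agent.H477.HC Cfsg.Agent.Blocks.Basic Cfsg.Agent.Blocks.Local

universe u v w

theorem le_of_PQ {p q : ℕ} (hq : q.Prime) {G : Type u} [Group G] [Finite G] (h : H358.A3.PQ p q G) :
    B0 q G ⊆ B0 p G := by
  intro χ hχ
  obtain ⟨M, hM⟩ := Blocks.ExistsModular.exists_isPModular hq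
  have hMp := isPrime_of_isPModular hM
  refine h M hM (H358.A3.oneC G) χ (hχ M hM) fun M' hM' => ?_
  have hMp' := isPrime_of_isPModular hM'
  exact H358.A3.oneC_mem

theorem Same.le {p q : ℕ} {G : Type u} [Group G] (h : Same p q G) : B0 q G ⊆ B0 p G := by
  have h5 : B0 p G = B0 q G := h
  rw [h5]

/-- **up and down**, one-sided form -/
theorem twist_le {G : Type u} [Group G] {K : Type w} [Group K] {p q : ℕ} [Finite G] (hp : p.Prime) (hq : q.Prime)
    (h : B0 q K ⊆ B0 p K) (N : Subgroup G) [N.Normal]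
    (hN : commutator G ≤ N) (f : N →* K) (hf : Function.Surjective f) (hZ : f.ker ≤ Subgroup.center N)
    {χ : IrrCharacter G} (hχ : χ ∈ B0 q G) (htriv : ∀ z ∈ f.ker, ∀ n : N, (χ : G → ℂ) (z * n) = (χ : G → ℂ) n) :
    ∃ l : G →* ℂˣ, (∀ n ∈ N, l n = 1) ∧ ∃ ξ ∈ B0 p G, ∀ g, (ξ : G → ℂ) g = (l g : ℂ) * (χ : G → ℂ) g := by
  have := Fintype.ofFinite N
  obtain ⟨ψ, hψ⟩ := exists_under N χ
  have h1 : ψ ∈ B0 q N := (H451.PQ.mem_B0_normal hq N ψ).2 ⟨χ, hχ, hψ⟩
  obtain ⟨ψ', hψ', h2⟩ := H658.Reg.exists_defl f hf ψ.2 (fun z hz => by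
    have := trivial_of_over N hψ (hZ (MonoidHom.mem_ker.2 hz)) (htriv z (MonoidHom.mem_ker.2 hz)) 1
    rwa [mul_one] at this)
  have h3 : (ψ : N → ℂ) = ((⟨ψ', hψ'⟩ : IrrCharacter K) : K → ℂ) ∘ f := funext h2
  have h4 : ψ ∈ B0 p N := by
    rw [mem_B0_infl_iff hp f hf hZ h3]
    apply h
    rw [← mem_B0_infl_iff hq f hf hZ h3]
    exact h1
  exact exists_linear hp N hN h4 hψ

variable {K : Type u} [Field K] [Finite K] {V : Type v} [AddCommGroup V] [Module K V] [Finite V]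
  [FiniteDimensional K V] (F : CForm K V) {k : ℕ}

/-- **The pair `{2, l'}`**, one-sided form -/
theorem not_le_of_two {S : Type w} [Group S] (N : Subgroup F.iso) [N.Normal] (hN : commutator F.iso ≤ N)
    (f : N →* S) (hf : Function.Surjective f) (hZ : f.ker ≤ Subgroup.center N) {l' : ℕ}
    (hl' : l'.Prime) (hne : l' ≠ 2) (hq : ¬ l' ∣ Nat.card K) {Z : Kˣ → Prop} {c : GL (Fin k) K → ℂ}
    (hc : CD2 K k F.σ Z c)
    (hsc : ∀ z ∈ f.ker, ∃ a : Kˣ, Z a ∧ ∀ v, ((z : F.iso) : V ≃ₗ[K] V) v = (a : K) • v)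
    {W₀ : Submodule K V} (hW₀ : W₀ ∈ F.Om k) : ¬ B0 2 S ⊆ B0 l' S := by
  classical
  intro hS
  have : Finite (F.Om k) := by
    have : Finite (Submodule K V) := Finite.of_injective (fun W : Submodule K V => (W : Set V)) SetLike.coe_injective
    infer_instance
  have := Fintype.ofFinite (F.Om k)
  have := Fintype.ofFinite F.iso
  have hcl := Core.isIrr_isClassFunction hc.cus.irr
  have hirr := F.isIrr_hc_one hc.cus.irr hc.cus.cusp hc.cus.dual hW₀
  let χ : IrrCharacter F.iso := ⟨_, hirr⟩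
  have hχ : χ ∈ B0 2 F.iso := hc_mem F Nat.prime_two (hc.mem hc.cus.irr) hW₀ χ rfl
  obtain ⟨lam, hlam, ξ, hξ, hξ2⟩ := twist_le hl' Nat.prime_two hS N hN f hf hZ hχ (fun z hz n => by
    obtain ⟨a, ha, hza⟩ := hsc z hz
    have h1 : (χ : F.iso → ℂ) z = (χ : F.iso → ℂ) 1 :=
      F.hc_scalar hcl (fun _ _ => 1) hza (hc.cus.scal a ha) (fun _ _ => rfl)
    have h2 : (z : F.iso) * (n : F.iso) = (n : F.iso) * z := by
      have h3 := Subgroup.mem_center_iff.1 (hZ hz) n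
      exact (congrArg Subtype.val h3).symm
    rw [h2]
    exact Cfsg.Agent.H477.HC.kernel_mul (Core.isIrr_isCharacter hirr) h1 n)
  obtain ⟨f', hf', η, hη, hη2⟩ := exists_of_twist' F hl' hq lam hc.cus.irr hW₀ ξ hξ2 hξ
  exact hc.not_mem hl' hne hq f' hf' η hη2 hη

/-- the descended form: `N ≥ commutator F.iso` a normal subgroup of the isometry group with an isotropic line -/
theorem not_PQ_of_two (N : Subgroup F.iso) [N.Normal] (hN : commutator F.iso ≤ N) {l' : ℕ}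
    (hl' : l'.Prime) (hne : l' ≠ 2) (hq : ¬ l' ∣ Nat.card K) {Z : Kˣ → Prop} (hZ1 : Z 1) {c : GL (Fin k) K → ℂ}
    (hc : CD2 K k F.σ Z c) {W₀ : Submodule K V} (hW₀ : W₀ ∈ F.Om k) : ¬ H358.A3.PQ l' 2 N := by
  intro h
  refine not_le_of_two F N hN (MonoidHom.id N) Function.surjective_id ?_ hl' hne hq hc ?_ hW₀
    (le_of_PQ Nat.prime_two h)
  · intro z hz
    have : z = 1 := hz
    rw [this]
    exact one_mem _
  · intro z hz
    have : z = 1 := hz
    exact ⟨1, hZ1, fun v => by rw [this, Units.val_one, one_smul]; rfl⟩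

section unitary

variable {K : Type u} [Field K] [Fintype K] {l' q : ℕ}

/-- **`SU_n(q)`** -/
theorem su_not_PQ {n : ℕ} (hF : Fintype.card K = q ^ 2) (hn : 2 ≤ n) (hqo : Odd q)
    (hl' : l'.Prime) (hne : l' ≠ 2) (hl'q : ¬ l' ∣ q) : ¬ H358.A3.PQ l' 2 (SU n K q) := by
  classical
  have hq : Nat.card K = q ^ 2 := by rw [Nat.card_eq_fintype_card, hF]
  obtain ⟨r, hr, hrK⟩ := exists_char_prime (K := K)
  have : Fact r.Prime := ⟨hr⟩
  have hq2 := CForm.two_le_of_card hq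
  have hl'K : ¬ l' ∣ Nat.card K := fun h => hl'q (hl'.dvd_of_dvd_pow (hq ▸ h))
  obtain ⟨e, w, hw, hew⟩ := Nat.exists_eq_two_pow_mul_odd (n := q + 1) (by omega)
  obtain ⟨c, hc⟩ := exists_cd2_one (K := K) (s' := q) (a := (q - 1) / 2 * w) (j := e + 1) (CForm.powHom hq)
    (fun x => rfl) (by
      have h1 : q ^ 2 - 1 ^ 2 = (q + 1) * (q - 1) := Nat.sq_sub_sq q 1
      rw [one_pow] at h1
      have h2 : (q - 1) / 2 * 2 = q - 1 := Nat.div_mul_cancel (by
        obtain ⟨t, ht⟩ := hqo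
        exact ⟨t, by omega⟩)
      rw [hq, h1, hew]
      calc (q - 1) / 2 * w * 2 ^ (e + 1) = 2 ^ e * w * ((q - 1) / 2 * 2) := by rw [pow_succ]; ring
        _ = 2 ^ e * w * (q - 1) := by rw [h2]) (by
      intro h1
      rw [hew, pow_succ] at h1
      have h2 := Nat.dvd_of_mul_dvd_mul_left (by positivity) h1
      rw [← even_iff_two_dvd, ← Nat.not_odd_iff_even] at h2
      exact h2 hw)
  obtain ⟨m, rfl⟩ : ∃ m, n = 1 + (1 + m) := ⟨n - 2, by omega⟩
  obtain ⟨⟨W₀, hW₀⟩, -⟩ := CForm.hermF_frame (K := K) (p := r) hq 1 m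
  let F := CForm.hermF K hq (1 + (1 + m))
  let E := suE (K := K) hq (1 + (1 + m))
  have hsgn : (H328.Gow.sg F).Normal := MonoidHom.normal_ker _
  have hfin : Finite F.iso := finite_iso' F
  intro h
  exact not_PQ_of_two F (H328.Gow.sg F) (Abelianization.commutator_subset_ker _) hl' hne hl'K
    (Z := fun z => z ^ ((q - 1) / 2 * w) = 1) (one_pow _) hc hW₀ (H358.A3.PQ.of_equiv E h)

end unitary

end Cfsg.Agent.H61.PQ
end

-- part: H61/PQ/SuDesc
section
/-!
# Descent from `PSU_{k+j}` to `SU_j` (helper61, S4612)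

* `su_descend` : `x = (x₀, 1)`, `x₀ ∈ SU_k` a `p`-element without fixed vectors: `PQ p q` goes from `PSU_{k+j}` to `SU_j`;
* `su_scalar` : the same with a `2`-element scalar on both summands.
-/

set_option autoImplicit false
set_option linter.unusedSectionVars false

open Cfsg Matrix

namespace Cfsg.Agent.H61.PQ

open Cfsg.Agent.H322.Cent Cfsg.Agent.H358.A3 Cfsg.Agent.LieClassical.SUBasic

universe u

section blocks

variable {F : Type*} [Field F] {k l : ℕ}

theorem exists_bd_of_comm {A : Matrix (Fin (k + l)) (Fin (k + l)) F} {X : Matrix (Fin k) (Fin k) F}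
    (hX : ∀ v : Fin k → F, X *ᵥ v = v → v = 0) (h : A * bdm X 1 = bdm X 1 * A) : ∃ a d, A = bdm a d := by
  classical
  have hdet : (X - 1).det ≠ 0 := by
    intro h0
    obtain ⟨v, hv, hv2⟩ := Matrix.exists_mulVec_eq_zero_iff.2 h0
    apply hv
    apply hX
    rw [Matrix.sub_mulVec, Matrix.one_mulVec, sub_eq_zero] at hv2
    exact hv2
  set A' : Matrix (Fin k ⊕ Fin l) (Fin k ⊕ Fin l) F := A.submatrix finSumFinEquiv finSumFinEquiv with hA'
  have hAA : A = A'.submatrix finSumFinEquiv.symm finSumFinEquiv.symm := by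
    rw [hA', submatrix_submatrix]
    simp
  have h1 : A' * fromBlocks X 0 0 1 = fromBlocks X 0 0 1 * A' := by
    rw [hAA] at h
    unfold bdm at h
    rw [submatrix_mul_equiv, submatrix_mul_equiv] at h
    have h2 := congrArg (fun M : Matrix (Fin (k + l)) (Fin (k + l)) F => M.submatrix finSumFinEquiv finSumFinEquiv) h
    simpa only [submatrix_submatrix, _root_.Equiv.symm_comp_self, _root_.Matrix.submatrix_id_id] using h2
  rw [← fromBlocks_toBlocks A', fromBlocks_multiply, fromBlocks_multiply] at h1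
  simp only [Matrix.mul_zero, Matrix.zero_mul, add_zero, zero_add, Matrix.mul_one, Matrix.one_mul] at h1
  obtain ⟨-, h12, h21, -⟩ := fromBlocks_inj.1 h1
  have hb : A'.toBlocks₁₂ = 0 := by
    ext i j
    have h3 := hX (fun i => A'.toBlocks₁₂ i j) (by
      funext i
      have := congrFun (congrFun h12 i) j
      rw [this, Matrix.mul_apply]
      rfl)
    exact congrFun h3 i
  have hc : A'.toBlocks₂₁ = 0 := by
    have h3 : A'.toBlocks₂₁ * (X - 1) = 0 := by
      rw [Matrix.mul_sub, Matrix.mul_one, h21, sub_self]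
    have h4 := congrArg (fun M => M * (X - 1)⁻¹) h3
    rw [Matrix.mul_assoc, Matrix.mul_nonsing_inv _ (isUnit_iff_ne_zero.2 hdet), Matrix.mul_one, Matrix.zero_mul] at h4
    exact h4
  refine ⟨A'.toBlocks₁₁, A'.toBlocks₂₂, ?_⟩
  rw [hAA]
  unfold bdm
  congr 1
  conv_lhs => rw [← fromBlocks_toBlocks A', hb, hc]

theorem bdm_injective {A A' : Matrix (Fin k) (Fin k) F} {B B' : Matrix (Fin l) (Fin l) F} (h : bdm A B = bdm A' B') :
    A = A' ∧ B = B' := by
  constructor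
  · ext i j
    rw [← bdm_castAdd A B, h, bdm_castAdd]
  · ext i j
    rw [← bdm_natAdd A B, h, bdm_natAdd]

variable {q : ℕ}

/-- the elements `(1, D)` of `SU` -/
theorem exists_bdU {g : SU (k + l) F q} {D : Matrix (Fin l) (Fin l) F} (hg : g.1.1 = bdm 1 D) :
    ∃ B : SU l F q, g = bdU ((1 : SU k F q), B) := by
  classical
  have hdet : D.det = 1 := by
    have h1 := g.1.2
    rw [hg, bdm_det, Matrix.det_one, one_mul] at h1
    exact h1
  let D' : _root_.Matrix.SpecialLinearGroup (Fin l) F := ⟨D, hdet⟩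
  have hmem : D' ∈ SU l F q := by
    refine (mem_SU_iff D').2 fun u v => ?_
    have h1 := (mem_SU_iff g.1).1 g.2 (Fin.append (0 : Fin k → F) u) (Fin.append (0 : Fin k → F) v)
    have h2 : ∀ w : Fin l → F, g.1.1 *ᵥ Fin.append (0 : Fin k → F) w = Fin.append (0 : Fin k → F) (D *ᵥ w) := by
      intro w
      rw [hg]
      funext i
      refine Fin.addCases (fun i => ?_) (fun i => ?_) i
      · rw [Fin.append_left]
        unfold bdm Matrix.mulVec dotProduct
        rw [Fin.sum_univ_add]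
        simp only [_root_.Matrix.submatrix_apply, _root_.finSumFinEquiv_symm_apply_castAdd, _root_.Matrix.fromBlocks_apply₁₁, _root_.Fin.append_left, _root_.Pi.zero_apply, _root_.MulZeroClass.mul_zero, _root_.Finset.sum_const_zero, _root_.finSumFinEquiv_symm_apply_natAdd, _root_.Matrix.fromBlocks_apply₁₂, _root_.Matrix.zero_apply, _root_.Fin.append_right, _root_.MulZeroClass.zero_mul, _root_.add_zero]
      · rw [Fin.append_right]
        unfold bdm Matrix.mulVec dotProduct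
        rw [Fin.sum_univ_add]
        simp only [_root_.Matrix.submatrix_apply, _root_.finSumFinEquiv_symm_apply_natAdd, _root_.finSumFinEquiv_symm_apply_castAdd, _root_.Matrix.fromBlocks_apply₂₁, _root_.Matrix.zero_apply, _root_.Fin.append_left, _root_.Pi.zero_apply, _root_.MulZeroClass.mul_zero, _root_.Finset.sum_const_zero, _root_.Matrix.fromBlocks_apply₂₂, _root_.Fin.append_right, _root_.zero_add]
    have h3 : ∀ x y : Fin l → F, hermForm (k + l) F q (Fin.append 0 x) (Fin.append 0 y) = hermForm l F q x y := by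
      intro x y
      simp only [hermForm_apply]
      rw [Fin.sum_univ_add]
      simp only [_root_.Fin.append_left, _root_.Pi.zero_apply, _root_.MulZeroClass.zero_mul, _root_.Finset.sum_const_zero, _root_.Fin.append_right, _root_.zero_add]
    rw [h2, h2, h3, h3] at h1
    exact h1
  refine ⟨⟨D', hmem⟩, ?_⟩
  apply Subtype.ext
  apply Subtype.ext
  exact hg

end blocks

/-- lifting of centralizers: the centre has order prime to `p` -/
theorem lift_of_card {G : Type*} [Group G] [Finite G] {p : ℕ} (hp : p.Prime)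
    (hZ : ¬ p ∣ Nat.card (Subgroup.center G)) {x : G} (hx : ∃ t : ℕ, orderOf x = p ^ t) (g : G)
    (h : g * x * g⁻¹ * x⁻¹ ∈ Subgroup.center G) : g * x = x * g := by
  set z := g * x * g⁻¹ * x⁻¹ with hz
  obtain ⟨t, ht⟩ := hx
  have h1 : g * x * g⁻¹ = z * x := by rw [hz]; group
  have hcomm : Commute z x := (Subgroup.mem_center_iff.1 h x).symm
  have h2 : z ^ p ^ t = 1 := by
    have h3 : (g * x * g⁻¹) ^ p ^ t = 1 := by
      rw [conj_pow, ← ht, pow_orderOf_eq_one, mul_one, mul_inv_cancel]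
    rw [h1, hcomm.mul_pow, ← ht, pow_orderOf_eq_one x, mul_one] at h3
    rw [← ht]
    exact h3
  have h3 : orderOf z ∣ p ^ t := orderOf_dvd_of_pow_eq_one h2
  have h4 : orderOf z ∣ Nat.card (Subgroup.center G) := Subgroup.orderOf_dvd_natCard _ h
  have h5 : Nat.Coprime (p ^ t) (Nat.card (Subgroup.center G)) :=
    Nat.Coprime.pow_left t ((Nat.Prime.coprime_iff_not_dvd hp).2 hZ)
  have h6 : z = 1 := orderOf_eq_one_iff.1 (Nat.dvd_one.1 (h5 ▸ Nat.dvd_gcd h3 h4))
  rw [h6, one_mul, mul_inv_eq_iff_eq_mul] at h1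
  exact h1

section su

variable {K : Type u} [Field K] [Fintype K] {q k j : ℕ}

/-- lifting of centralizers: the fixed space of `x` is large -/
theorem lift_of_dim (hF : Fintype.card K = q ^ 2) (h3 : 3 ≤ k + j) (hkj : k < j) (x₀ : SU k K q)
    (g : SU (k + j) K q) (h : g * bdU (x₀, (1 : SU j K q)) * g⁻¹ * (bdU (x₀, (1 : SU j K q)))⁻¹ ∈ Subgroup.center _) :
    g * bdU (x₀, (1 : SU j K q)) = bdU (x₀, (1 : SU j K q)) * g := by
  classical
  set x : SU (k + j) K q := bdU (x₀, (1 : SU j K q)) with hx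
  set z := g * x * g⁻¹ * x⁻¹ with hz
  have h1 : g * x = z * x * g := by rw [hz]; group
  obtain ⟨c, hcn, hcq, hc⟩ := (mem_center_SU_iff hF h3 z).1 h
  have hzm : z.1.1 = diagonal (fun _ => c) := by rw [hc]; rfl
  -- the vectors
  let E : (Fin j → K) →ₗ[K] (Fin (k + j) → K) :=
    { toFun := fun v => Fin.append (0 : Fin k → K) v
      map_add' := fun u v => by
        funext i
        refine Fin.addCases (fun i => ?_) (fun i => ?_) i
        · rw [Pi.add_apply, Fin.append_left, Fin.append_left, Fin.append_left]; simp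
        · rw [Pi.add_apply, Fin.append_right, Fin.append_right, Fin.append_right]; rfl
      map_smul' := fun a v => by
        funext i
        refine Fin.addCases (fun i => ?_) (fun i => ?_) i
        · rw [Pi.smul_apply, Fin.append_left, Fin.append_left]; simp
        · rw [Pi.smul_apply, Fin.append_right, Fin.append_right]; rfl }
  have hE : ∀ v, E v = Fin.append (0 : Fin k → K) v := fun _ => rfl
  let L : (Fin j → K) →ₗ[K] (Fin k → K) :=
    (LinearMap.funLeft K K (Fin.castAdd j)) ∘ₗ (Matrix.mulVecLin g.1.1) ∘ₗ E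
  have hker : LinearMap.ker L ≠ ⊥ := LinearMap.ker_ne_bot_of_finrank_lt (by
    rw [Module.finrank_fin_fun, Module.finrank_fin_fun]; exact hkj)
  obtain ⟨v, hv, hv0⟩ := Submodule.exists_mem_ne_zero_of_ne_bot hker
  set w : Fin (k + j) → K := g.1.1 *ᵥ E v with hw
  have hwl : ∀ i, w (Fin.castAdd j i) = 0 := fun i => congrFun (LinearMap.mem_ker.1 hv) i
  have hfix : ∀ u : Fin (k + j) → K, (∀ i, u (Fin.castAdd j i) = 0) → x.1.1 *ᵥ u = u := by
    intro u hu
    have hxm : x.1.1 = bdm x₀.1.1 1 := rfl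
    rw [hxm]
    funext i
    refine Fin.addCases (fun i => ?_) (fun i => ?_) i
    · rw [hu]
      unfold bdm Matrix.mulVec dotProduct
      rw [Fin.sum_univ_add]
      simp only [hu, _root_.Matrix.submatrix_apply, _root_.finSumFinEquiv_symm_apply_castAdd, _root_.Matrix.fromBlocks_apply₁₁, _root_.MulZeroClass.mul_zero, _root_.Finset.sum_const_zero, _root_.finSumFinEquiv_symm_apply_natAdd, _root_.Matrix.fromBlocks_apply₁₂, _root_.Matrix.zero_apply, _root_.MulZeroClass.zero_mul, _root_.add_zero]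
    · unfold bdm Matrix.mulVec dotProduct
      rw [Fin.sum_univ_add]
      simp only [Matrix.one_apply, _root_.Matrix.submatrix_apply, _root_.finSumFinEquiv_symm_apply_natAdd, _root_.finSumFinEquiv_symm_apply_castAdd, _root_.Matrix.fromBlocks_apply₂₁, _root_.Matrix.zero_apply, _root_.MulZeroClass.zero_mul, _root_.Finset.sum_const_zero, _root_.Matrix.fromBlocks_apply₂₂, _root_.ite_mul, _root_.one_mul, _root_.Finset.sum_ite_eq, _root_.Finset.mem_univ, ↓ _root_.reduceIte, _root_.zero_add]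
  have hEv : x.1.1 *ᵥ E v = E v := hfix _ fun i => by rw [hE, Fin.append_left]; rfl
  have h4 : (g * x).1.1 *ᵥ E v = w := by
    show (g.1.1 * x.1.1) *ᵥ E v = w
    rw [← Matrix.mulVec_mulVec, hEv]
  have h5 : (z * x * g).1.1 *ᵥ E v = c • w := by
    show (z.1.1 * x.1.1 * g.1.1) *ᵥ E v = c • w
    rw [← Matrix.mulVec_mulVec, ← Matrix.mulVec_mulVec, ← hw, hfix w hwl, hzm]
    funext i
    rw [Matrix.mulVec_diagonal, Pi.smul_apply, smul_eq_mul]
  rw [h1, h5] at h4
  have hw0 : w ≠ 0 := by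
    intro h0
    have h6 : E v = 0 := by
      have h7 : g.1.1 *ᵥ E v = g.1.1 *ᵥ 0 := by rw [← hw, h0, Matrix.mulVec_zero]
      exact Matrix.mulVec_injective_of_isUnit ((Matrix.isUnit_iff_isUnit_det _).2 (by rw [g.1.2]; exact isUnit_one)) h7
    apply hv0
    funext i
    have h7 := congrFun h6 (Fin.natAdd k i)
    rw [hE, Fin.append_right] at h7
    exact h7
  have hc1 : c = 1 := by
    have h6 : (c - 1) • w = 0 := by rw [sub_smul, one_smul, h4, sub_self]
    exact sub_eq_zero.1 ((smul_eq_zero.1 h6).resolve_right hw0)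
  have hz1 : z = 1 := by
    apply Subtype.ext
    apply Subtype.ext
    rw [hzm, hc1]
    exact Matrix.diagonal_one
  rw [h1, hz1, one_mul]

/-- the commutation in `PSU` lifts -/
theorem comm_of_lift {x g : SU (k + j) K q}
    (hlift : g * x * g⁻¹ * x⁻¹ ∈ Subgroup.center _ → g * x = x * g)
    (h : (QuotientGroup.mk' (Subgroup.center (SU (k + j) K q)) g) * (QuotientGroup.mk' _ x) =
      (QuotientGroup.mk' _ x) * QuotientGroup.mk' _ g) : g * x = x * g := by
  apply hlift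
  rw [← QuotientGroup.eq_one_iff, QuotientGroup.mk_mul, QuotientGroup.mk_mul, QuotientGroup.mk_mul,
    QuotientGroup.mk_inv, QuotientGroup.mk_inv]
  have h' : (g : SU (k + j) K q ⧸ Subgroup.center (SU (k + j) K q)) * x = x * g := h
  rw [h', mul_inv_cancel_right, mul_inv_cancel]

/-- elements commuting with `(x₀, 1)` are block diagonal -/
theorem exists_blocks {x₀ : SU k K q} (hfp : ∀ v : Fin k → K, x₀.1.1 *ᵥ v = v → v = 0) {g : SU (k + j) K q}
    (h : g * bdU (x₀, (1 : SU j K q)) = bdU (x₀, (1 : SU j K q)) * g) : ∃ a d, g.1.1 = bdm a d := by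
  refine exists_bd_of_comm hfp ?_
  have h1 := congrArg (fun y : SU (k + j) K q => y.1.1) h
  exact h1

/-- **Descent from `PSU_{k+j}` to `SU_j`.** -/
theorem su_descend (hF : Fintype.card K = q ^ 2) (h3 : 3 ≤ k + j) (hk : 0 < k) (hj : 0 < j) {p p' : ℕ} (hp : p.Prime)
    (hp' : p'.Prime) (hpp : p ≠ p') (h : PQ p p' (PSU (k + j) K q)) {x₀ : SU k K q} (hx : ∃ t : ℕ, orderOf x₀ = p ^ t)
    (hfp : ∀ v : Fin k → K, x₀.1.1 *ᵥ v = v → v = 0)
    (hlift : ∀ g : SU (k + j) K q,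
      g * bdU (x₀, (1 : SU j K q)) * g⁻¹ * (bdU (x₀, (1 : SU j K q)))⁻¹ ∈ Subgroup.center _ →
      g * bdU (x₀, (1 : SU j K q)) = bdU (x₀, (1 : SU j K q)) * g) : PQ p p' (SU j K q) := by
  classical
  have hinj := ublk2_injective (F := K) (k := k) (l := j) (q := q) hF h3 hk hj
  have h1 := H766.PQ.PQ_sub hp hp' hpp h (x := ublk1 k j K q x₀) (by
    obtain ⟨t, ht⟩ := hx
    refine ⟨t, ?_⟩
    rw [orderOf_injective _ (ublk1_injective (F := K) (k := k) (l := j) (q := q) hF h3 hk hj), ht])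
    (ublk2 k j K q).range (by
      rintro _ ⟨B, rfl⟩
      rw [Subgroup.mem_centralizer_singleton_iff]
      exact (ublk_comm x₀ B).symm) (by
      rintro c hc _ ⟨B, rfl⟩
      rw [Subgroup.mem_centralizer_singleton_iff] at hc
      obtain ⟨g, rfl⟩ := QuotientGroup.mk'_surjective _ c
      have hg := comm_of_lift (hlift g) hc
      have hg' : g⁻¹ * bdU (x₀, (1 : SU j K q)) = bdU (x₀, (1 : SU j K q)) * g⁻¹ := by
        rw [inv_mul_eq_iff_eq_mul, ← mul_assoc, hg, mul_inv_cancel_right]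
      obtain ⟨a, d, had⟩ := exists_blocks hfp hg
      obtain ⟨a', d', had'⟩ := exists_blocks hfp hg'
      have hone : bdm (a * a') (d * d') = bdm (1 : Matrix (Fin k) (Fin k) K) (1 : Matrix (Fin j) (Fin j) K) := by
        rw [bdm_mul, bdm_one, ← had, ← had']
        have h2 := congrArg (fun y : SU (k + j) K q => y.1.1) (mul_inv_cancel g)
        exact h2
      have haa : a * a' = 1 := (bdm_injective hone).1
      obtain ⟨B', hB'⟩ := exists_bdU (g := g * bdU ((1 : SU k K q), B) * g⁻¹) (D := d * B.1.1 * d') (by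
        show g.1.1 * bdm 1 B.1.1 * (g⁻¹ : SU (k + j) K q).1.1 = _
        rw [had, had', ← bdm_mul, ← bdm_mul, mul_one, haa])
      refine ⟨B', ?_⟩
      show QuotientGroup.mk' _ (bdU ((1 : SU k K q), B')) = _
      rw [← hB', map_mul, map_mul, map_inv]
      rfl)
  exact PQ.of_equiv (MonoidHom.ofInjective hinj).symm h1

end su

end Cfsg.Agent.H61.PQ
end

-- part: H61/PQ/SuElt
section
/-!
# Elements of prime order without fixed vectors (helper61, S4612)

* `fpf` : `f` of prime order `l` on a space of dimension `b`, `l ∤ |K|^i - 1` for `0 < i < b`: no fixed vectors;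
* `exists_x0` : such elements of `SU_b`;
* `exists_x0_two` : `diag(ζ, ζ⁻¹)`.
-/

set_option autoImplicit false
set_option linter.unusedSectionVars false

open Cfsg Matrix

namespace Cfsg.Agent.H61.PQ

open Cfsg.Agent.H322.Cent Cfsg.Agent.H358.A3 Cfsg.Agent.LieClassical.SUBasic Module
open Cfsg.Agent.H477.HC

universe u v

theorem fpf {K : Type u} [Field K] [Finite K] {V : Type v} [AddCommGroup V] [Module K V] [FiniteDimensional K V]
    (f : Module.End K V) {l : ℕ} (hl : l.Prime) (hlK : ¬ l ∣ Nat.card K) (hf : f ^ l = 1) (hf1 : f ≠ 1)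
    (hreg : ∀ i, 0 < i → i < finrank K V → ¬ l ∣ Nat.card K ^ i - 1) {v : V} (hv : f v = v) : v = 0 := by
  classical
  by_contra hv0
  have hl0 : (l : K) ≠ 0 := by
    intro h0
    obtain ⟨r, hr, hrK⟩ := exists_char_prime (K := K)
    have h1 : r ∣ l := (CharP.cast_eq_zero_iff K r l).1 h0
    have h2 : r = l := (Nat.prime_dvd_prime_iff_eq hr hl).1 h1
    have : Fact r.Prime := ⟨hr⟩
    have := Fintype.ofFinite K
    obtain ⟨n, -, hn⟩ := FiniteField.card K r
    apply hlK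
    rw [Nat.card_eq_fintype_card, hn, h2]
    exact dvd_pow_self _ n.ne_zero
  set g : Module.End K V := f - 1 with hg
  have hgv : ∀ w, g w = f w - w := fun w => rfl
  let W : Submodule K V := LinearMap.range g
  have hWlt : finrank K W < finrank K V := by
    have h1 := LinearMap.finrank_range_add_finrank_ker g
    have h2 : 0 < finrank K (LinearMap.ker g) := by
      have : Nontrivial (LinearMap.ker g) := by
        refine ⟨⟨⟨v, ?_⟩, 0, fun h => hv0 (congrArg Subtype.val h)⟩⟩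
        rw [LinearMap.mem_ker, hgv, hv, sub_self]
      exact finrank_pos
    show finrank K (LinearMap.range g) < _
    omega
  have hfW : ∀ w ∈ W, f w ∈ W := by
    rintro _ ⟨w, rfl⟩
    refine ⟨f w, ?_⟩
    rw [hgv, hgv, map_sub]
  let fW : Module.End K W := f.restrict hfW
  have hfWl : fW ^ l = 1 := by
    ext w
    have h1 : ∀ n : ℕ, ((fW ^ n) w : V) = (f ^ n) w := by
      intro n
      induction n with
      | zero => rfl
      | succ n ih =>
        rw [pow_succ', pow_succ', Module.End.mul_apply, Module.End.mul_apply, ← ih]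
        rfl
    rw [h1, hf]
    rfl
  have key : fW = 1 := by
    by_contra hne
    let u : (Module.End K W)ˣ := Units.ofPowEqOne fW l hfWl hl.ne_zero
    have hu : orderOf u = l := by
      have h1 : orderOf u ∣ l := orderOf_dvd_of_pow_eq_one (Units.pow_ofPowEqOne hfWl hl.ne_zero)
      rcases (Nat.dvd_prime hl).1 h1 with h2 | h2
      · exfalso
        apply hne
        rw [orderOf_eq_one_iff] at h2
        exact congrArg Units.val h2
      · exact h2
    let b : Basis (Fin (finrank K W)) K W := finBasis K W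
    let e : (Module.End K W)ˣ ≃* GL (Fin (finrank K W)) K :=
      Units.mapEquiv (LinearMap.toMatrixAlgEquiv b).toMulEquiv
    have h3 : l ∣ Nat.card (GL (Fin (finrank K W)) K) := by
      rw [← hu, ← orderOf_injective e.toMonoidHom e.injective u]
      exact orderOf_dvd_natCard _
    have := Fintype.ofFinite K
    rw [Matrix.card_GL_field] at h3
    obtain ⟨i, -, hi⟩ := (Prime.dvd_finsetProd_iff hl.prime _).1 h3
    rw [← Nat.card_eq_fintype_card] at hi
    have hi2 : Nat.card K ^ finrank K W - Nat.card K ^ (i : ℕ) =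
        Nat.card K ^ (i : ℕ) * (Nat.card K ^ (finrank K W - i) - 1) := by
      rw [Nat.mul_sub_one, ← pow_add]
      congr 2
      have := i.2
      omega
    rw [hi2] at hi
    rcases hl.dvd_mul.1 hi with h4 | h4
    · exact hlK (hl.dvd_of_dvd_pow h4)
    · exact hreg _ (by have := i.2; omega) (by omega) h4
  -- `g² = 0`
  have hgg : ∀ w, f (g w) = g w := by
    intro w
    have h1 := congrArg (fun T : Module.End K W => ((T ⟨g w, ⟨w, rfl⟩⟩ : W) : V)) key
    exact h1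
  have hpow : ∀ n : ℕ, ∀ w, (f ^ n) w = w + (n : K) • g w := by
    intro n
    induction n with
    | zero => intro w; simp only [_root_.pow_zero, _root_.Module.End.one_apply, _root_.Nat.cast_zero, _root_.zero_smul, _root_.add_zero]
    | succ n ih =>
      intro w
      rw [pow_succ', Module.End.mul_apply, ih, map_add, map_smul, hgg]
      have h1 : f w = w + g w := by rw [hgv]; abel
      rw [h1]
      push_cast
      module
  apply hf1
  ext w
  have h1 := hpow l w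
  rw [hf] at h1
  have h2 : (l : K) • g w = 0 := by
    have h3 : w = w + (l : K) • g w := h1
    have h4 := sub_eq_zero.2 h3.symm
    rwa [add_sub_cancel_left] at h4
  have h3 := (smul_eq_zero.1 h2).resolve_left hl0
  rw [hgv, sub_eq_zero] at h3
  exact h3

section su

variable {K : Type u} [Field K] [Fintype K] {q l : ℕ}

/-- elements of order `l` of `SU_b` without fixed vectors -/
theorem exists_x0 (hF : Fintype.card K = q ^ 2) {b : ℕ} (hbo : Odd b) (hl : l.Prime) (hlq : ¬ l ∣ q)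
    (hl1 : ¬ l ∣ q + 1) (hdvd : l ∣ q ^ b + 1) (hreg : ∀ i, 0 < i → i < b → ¬ l ∣ Nat.card K ^ i - 1) :
    ∃ x₀ : SU b K q, orderOf x₀ = l ∧ ∀ v : Fin b → K, x₀.1.1 *ᵥ v = v → v = 0 := by
  classical
  have hq : Nat.card K = q ^ 2 := by rw [Nat.card_eq_fintype_card, hF]
  have hlK : ¬ l ∣ Nat.card K := fun h => hlq (hl.dvd_of_dvd_pow (hq ▸ h))
  have : Fact l.Prime := ⟨hl⟩
  have hb0 : 0 < b := hbo.pos
  have hcard : l ∣ Nat.card (CForm.hermF K hq b).iso := by
    rw [H113.PSU.Levi.card_iso hq b]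
    refine Dvd.dvd.mul_left ?_ _
    refine Dvd.dvd.trans ?_ (Finset.dvd_prod_of_mem _ (Finset.mem_range.2 (Nat.sub_lt hb0 one_pos)))
    have e1 : b - 1 + 1 = b := by omega
    rw [e1]
    unfold H113.PSU.Levi.uu
    rw [if_neg (Nat.not_even_iff_odd.2 hbo)]
    exact hdvd
  have hfin : Finite (CForm.hermF K hq b).iso := finite_iso' _
  obtain ⟨y, hy⟩ := exists_prime_orderOf_dvd_card' l hcard
  have hysg : y ∈ H328.Gow.sg (CForm.hermF K hq b) := by
    rw [H328.Gow.mem_sg]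
    obtain ⟨A, rfl⟩ := (isoGU hq b).surjective y
    rw [H328.Gow.det_isoGU]
    have h6 := Cfsg.Agent.ClassicalGeometry.GUBasic.det_pow hF fun u v => A.2 u v
    have h7 : A ^ l = 1 := by
      apply (isoGU hq b).injective
      rw [map_pow, ← hy, pow_orderOf_eq_one, map_one]
    have h8 : ((A : GL (Fin b) K) : Matrix (Fin b) (Fin b) K).det ^ l = 1 := by
      have h9 := congrArg (fun B : GU b K q => ((B : GL (Fin b) K) : Matrix (Fin b) (Fin b) K).det) h7
      simpa only [Matrix.det_pow, _root_.SubmonoidClass.coe_pow, _root_.Units.val_pow_eq_pow_val, _root_.OneMemClass.coe_one, _root_.Units.val_one, _root_.Matrix.det_one] using h9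
    have h10 : orderOf ((A : GL (Fin b) K) : Matrix (Fin b) (Fin b) K).det ∣ q + 1 := orderOf_dvd_of_pow_eq_one h6
    have h11 : orderOf ((A : GL (Fin b) K) : Matrix (Fin b) (Fin b) K).det ∣ l := orderOf_dvd_of_pow_eq_one h8
    rcases (Nat.dvd_prime hl).1 h11 with h12 | h12
    · exact orderOf_eq_one_iff.1 h12
    · rw [h12] at h10
      exact absurd h10 hl1
  let x₀ : SU b K q := (suE hq b).symm ⟨y, hysg⟩
  have hx₀ : orderOf x₀ = l := by
    rw [MulEquiv.orderOf_eq, Subgroup.orderOf_mk, hy]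
  refine ⟨x₀, hx₀, fun v hv => ?_⟩
  refine fpf (K := K) (Matrix.toLinAlgEquiv' x₀.1.1) hl hlK ?_ ?_ ?_ (v := v) ?_
  · have h1 : x₀ ^ l = 1 := by rw [← hx₀, pow_orderOf_eq_one]
    have h2 : (x₀.1.1 : Matrix (Fin b) (Fin b) K) ^ l = 1 := congrArg (fun z : SU b K q => z.1.1) h1
    have h3 := congrArg (Matrix.toLinAlgEquiv' (R := K)) h2
    rw [map_pow, map_one] at h3
    exact h3
  · intro h
    have h1 : (x₀.1.1 : Matrix (Fin b) (Fin b) K) = 1 := by
      apply (Matrix.toLinAlgEquiv' (R := K)).injective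
      rw [map_one]
      exact h
    have h2 : x₀ = 1 := Subtype.ext (Subtype.ext h1)
    rw [h2, orderOf_one] at hx₀
    exact hl.one_lt.ne hx₀
  · rw [Module.finrank_fin_fun]
    exact hreg
  · exact hv

/-- `diag(ζ, ζ⁻¹)`, `l ∣ q + 1` -/
theorem exists_x0_two (hF : Fintype.card K = q ^ 2) (hl : l.Prime) (hl1 : l ∣ q + 1) :
    ∃ x₀ : SU 2 K q, orderOf x₀ = l ∧ ∀ v : Fin 2 → K, x₀.1.1 *ᵥ v = v → v = 0 := by
  classical
  have : Fact l.Prime := ⟨hl⟩
  have hcard : l ∣ Nat.card Kˣ := by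
    rw [Nat.card_units, Nat.card_eq_fintype_card, hF]
    have h1 : q ^ 2 - 1 ^ 2 = (q + 1) * (q - 1) := Nat.sq_sub_sq q 1
    rw [one_pow] at h1
    rw [h1]
    exact Dvd.dvd.mul_right hl1 _
  obtain ⟨ζ, hζ⟩ := exists_prime_orderOf_dvd_card' l hcard
  have hζ1 : ζ ^ (q + 1) = 1 := by
    obtain ⟨c, hc⟩ := hl1
    rw [hc, pow_mul, ← hζ, pow_orderOf_eq_one, one_pow]
  have hζne : ζ ≠ 1 := by
    rintro rfl
    rw [orderOf_one] at hζ
    exact hl.one_lt.ne hζ
  let a : Fin 2 → K := ![(ζ : K), ((ζ⁻¹ : Kˣ) : K)]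
  have hprod : ∏ i, a i = 1 := by
    rw [Fin.prod_univ_two]
    show (ζ : K) * ((ζ⁻¹ : Kˣ) : K) = 1
    rw [← Units.val_mul, mul_inv_cancel, Units.val_one]
  have hnorm : ∀ i, a i ^ (q + 1) = 1 := by
    intro i
    fin_cases i
    · show (ζ : K) ^ (q + 1) = 1
      rw [← Units.val_pow_eq_pow_val, hζ1, Units.val_one]
    · show ((ζ⁻¹ : Kˣ) : K) ^ (q + 1) = 1
      rw [← Units.val_pow_eq_pow_val, inv_pow, hζ1, inv_one, Units.val_one]
  let x₀ : SU 2 K q := suDiag q a hprod hnorm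
  have hx : ∀ n : ℕ, (x₀ ^ n).1.1 = Matrix.diagonal (fun i => a i ^ n) := by
    intro n
    show (x₀.1.1 ^ n) = _
    rw [show x₀.1.1 = Matrix.diagonal a from rfl, Matrix.diagonal_pow]
    rfl
  refine ⟨x₀, ?_, fun v hv => ?_⟩
  · refine orderOf_eq_prime ?_ ?_
    · apply Subtype.ext
      apply Subtype.ext
      rw [hx]
      have h1 : (fun i => a i ^ l) = fun _ => (1 : K) := by
        funext i
        fin_cases i
        · show (ζ : K) ^ l = 1
          rw [← Units.val_pow_eq_pow_val, ← hζ, pow_orderOf_eq_one, Units.val_one]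
        · show ((ζ⁻¹ : Kˣ) : K) ^ l = 1
          rw [← Units.val_pow_eq_pow_val, inv_pow, ← hζ, pow_orderOf_eq_one, inv_one, Units.val_one]
      rw [h1]
      exact Matrix.diagonal_one
    · intro h
      apply hζne
      have h1 := congrArg (fun z : SU 2 K q => z.1.1 0 0) h
      have h2 : a 0 = 1 := by
        have h3 : (Matrix.diagonal a) 0 0 = (1 : Matrix (Fin 2) (Fin 2) K) 0 0 := h1
        rwa [Matrix.diagonal_apply_eq, Matrix.one_apply_eq] at h3
      exact Units.ext h2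
  · have h1 : ∀ i, a i * v i = v i := by
      intro i
      have h2 := congrFun hv i
      have h3 : x₀.1.1 = Matrix.diagonal a := rfl
      rw [h3, Matrix.mulVec_diagonal] at h2
      exact h2
    funext i
    have h2 : (a i - 1) * v i = 0 := by rw [sub_mul, one_mul, h1, sub_self]
    rcases mul_eq_zero.1 h2 with h3 | h3
    · exfalso
      apply hζne
      rw [sub_eq_zero] at h3
      fin_cases i
      · exact Units.ext h3
      · have h4 : ζ⁻¹ = 1 := Units.ext h3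
        exact inv_eq_one.1 h4
    · exact h3

end su

end Cfsg.Agent.H61.PQ
end

-- part: H61/PQ/PsuRk3
section
/-!
# `PSU_n(q)`, `n = b + 1` divisible by 4: the rank 3 character (helper61, S4612)

* `su_scalar` : a non-central `2`-element, scalar on both summands;
* `psu_rk3` : the pair `{2, l}`, `l ∣ q ^ (n - 1) + 1`.
-/

set_option autoImplicit false
set_option linter.unusedSectionVars false

open Cfsg Matrix

namespace Cfsg.Agent.H61.PQ

open Cfsg.Agent.H322.Cent Cfsg.Agent.H358.A3 Cfsg.Agent.LieClassical.SUBasic Module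
open Cfsg.Agent.H477.HC Cfsg.Agent.H317.PQ Cfsg.Agent.Characters.Core Cfsg.Agent.H113.PSU Cfsg.Agent.Characters

universe u v

section su

variable {K : Type u} [Field K] [Fintype K] {q k j : ℕ}

/-- **a non-central element of the centre of the centralizer** -/
theorem su_scalar {p p' : ℕ} (hp : p.Prime)
    (hp' : p'.Prime) (hpp : p ≠ p') (h : PQ p p' (PSU (k + j) K q)) {x₀ : SU k K q}
    (hx : ∃ t : ℕ, orderOf x₀ = p ^ t) (hfp : ∀ v : Fin k → K, x₀.1.1 *ᵥ v = v → v = 0)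
    (hlift : ∀ g : SU (k + j) K q,
      g * bdU (x₀, (1 : SU j K q)) * g⁻¹ * (bdU (x₀, (1 : SU j K q)))⁻¹ ∈ Subgroup.center _ →
      g * bdU (x₀, (1 : SU j K q)) = bdU (x₀, (1 : SU j K q)) * g) {a : SU (k + j) K q} {s t : K}
    (ha : a.1.1 = bdm (diagonal fun _ => s) (diagonal fun _ => t)) (hao : ∃ m : ℕ, orderOf a = p' ^ m)
    (hac : a ∉ Subgroup.center (SU (k + j) K q)) : False := by
  classical
  set π := QuotientGroup.mk' (Subgroup.center (SU (k + j) K q)) with hπ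
  have hcm : ∀ g : SU (k + j) K q, g * bdU (x₀, (1 : SU j K q)) = bdU (x₀, (1 : SU j K q)) * g → g * a = a * g := by
    intro g hg
    obtain ⟨c, d, hcd⟩ := exists_blocks hfp hg
    apply Subtype.ext
    apply Subtype.ext
    show g.1.1 * a.1.1 = a.1.1 * g.1.1
    rw [hcd, ha, ← bdm_mul, ← bdm_mul]
    congr 1
    · ext i i'
      rw [Matrix.mul_diagonal, Matrix.diagonal_mul, mul_comm]
    · ext i i'
      rw [Matrix.mul_diagonal, Matrix.diagonal_mul, mul_comm]
  have hax : a * bdU (x₀, (1 : SU j K q)) = bdU (x₀, (1 : SU j K q)) * a := (hcm _ rfl).symm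
  have h1 := H766.PQ.PQ_sub hp hp' hpp h (x := π (bdU (x₀, (1 : SU j K q)))) (by
    obtain ⟨t, ht⟩ := hx
    have h2 : (bdU (x₀, (1 : SU j K q))) ^ p ^ t = 1 := by
      rw [← map_pow, Prod.pow_mk, one_pow, ← ht, pow_orderOf_eq_one]
      exact map_one _
    have h3 : orderOf (π (bdU (x₀, (1 : SU j K q)))) ∣ p ^ t := by
      rw [orderOf_dvd_iff_pow_eq_one, ← map_pow, h2, map_one]
    obtain ⟨i, -, hi⟩ := (Nat.dvd_prime_pow hp).1 h3
    exact ⟨i, hi⟩) (Subgroup.zpowers (π a)) (by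
      rw [Subgroup.zpowers_le, Subgroup.mem_centralizer_singleton_iff, ← map_mul, ← map_mul, hax]) (by
      intro c hc n hn
      rw [Subgroup.mem_centralizer_singleton_iff] at hc
      obtain ⟨g, rfl⟩ := QuotientGroup.mk'_surjective _ c
      have hg := comm_of_lift (hlift g) hc
      obtain ⟨i, rfl⟩ := Subgroup.mem_zpowers_iff.1 hn
      have hga : Commute (π g) (π a) := by
        show π g * π a = π a * π g
        rw [← map_mul, ← map_mul, hcm g hg]
      have h4 : π g * π a ^ i * (π g)⁻¹ = π a ^ i := by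
        rw [(hga.zpow_right i).eq, mul_inv_cancel_right]
      rw [h4]
      exact Subgroup.zpow_mem _ (Subgroup.mem_zpowers _) _)
  have h2 := PQ.core hp hp' hpp h1 ⊤
  rw [Subgroup.card_top, Nat.card_zpowers] at h2
  obtain ⟨m, hm⟩ := hao
  have h3 : orderOf (π a) ∣ p' ^ m := hm ▸ orderOf_map_dvd π a
  obtain ⟨i, -, hi⟩ := (Nat.dvd_prime_pow hp').1 h3
  have hi0 : i ≠ 0 := by
    rintro rfl
    rw [pow_zero, orderOf_eq_one_iff] at hi
    exact hac ((QuotientGroup.eq_one_iff _).1 hi)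
  rw [hi] at h2
  refine h2 (fun h4 => ?_) (dvd_pow_self _ hi0)
  have h5 : p = p' := (Nat.prime_dvd_prime_iff_eq hp hp').1 (hp.dvd_of_dvd_pow h4)
  exact hpp h5

end su

/-! ### geometric sums -/

theorem geom_parity {x : ℤ} (hx : Odd x) (n : ℕ) :
    (∑ i ∈ Finset.range n, x ^ i) % 2 = (n : ℤ) % 2 := by
  induction n with
  | zero => simp
  | succ n ih =>
    rw [Finset.sum_range_succ, Int.add_emod, ih]
    have h1 : x ^ n % 2 = 1 := Int.odd_iff.1 (hx.pow)
    rw [h1]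
    push_cast
    omega

section rk3

open Cfsg.Agent.H113.PSU.Points Cfsg.Agent.LieClassical.HermBasic Cfsg.Agent.LieClassical.HermSiegel

variable {K : Type u} [Field K] [Fintype K] {q m : ℕ}

/-- the rank 3 characters of `SU`, with the permutation character -/
theorem exists_rk3 (hF : Fintype.card K = q ^ 2) (hm : 2 ≤ m) :
    ∃ (χ₁ χ₂ : IrrCharacter (SU (m + 2) K q)) (f g : ℕ), (χ₁ : SU (m + 2) K q → ℂ) 1 = f ∧
      (χ₂ : SU (m + 2) K q → ℂ) 1 = g ∧
      ((q : ℤ) ^ 2 - 1) * (q + 1) * f = q ^ 2 * ((q : ℤ) ^ (m + 2) - (-1) ^ m) * (q ^ (m - 1) + (-1) ^ m) ∧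
      ((q : ℤ) ^ 2 - 1) * (q + 1) * g = q ^ 3 * ((q : ℤ) ^ (m + 1) + (-1) ^ m) * (q ^ m - (-1) ^ m) ∧
      (∀ x : SU (m + 2) K q, (Nat.card (MulAction.fixedBy (Pt (m + 2) K q) x) : ℂ) =
        1 + (χ₁ : SU (m + 2) K q → ℂ) x + (χ₂ : SU (m + 2) K q → ℂ) x) ∧
      MulAction.IsPretransitive (SU (m + 2) K q) (Pt (m + 2) K q) ∧
      ∀ z ∈ Subgroup.center (SU (m + 2) K q), (χ₁ : SU (m + 2) K q → ℂ) z = f ∧ (χ₂ : SU (m + 2) K q → ℂ) z = g := by
  classical
  have hq2 := two_le hF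
  obtain ⟨b, hb0, hb, hr3, x₀, y₀, hxy, hR, hcom⟩ := r3 (F := K) (m := m) hF hm
  have := Fintype.ofFinite (Pt (m + 2) K q)
  obtain ⟨e, he⟩ : ∃ e : ℤ, e = (-1) ^ m := ⟨_, rfl⟩
  have hee : e * e = 1 := by rw [he, ← mul_pow]; simp
  rw [← he] at hb ⊢
  obtain ⟨Q, hQ⟩ : ∃ Q : ℤ, Q = (q : ℤ) := ⟨_, rfl⟩
  have hQ2 : 2 ≤ Q := by rw [hQ]; exact_mod_cast hq2
  obtain ⟨P, hP⟩ : ∃ P : ℤ, P = (q : ℤ) ^ (m - 1) := ⟨_, rfl⟩
  have hP0 : 0 < P := by rw [hP]; positivity
  have hm0 : (q : ℤ) ^ m = Q * P := by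
    rw [hP, hQ, ← pow_succ']; congr 1; omega
  have hm1 : (q : ℤ) ^ (m + 1) = Q ^ 2 * P := by rw [pow_succ, hm0, ← hQ]; ring
  have hm2 : (q : ℤ) ^ (m + 2) = Q ^ 3 * P := by rw [pow_succ, hm1, ← hQ]; ring
  have hl : ((q ^ (2 * m + 1) : ℕ) : ℤ) = Q ^ 3 * P ^ 2 := by
    push_cast
    have : 2 * m + 1 = m + (m + 1) := by ring
    rw [this, pow_add, hm0, hm1]; ring
  rw [hm0, ← hP, ← hQ] at hb
  have hne : e ≠ 0 := by rintro rfl; rw [zero_mul] at hee; exact zero_ne_one hee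
  have hd : (e * (Q * P) - 1) - (-(e * P) - 1) ≠ 0 := by
    have : (e * (Q * P) - 1) - (-(e * P) - 1) = e * P * (Q + 1) := by ring
    rw [this]
    exact mul_ne_zero (mul_ne_zero hne hP0.ne') (by omega)
  obtain ⟨χ₁, χ₂, f, g, hf, hg, h1, h2, h4, h3⟩ := Rank3.frame_exact hr3 hxy hR hcom
    (r := e * (Q * P) - 1) (s := -(e * P) - 1) (sub_ne_zero.1 hd)
    (by push_cast; rw [← hQ]; linear_combination hb - (Q * P ^ 2) * hee - hee)
    (by
      rw [hl]; push_cast; rw [← hQ]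
      linear_combination (-(Q ^ 2 * b)) * hb + (Q ^ 2 * b) * hee)
  have hkl : ((q ^ 2 * b : ℕ) : ℤ) = Q ^ 2 * b := by push_cast; rw [hQ]
  rw [hl, hkl] at h1 h2
  have hcen : ∀ z ∈ Subgroup.center (SU (m + 2) K q), ∀ y : Pt (m + 2) K q, z • y = y := by
    intro z hz y
    obtain ⟨c, hc, -, hc'⟩ := Cfsg.Agent.ClassicalGeometry.PSUAutBasic.exists_scalar_of_mem_center hF (by omega) hz
    obtain ⟨v, h0, hv, rfl⟩ := exists_pt y
    rw [smul_pt, pt_eq_iff]
    exact ⟨c, hc, hc' v⟩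
  refine ⟨χ₁, χ₂, f, g, hf, hg, ?_, ?_, h4, hr3.trans, fun z hz => h3 z (hcen z hz)⟩
  · rw [hm2, ← hP, ← hQ]
    apply mul_left_cancel₀ (mul_ne_zero hne hP0.ne')
    linear_combination (Q ^ 2 - 1) * h1 + (e * P * Q ^ 2) * hb + (P ^ 2 * (Q ^ 3 - Q ^ 5)) * hee
  · rw [hm1, hm0, ← hQ]
    apply mul_left_cancel₀ (mul_ne_zero hne hP0.ne')
    linear_combination (Q ^ 2 - 1) * h2 + (e * P * Q ^ 3) * hb + (P ^ 2 * (Q ^ 5 - Q ^ 3)) * hee

/-- the parities of the degrees, `n = m + 2` divisible by `4`, `q` odd -/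
theorem parity (hqo : Odd q) (hq2 : 2 ≤ q) (hm : m % 4 = 2) {f g : ℕ}
    (hf : ((q : ℤ) ^ 2 - 1) * (q + 1) * f = q ^ 2 * ((q : ℤ) ^ (m + 2) - (-1) ^ m) * (q ^ (m - 1) + (-1) ^ m))
    (hg : ((q : ℤ) ^ 2 - 1) * (q + 1) * g = q ^ 3 * ((q : ℤ) ^ (m + 1) + (-1) ^ m) * (q ^ m - (-1) ^ m)) :
    f % 2 = 0 ∧ g % 2 = 1 ∧ q ∣ g := by
  obtain ⟨r, hr⟩ : ∃ r, m = 4 * r + 2 := ⟨m / 4, by omega⟩
  have he : ((-1 : ℤ)) ^ m = 1 := by
    rw [hr, show 4 * r + 2 = 2 * (2 * r + 1) by ring, pow_mul]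
    norm_num
  rw [he] at hf hg
  have hqZ : Odd (q : ℤ) := by exact_mod_cast hqo
  have hq0 : (2 : ℤ) ≤ q := by exact_mod_cast hq2
  -- the geometric sums
  have e1 : (q : ℤ) ^ (m + 2) - 1 = ((q : ℤ) ^ 2 - 1) * ∑ i ∈ Finset.range (2 * r + 2), ((q : ℤ) ^ 2) ^ i := by
    rw [mul_geom_sum, ← pow_mul]
    congr 2
    omega
  have e2 : (q : ℤ) ^ (m - 1) + 1 = ((q : ℤ) + 1) * ∑ i ∈ Finset.range (4 * r + 1), (-(q : ℤ)) ^ i := by
    have h1 := mul_geom_sum (-(q : ℤ)) (4 * r + 1)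
    have h2 : (-(q : ℤ)) ^ (4 * r + 1) = -(q : ℤ) ^ (m - 1) := by
      have h3 : m - 1 = 4 * r + 1 := by (clear * - hr; omega)
      rw [h3]
      exact Odd.neg_pow ⟨2 * r, by ring⟩ _
    rw [h2] at h1
    linear_combination h1
  have e3 : (q : ℤ) ^ (m + 1) + 1 = ((q : ℤ) + 1) * ∑ i ∈ Finset.range (4 * r + 3), (-(q : ℤ)) ^ i := by
    have h1 := mul_geom_sum (-(q : ℤ)) (4 * r + 3)
    have h2 : (-(q : ℤ)) ^ (4 * r + 3) = -(q : ℤ) ^ (m + 1) := by
      have h3 : m + 1 = 4 * r + 3 := by omega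
      rw [h3]
      exact Odd.neg_pow ⟨2 * r + 1, by ring⟩ _
    rw [h2] at h1
    linear_combination h1
  have e4 : (q : ℤ) ^ m - 1 = ((q : ℤ) ^ 2 - 1) * ∑ i ∈ Finset.range (2 * r + 1), ((q : ℤ) ^ 2) ^ i := by
    rw [mul_geom_sum, ← pow_mul]
    congr 2
    omega
  have p1 := geom_parity (x := (q : ℤ) ^ 2) (hqZ.pow) (2 * r + 2)
  have p2 := geom_parity (x := -(q : ℤ)) hqZ.neg (4 * r + 1)
  have p3 := geom_parity (x := -(q : ℤ)) hqZ.neg (4 * r + 3)
  have p4 := geom_parity (x := (q : ℤ) ^ 2) (hqZ.pow) (2 * r + 1)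
  set A := ∑ i ∈ Finset.range (2 * r + 2), ((q : ℤ) ^ 2) ^ i
  set B := ∑ i ∈ Finset.range (4 * r + 1), (-(q : ℤ)) ^ i
  set C := ∑ i ∈ Finset.range (4 * r + 3), (-(q : ℤ)) ^ i
  set D := ∑ i ∈ Finset.range (2 * r + 1), ((q : ℤ) ^ 2) ^ i
  have hne : ((q : ℤ) ^ 2 - 1) * (q + 1) ≠ 0 := by
    have h1 : (0 : ℤ) < (q : ℤ) ^ 2 - 1 := by nlinarith only [hq2]
    have h2 : (0 : ℤ) < (q : ℤ) + 1 := by linarith only [hq2]
    exact (mul_pos h1 h2).ne'
  have hf' : (f : ℤ) = q ^ 2 * A * B := by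
    apply mul_left_cancel₀ hne
    rw [hf, e1, e2]
    ring
  have hg' : (g : ℤ) = q ^ 3 * C * D := by
    apply mul_left_cancel₀ hne
    rw [hg, e3, e4]
    ring
  have hA : Even A := Int.even_iff.2 (by rw [p1]; push_cast; (clear * -; omega))
  have hC : Odd C := Int.odd_iff.2 (by rw [p3]; push_cast; (clear * -; omega))
  have hD : Odd D := Int.odd_iff.2 (by rw [p4]; push_cast; (clear * -; omega))
  refine ⟨?_, ?_, ?_⟩
  · have h1 : Even (f : ℤ) := by
      rw [hf']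
      exact (hA.mul_left _).mul_right _
    rw [Int.even_coe_nat] at h1
    exact Nat.even_iff.1 h1
  · have h1 : Odd (g : ℤ) := by
      rw [hg']
      exact ((hqZ.pow).mul hC).mul hD
    rw [Int.odd_coe_nat] at h1
    exact Nat.odd_iff.1 h1
  · have h1 : (q : ℤ) ∣ g := by
      rw [hg', pow_succ, mul_assoc, mul_assoc]
      exact ⟨q ^ 2 * (C * D), by ring⟩
    exact_mod_cast h1

/-- **`PSU_n(q)`, `4 ∣ n`, the pair `{2, l}`, `l` a primitive divisor of `q ^ (n - 1) + 1`** -/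
theorem psu_rk3 {n : ℕ} (hF : Fintype.card K = q ^ 2) (hqo : Odd q) (hn4 : 4 ∣ n) (hn0 : 4 ≤ n) {l : ℕ}
    (hl : l.Prime) (hlq : ¬ l ∣ q) (hl1 : ¬ l ∣ q + 1)
    (hreg : ∀ i, 0 < i → i < n - 1 → ¬ l ∣ Nat.card K ^ i - 1) (hd : l ∣ Nat.card (PSU n K q)) :
    ¬ Same 2 l (PSU n K q) := by
  classical
  intro hS
  obtain ⟨m, rfl⟩ : ∃ m, n = m + 2 := ⟨n - 2, by omega⟩
  have hm4 : m % 4 = 2 := by omega
  have hq : Nat.card K = q ^ 2 := by rw [Nat.card_eq_fintype_card, hF]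
  have hq2 := two_le hF
  obtain ⟨χ₁, χ₂, f, g, hf, hg, hf1, hg1, hfix, htr, hcen⟩ := exists_rk3 (K := K) (q := q) (m := m) hF (by omega)
  obtain ⟨pf, pg, hqg⟩ := parity hqo hq2 hm4 hf1 hg1
  have hcf : charDegree (χ₁ : SU (m + 2) K q → ℂ) = f := by
    have h1 := Blocks.Basic.irr_one_eq_charDegree χ₁.2
    rw [hf] at h1
    exact_mod_cast h1.symm
  have hcg : charDegree (χ₂ : SU (m + 2) K q → ℂ) = g := by
    have h1 := Blocks.Basic.irr_one_eq_charDegree χ₂.2
    rw [hg] at h1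
    exact_mod_cast h1.symm
  have hc1 : charDegree (oneC (SU (m + 2) K q) : SU (m + 2) K q → ℂ) = 1 := by
    have h1 := Blocks.Basic.irr_one_eq_charDegree (oneC (SU (m + 2) K q)).2
    have h2 : (oneC (SU (m + 2) K q) : SU (m + 2) K q → ℂ) 1 = 1 := rfl
    rw [h2] at h1
    exact_mod_cast h1.symm
  have hg1' : g ≠ 1 := by
    rintro rfl
    have := Nat.le_of_dvd one_pos hqg
    omega
  -- `χ₂` is in the principal `2`-block
  have hmem : χ₂ ∈ B0 2 (SU (m + 2) K q) := by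
    by_contra hno
    have hfinPt : Finite (Pt (m + 2) K q) := inferInstance
    let χ : Fin 3 → IrrCharacter (SU (m + 2) K q) := ![oneC _, χ₁, χ₂]
    have hMF : H329.PQ.MF (SU (m + 2) K q) (Pt (m + 2) K q) χ := by
      refine ⟨?_, fun x => ?_⟩
      · intro i j hij
        have h1 := congrArg (fun ξ : IrrCharacter (SU (m + 2) K q) => charDegree (ξ : SU (m + 2) K q → ℂ)) hij
        have hv : ∀ i, charDegree (χ i : SU (m + 2) K q → ℂ) = ![1, f, g] i := by
          intro i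
          fin_cases i
          · exact hc1
          · exact hcf
          · exact hcg
        simp only [hv] at h1
        fin_cases i <;> fin_cases j <;> simp at h1 ⊢ <;> (clear * - pf h1 pg hg1'; omega)
      · rw [hfix, Fin.sum_univ_three]
        rfl
    obtain ⟨h1, -⟩ := H329.PQ.trace_test Nat.prime_two hMF (Finset.univ.filter fun i => χ i ∈ B0 2 _)
      (fun i => by rw [Finset.mem_filter]; simp)
    have hcard : Nat.card (Pt (m + 2) K q) = 1 + f + g := by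
      have h2 := hfix 1
      rw [hf, hg] at h2
      have h3 : Nat.card (MulAction.fixedBy (Pt (m + 2) K q) (1 : SU (m + 2) K q)) = Nat.card (Pt (m + 2) K q) := by
        rw [MulAction.fixedBy_one_eq_univ]
        exact Nat.card_univ
      rw [h3] at h2
      exact_mod_cast h2
    have h2 := h1 1 (by rw [hcard, pow_one]; omega)
    rw [Finset.sum_filter, Fin.sum_univ_three] at h2
    have h0 : χ 0 ∈ B0 2 (SU (m + 2) K q) := fun M' hM' => by
      have hMp' := Blocks.Local.isPrime_of_isPModular hM'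
      exact oneC_mem
    have h3 : χ 2 ∉ B0 2 (SU (m + 2) K q) := hno
    rw [if_pos h0, if_neg h3] at h2
    have e0 : charDegree (χ 0 : SU (m + 2) K q → ℂ) = 1 := hc1
    have e1 : charDegree (χ 1 : SU (m + 2) K q → ℂ) = f := hcf
    rw [e0, e1] at h2
    split_ifs at h2 <;> omega
  -- down to `PSU`
  obtain ⟨η, hη, hη'⟩ := Cfsg.Agent.H477.HC.exists_quot (Subgroup.center (SU (m + 2) K q)) χ₂.2
    (fun z hz => by rw [(hcen z hz).2, hg])
  let ζ : IrrCharacter (PSU (m + 2) K q) := ⟨η, hη⟩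
  have hζ : (χ₂ : SU (m + 2) K q → ℂ) = (ζ : PSU (m + 2) K q → ℂ) ∘ (QuotientGroup.mk' (Subgroup.center _)) := by
    funext x
    exact (hη' x).symm
  have h5 : ζ ∈ B0 2 (PSU (m + 2) K q) := by
    rw [← mem_B0_infl_iff Nat.prime_two (QuotientGroup.mk' (Subgroup.center (SU (m + 2) K q)))
      (QuotientGroup.mk'_surjective _) (by rw [QuotientGroup.ker_mk']) hζ]
    exact hmem
  have h6 : ζ ∈ B0 l (PSU (m + 2) K q) := by
    have h7 : B0 2 (PSU (m + 2) K q) = B0 l (PSU (m + 2) K q) := hS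
    rw [← h7]
    exact h5
  have h7 := H766.PQ.not_defect_zero hl hd h6
  have hcζ : charDegree (ζ : PSU (m + 2) K q → ℂ) = g := by
    have h1 := Blocks.Basic.irr_one_eq_charDegree ζ.2
    have h2 : (ζ : PSU (m + 2) K q → ℂ) 1 = g := by
      rw [← hg]
      have h3 := hη' 1
      exact h3
    rw [h2] at h1
    exact_mod_cast h1.symm
  rw [hcζ] at h7
  -- the order
  have hcardG : Nat.card (PSU (m + 2) K q) ∣ (q ^ ((m + 2) * (m + 2 - 1) / 2) *
      ∏ i ∈ (Finset.range (m + 2)).erase m, Levi.uu q (i + 1)) * (q ^ (m + 1) + 1) := by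
    have h8 : Nat.card (PSU (m + 2) K q) ∣ Nat.card (CForm.hermF K hq (m + 2)).iso := by
      refine (Subgroup.card_quotient_dvd_card _).trans ?_
      rw [Nat.card_congr (suE hq (m + 2)).toEquiv]
      exact Subgroup.card_subgroup_dvd_card _
    rw [Levi.card_iso hq (m + 2), ← Finset.prod_erase_mul _ _ (Finset.mem_range.2 (by omega : m < m + 2)),
      ← mul_assoc] at h8
    have h9 : Levi.uu q (m + 1) = q ^ (m + 1) + 1 := by
      unfold Levi.uu
      rw [if_neg (by rw [Nat.even_iff]; omega)]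
    rwa [h9] at h8
  have hlA : ¬ l ∣ q ^ ((m + 2) * (m + 2 - 1) / 2) * ∏ i ∈ (Finset.range (m + 2)).erase m, Levi.uu q (i + 1) := by
    intro h8
    rcases hl.dvd_mul.1 h8 with h9 | h9
    · exact hlq (hl.dvd_of_dvd_pow h9)
    · obtain ⟨i, hi, h10⟩ := (Prime.dvd_finsetProd_iff hl.prime _).1 h9
      rw [Finset.mem_erase, Finset.mem_range] at hi
      unfold Levi.uu at h10
      split_ifs at h10 with he
      · obtain ⟨t, ht⟩ := he
        rw [show i + 1 = 2 * t by omega, pow_mul, ← hq] at h10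
        exact hreg t (by omega) (by (clear * - hm4 hi ht; omega)) h10
      · have h11 : l ∣ Nat.card K ^ (i + 1) - 1 := by
          rw [hq, ← pow_mul, sq_sub]
          exact Dvd.dvd.mul_right h10 _
        have : i ≠ m + 1 := by
          rintro rfl
          apply he
          rw [Nat.even_iff]
          (clear * - hm4; omega)
        exact hreg (i + 1) (by omega) (by (clear * - hi this; omega)) h11
  have hlC : ¬ l ∣ (q ^ 2 - 1) * (q + 1) := by
    intro h8
    rcases hl.dvd_mul.1 h8 with h9 | h9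
    · rw [← hq] at h9
      exact hreg 1 one_pos (by (clear * - hm4; omega)) (by rwa [pow_one])
    · exact hl1 h9
  have hgN : (q ^ (m + 1) + 1) ∣ (q ^ 2 - 1) * (q + 1) * g := by
    have he : ((-1 : ℤ)) ^ m = 1 := by
      obtain ⟨r, hr⟩ : ∃ r, m = 4 * r + 2 := ⟨m / 4, by omega⟩
      rw [hr, show 4 * r + 2 = 2 * (2 * r + 1) by ring, pow_mul]
      norm_num
    have h8 : ((q ^ (m + 1) + 1 : ℕ) : ℤ) ∣ (((q ^ 2 - 1) * (q + 1) * g : ℕ) : ℤ) := by
      have h9 : 1 ≤ q ^ 2 := Nat.one_le_pow _ _ (by omega)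
      push_cast [Nat.cast_sub h9]
      rw [hg1, he]
      exact ⟨q ^ 3 * (q ^ m - 1), by ring⟩
    exact_mod_cast h8
  set A := q ^ ((m + 2) * (m + 2 - 1) / 2) * ∏ i ∈ (Finset.range (m + 2)).erase m, Levi.uu q (i + 1) with hA
  set C := (q ^ 2 - 1) * (q + 1) with hC
  have hA0 : A ≠ 0 := fun h0 => hlA (h0 ▸ dvd_zero l)
  have hC0 : C ≠ 0 := fun h0 => hlC (h0 ▸ dvd_zero l)
  have hg0 : g ≠ 0 := by
    rintro rfl
    omega
  have hB0 : q ^ (m + 1) + 1 ≠ 0 := by omega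
  have k1 := (Nat.factorization_le_iff_dvd (Nat.card_pos.ne') (mul_ne_zero hA0 hB0)).2 hcardG l
  have k2 := (Nat.factorization_le_iff_dvd hB0 (mul_ne_zero hC0 hg0)).2 hgN l
  rw [Nat.factorization_mul hA0 hB0, Finsupp.add_apply, Nat.factorization_eq_zero_of_not_dvd hlA, zero_add] at k1
  rw [Nat.factorization_mul hC0 hg0, Finsupp.add_apply, Nat.factorization_eq_zero_of_not_dvd hlC, zero_add] at k2
  omega

end rk3

end Cfsg.Agent.H61.PQ
end
end

-- part: H766/PQ/NC_mg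
section
prune_inst 0x415404541456202000004858211003886ff00059000030c008c8308420108aa200900260024001005420200000004000001000020420000000a00040000050401008000042100000002000e001000400000000000020000000000000000000000200000000
set_option linter.all false
open scoped Cfsg.Agent.FastGrp

-- part: H61/PQ/PsuTwo
section
/-!
# `PSU_n(q)`, `n ≥ 3`: all pairs `{2, l}` (helper61, S4612)

* `psu_two_all`.
-/

set_option autoImplicit false
set_option linter.unusedSectionVars false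

open Cfsg Matrix

namespace Cfsg.Agent.H61.PQ

open Cfsg.Agent.H322.Cent Cfsg.Agent.H358.A3 Cfsg.Agent.LieClassical.SUBasic Module
open Cfsg.Agent.H477.HC Cfsg.Agent.H317.PQ Cfsg.Agent.H113.PSU

universe u v

theorem Same.symm' {p q : ℕ} {G : Type u} [Group G] (h : Same p q G) : Same q p G := by
  have h1 : B0 p G = B0 q G := h
  exact h1.symm

section arith2

variable {q l : ℕ}

/-- unitary primes: `l ∣ q ^ b + 1`, `b` odd minimal -/
theorem exists_b (hl : l.Prime) (hq1 : 1 ≤ q) (h : orderOf ((q : ℕ) : ZMod l) % 4 = 2) :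
    ∃ b, Odd b ∧ l ∣ q ^ b + 1 ∧ ∀ i, l ∣ (q ^ 2) ^ i - 1 ↔ b ∣ i := by
  set d := orderOf ((q : ℕ) : ZMod l) with hd
  obtain ⟨b, hb⟩ : ∃ b, d = 2 * b := ⟨d / 2, by omega⟩
  have hbo : Odd b := Nat.odd_iff.2 (by omega)
  refine ⟨b, hbo, ?_, fun i => ?_⟩
  · have h1 : l ∣ q ^ (2 * b) - 1 := by
      rw [pow_sub_one_iff hq1, ← hd, hb]
    rw [sq_sub] at h1
    refine (hl.dvd_mul.1 h1).resolve_right fun h2 => ?_
    rw [pow_sub_one_iff hq1, ← hd, hb] at h2
    have := Nat.le_of_dvd hbo.pos h2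
    have := hbo.pos
    omega
  · rw [← pow_mul, pow_sub_one_iff hq1, ← hd, hb]
    exact Nat.mul_dvd_mul_iff_left (by norm_num)

end arith2

section su

variable {K : Type u} [Field K] [Fintype K] {q : ℕ}

/-- primes not dividing the centre of `SU_n` -/
theorem not_dvd_center {n : ℕ} (hF : Fintype.card K = q ^ 2) (hn : 3 ≤ n) {l : ℕ} (hl : l.Prime)
    (h : ¬ l ∣ q + 1 ∨ ¬ l ∣ n) : ¬ l ∣ Nat.card (Subgroup.center (SU n K q)) := by
  intro h1
  have : Fact l.Prime := ⟨hl⟩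
  obtain ⟨z, hz⟩ := exists_prime_orderOf_dvd_card' l h1
  have hz1 : z ≠ 1 := by
    rintro rfl
    rw [orderOf_one] at hz
    exact hl.one_lt.ne hz
  obtain ⟨c, hcn, hcq, hc⟩ := (mem_center_SU_iff hF hn _).1 z.2
  have hpow : ∀ i : ℕ, c ^ i = 1 → z ^ i = 1 := by
    intro i hi
    apply Subtype.ext
    apply Subtype.ext
    apply Subtype.ext
    show ((z : SU n K q).1.1) ^ i = 1
    rw [hc, coe_suScalar, Matrix.diagonal_pow]
    have : (fun _ : Fin n => c) ^ i = fun _ => (1 : K) := by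
      funext j
      exact hi
    rw [this, Matrix.diagonal_one]
  have h2 := orderOf_dvd_of_pow_eq_one (hpow _ hcn)
  have h3 := orderOf_dvd_of_pow_eq_one (hpow _ hcq)
  rw [hz] at h2 h3
  rcases h with h | h
  · exact h h3
  · exact h h2

/-- `diag(τ, …, τ, τ^{-b})` -/
theorem exists_scal (hF : Fintype.card K = q ^ 2) {b : ℕ} (hb : 2 ≤ b) (τ : Kˣ) (hτ : τ ^ (q + 1) = 1) :
    ∃ a : SU (b + 1) K q, a.1.1 = bdm (k := b) (l := 1) (diagonal fun _ => (τ : K))
      (diagonal fun _ => (((τ ^ b)⁻¹ : Kˣ) : K)) ∧ orderOf a ∣ orderOf τ ∧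
      (a ∈ Subgroup.center (SU (b + 1) K q) → τ ^ (b + 1) = 1) := by
  classical
  let f : Fin (b + 1) → K := Fin.append (fun _ : Fin b => (τ : K)) (fun _ : Fin 1 => (((τ ^ b)⁻¹ : Kˣ) : K))
  have hf1 : ∀ i : Fin b, f (Fin.castAdd 1 i) = τ := fun i => Fin.append_left _ _ i
  have hf2 : ∀ i : Fin 1, f (Fin.natAdd b i) = (((τ ^ b)⁻¹ : Kˣ) : K) := fun i => Fin.append_right _ _ i
  have hprod : ∏ i, f i = 1 := by
    rw [Fin.prod_univ_add]
    simp only [hf1, hf2]
    rw [Finset.prod_const, Finset.prod_const, Finset.card_univ, Finset.card_univ, Fintype.card_fin, Fintype.card_fin,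
      pow_one, ← Units.val_pow_eq_pow_val, ← Units.val_mul, mul_inv_cancel, Units.val_one]
  have hnorm : ∀ i, f i ^ (q + 1) = 1 := by
    intro i
    refine Fin.addCases (fun i => ?_) (fun i => ?_) i
    · rw [hf1, ← Units.val_pow_eq_pow_val, hτ, Units.val_one]
    · rw [hf2, ← Units.val_pow_eq_pow_val, inv_pow, ← pow_mul, mul_comm b, pow_mul, hτ, one_pow, inv_one, Units.val_one]
  let a : SU (b + 1) K q := suDiag q f hprod hnorm
  refine ⟨a, ?_, ?_, fun ha => ?_⟩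
  · show Matrix.diagonal f = _
    ext i j
    refine Fin.addCases (fun i => ?_) (fun i => ?_) i
    · refine Fin.addCases (fun j => ?_) (fun j => ?_) j
      · rw [bdm_castAdd]
        by_cases hij : i = j
        · subst hij
          rw [diagonal_apply_eq, diagonal_apply_eq, hf1]
        · rw [diagonal_apply_ne, diagonal_apply_ne _ hij]
          exact fun e => hij (Fin.castAdd_injective b 1 e)
      · rw [diagonal_apply_ne]
        · simp [bdm]
        · intro e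
          have := congrArg Fin.val e
          simp at this
          omega
    · refine Fin.addCases (fun j => ?_) (fun j => ?_) j
      · rw [diagonal_apply_ne]
        · simp [bdm]
        · intro e
          have := congrArg Fin.val e
          simp at this
          omega
      · rw [bdm_natAdd]
        have hij : i = j := Subsingleton.elim _ _
        subst hij
        rw [diagonal_apply_eq, diagonal_apply_eq, hf2]
  · apply orderOf_dvd_of_pow_eq_one
    apply Subtype.ext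
    apply Subtype.ext
    show (Matrix.diagonal f) ^ (orderOf τ) = 1
    rw [Matrix.diagonal_pow]
    have : f ^ orderOf τ = fun _ => (1 : K) := by
      funext i
      show f i ^ orderOf τ = 1
      refine Fin.addCases (fun i => ?_) (fun i => ?_) i
      · rw [hf1, ← Units.val_pow_eq_pow_val, pow_orderOf_eq_one, Units.val_one]
      · rw [hf2, ← Units.val_pow_eq_pow_val, inv_pow, ← pow_mul, mul_comm b, pow_mul, pow_orderOf_eq_one, one_pow,
          inv_one, Units.val_one]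
    rw [this, Matrix.diagonal_one]
  · obtain ⟨c, hcn, hcq, hc⟩ := (mem_center_SU_iff hF (by omega) _).1 ha
    have h3 : ∀ i, f i = c := by
      intro i
      have h4 := congrArg (fun z : SU (b + 1) K q => z.1.1 i i) hc
      have h5 : (Matrix.diagonal f) i i = (Matrix.diagonal (fun _ => c)) i i := h4
      rwa [diagonal_apply_eq, diagonal_apply_eq] at h5
    have h4 : (τ : K) = (((τ ^ b)⁻¹ : Kˣ) : K) := by
      rw [← hf1 ⟨0, by omega⟩, ← hf2 0, h3, h3]
    have h5 : τ = (τ ^ b)⁻¹ := Units.ext h4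
    rw [pow_succ]
    nth_rewrite 2 [h5]
    exact mul_inv_cancel _

/-- elements of given order in the group of elements of norm one -/
theorem exists_unit (hF : Fintype.card K = q ^ 2) {m : ℕ} (hm : m ∣ q + 1) : ∃ τ : Kˣ, orderOf τ = m ∧ τ ^ (q + 1) = 1 := by
  have h1 : m ∣ Nat.card Kˣ := by
    rw [Nat.card_units, Nat.card_eq_fintype_card, hF]
    have h1 : q ^ 2 - 1 ^ 2 = (q + 1) * (q - 1) := Nat.sq_sub_sq q 1
    rw [one_pow] at h1
    rw [h1]
    exact Dvd.dvd.mul_right hm _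
  obtain ⟨t, ht⟩ := h1
  obtain ⟨g, hg⟩ := IsCyclic.exists_ofOrder_eq_natCard (α := Kˣ)
  have hpos : 0 < Nat.card Kˣ := Nat.card_pos
  have ht0 : t ≠ 0 := by
    rintro rfl
    rw [mul_zero] at ht
    omega
  refine ⟨g ^ t, ?_, ?_⟩
  · rw [orderOf_pow_of_dvd ht0 (by rw [hg, ht]; exact dvd_mul_left _ _), hg, ht]
    exact Nat.mul_div_cancel _ (Nat.pos_of_ne_zero ht0)
  · obtain ⟨c, hc⟩ := hm
    rw [hc, ← pow_mul, ← orderOf_dvd_iff_pow_eq_one, hg, ht]
    exact ⟨c, by ring⟩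

/-- **`PSU_n(q)`, `n ≥ 3`, `q` odd: all pairs `{2, l}`** -/
theorem psu_two_all {n : ℕ} (hF : Fintype.card K = q ^ 2) (hn : 3 ≤ n) (hqo : Odd q) {l : ℕ} (hl : l.Prime)
    (hl2 : l ≠ 2) (hlq : ¬ l ∣ q) (hd : l ∣ Nat.card (PSU n K q)) : ¬ Same 2 l (PSU n K q) := by
  classical
  rcases Nat.even_or_odd n with hne | hno
  swap
  · exact psu_two hF hn hqo (Or.inl hno) hl hl2 hlq
  rcases (by obtain ⟨t, ht⟩ := hqo; omega : q % 4 = 1 ∨ q % 4 = 3) with hq4 | hq4
  · exact psu_two hF hn hqo (Or.inr hq4) hl hl2 hlq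
  intro hS
  have hq : Nat.card K = q ^ 2 := by rw [Nat.card_eq_fintype_card, hF]
  have hq2 := CForm.two_le_of_card hq
  have h2q : ¬ 2 ∣ q := by rw [← even_iff_two_dvd]; exact Nat.not_even_iff_odd.2 hqo
  rcases Nat.decEq (orderOf ((q : ℕ) : ZMod l) % 4) 2 with h4 | h4
  · exact psu_lin hF hn hl hl2 Nat.prime_two hl2.symm hlq h2q h4 hd (Same.symm' hS)
  obtain ⟨b, hbo, hb, hbi⟩ := exists_b hl (by omega) h4
  rw [← hq] at hbi
  have hreg : ∀ i, 0 < i → i < b → ¬ l ∣ Nat.card K ^ i - 1 := by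
    intro i h0 hi h
    exact absurd (Nat.le_of_dvd h0 ((hbi i).1 h)) (by omega)
  have hPQ : PQ l 2 (PSU n K q) := PQ.of_same Nat.prime_two (Same.symm' hS)
  obtain ⟨t, ht⟩ := hne
  rcases Nat.lt_or_ge b 2 with hb2 | hb2
  · -- `l ∣ q + 1`
    have hb1 : b = 1 := by have := hbo.pos; omega
    subst hb1
    rw [pow_one] at hb
    obtain ⟨j, rfl⟩ : ∃ j, n = 2 + j := ⟨n - 2, by omega⟩
    obtain ⟨x₀, hx₀, hfp⟩ := exists_x0_two (K := K) hF hl hb
    refine su_not_PQ (n := j) hF (by omega) hqo hl hl2 hlq (su_descend hF hn (by norm_num) (by omega) hl Nat.prime_two hl2 hPQ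
      ⟨1, by rw [pow_one]; exact hx₀⟩ hfp ?_)
    rcases Nat.lt_or_ge 2 j with hj | hj
    · exact lift_of_dim hF hn hj x₀
    · intro g hg
      refine lift_of_card hl (not_dvd_center hF hn hl (Or.inr ?_)) ?_ g hg
      · intro h
        have h5 : l ∣ 2 ^ 2 := by
          have : 2 + j = 2 ^ 2 := by omega
          rwa [this] at h
        exact hl2 ((Nat.prime_dvd_prime_iff_eq hl Nat.prime_two).1 (hl.dvd_of_dvd_pow h5))
      · have h5 : (bdU (x₀, (1 : SU j K q))) ^ l = 1 := by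
          rw [← map_pow, Prod.pow_mk, one_pow, ← hx₀, pow_orderOf_eq_one]
          exact map_one _
        rcases (Nat.dvd_prime hl).1 (orderOf_dvd_of_pow_eq_one h5) with h6 | h6
        · exact ⟨0, by rw [h6, pow_zero]⟩
        · exact ⟨1, by rw [h6, pow_one]⟩
  have hl1 : ¬ l ∣ q + 1 := by
    intro h
    have h1 : l ∣ Nat.card K ^ 1 - 1 := by
      have h1 : q ^ 2 - 1 ^ 2 = (q + 1) * (q - 1) := Nat.sq_sub_sq q 1
      rw [one_pow] at h1
      rw [pow_one, hq, h1]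
      exact Dvd.dvd.mul_right h _
    exact hreg 1 one_pos hb2 h1
  have hbn : b ≤ n := by
    have hd1 : l ∣ Nat.card (SU n K q) := hd.trans (Subgroup.card_quotient_dvd_card _)
    have hd2 : l ∣ Nat.card (CForm.hermF K hq n).iso := by
      rw [Nat.card_congr (suE hq n).toEquiv] at hd1
      exact hd1.trans (Subgroup.card_subgroup_dvd_card _)
    rw [H113.PSU.Levi.card_iso hq n] at hd2
    have h3 := (hl.dvd_mul.1 hd2).resolve_left fun h => hlq (hl.dvd_of_dvd_pow h)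
    obtain ⟨i, hi, h5⟩ := (Prime.dvd_finsetProd_iff hl.prime _).1 h3
    rw [Finset.mem_range] at hi
    unfold H113.PSU.Levi.uu at h5
    split_ifs at h5 with he
    · obtain ⟨j, hj⟩ := he
      have h6 : i + 1 = 2 * j := by omega
      rw [h6, pow_mul, ← hq, hbi] at h5
      have := Nat.le_of_dvd (by omega) h5
      omega
    · have h6 : l ∣ Nat.card K ^ (i + 1) - 1 := by
        rw [hq, ← pow_mul, sq_sub]
        exact Dvd.dvd.mul_right h5 _
      have := Nat.le_of_dvd (by omega) ((hbi _).1 h6)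
      omega
  obtain ⟨x₀, hx₀, hfp⟩ := exists_x0 (K := K) hF hbo hl hlq hl1 hb hreg
  have hbt : b % 2 = 1 := Nat.odd_iff.1 hbo
  have hlift : ∀ j, 3 ≤ b + j → ∀ g : SU (b + j) K q,
      g * bdU (x₀, (1 : SU j K q)) * g⁻¹ * (bdU (x₀, (1 : SU j K q)))⁻¹ ∈ Subgroup.center _ →
      g * bdU (x₀, (1 : SU j K q)) = bdU (x₀, (1 : SU j K q)) * g := by
    intro j hj g hg
    refine lift_of_card hl (not_dvd_center hF hj hl (Or.inl hl1)) ?_ g hg
    have h5 : (bdU (x₀, (1 : SU j K q))) ^ l = 1 := by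
      rw [← map_pow, Prod.pow_mk, one_pow, ← hx₀, pow_orderOf_eq_one]
      exact map_one _
    rcases (Nat.dvd_prime hl).1 (orderOf_dvd_of_pow_eq_one h5) with h6 | h6
    · exact ⟨0, by rw [h6, pow_zero]⟩
    · exact ⟨1, by rw [h6, pow_one]⟩
  obtain ⟨j, rfl⟩ := Nat.exists_eq_add_of_le hbn
  rcases Nat.lt_or_ge j 2 with hj | hj
  · have hj1 : j = 1 := by omega
    subst hj1
    rcases Nat.decEq ((b + 1) % 4) 0 with h5 | h5
    · -- `n = 2 (mod 4)`
      obtain ⟨τ, hτ, hτ2⟩ := exists_unit (K := K) (q := q) (m := 4) hF (by omega)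
      obtain ⟨a, ha, hao, hac⟩ := exists_scal hF hb2 τ hτ2
      refine su_scalar hl Nat.prime_two hl2 hPQ ⟨1, by rw [pow_one]; exact hx₀⟩ hfp (hlift 1 hn) ha ?_ ?_
      · rw [hτ] at hao
        have h6 : orderOf a ∣ 2 ^ 2 := hao
        obtain ⟨i, -, hi⟩ := (Nat.dvd_prime_pow Nat.prime_two).1 h6
        exact ⟨i, hi⟩
      · intro h6
        have h7 := orderOf_dvd_of_pow_eq_one (hac h6)
        rw [hτ] at h7
        (clear * - h5 h7; omega)
    · exact psu_rk3 hF hqo (Nat.dvd_of_mod_eq_zero h5) (by (clear * - h5; omega)) hl hlq hl1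
        (fun i h0 hi => hreg i h0 (by (clear * - hi; omega))) hd hS
  · exact su_not_PQ (n := j) hF hj hqo hl hl2 hlq (su_descend hF hn (by omega) (by omega) hl Nat.prime_two hl2 hPQ
      ⟨1, by rw [pow_one]; exact hx₀⟩ hfp (hlift j hn))

end su

end Cfsg.Agent.H61.PQ
end

-- part: H572/PQ/PsuDiag
section
/-!
# S4612: `PSU_n(s)`, two primes dividing `s + 1` (helper572)

`E` = diagonal elements of order dividing the odd prime `p`, `B` = all diagonal elements: `C(E)` consists of monomial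
matrices, so it normalises `B` (`not_same_of_normal` of helper251).

* `psu_diag` : `p`, `l` distinct primes dividing `s + 1`, `p` odd, `n ≥ 3`: `¬ Same p l (PSU n K s)`.
-/

set_option autoImplicit false
set_option linter.unusedSectionVars false

open Cfsg Cfsg.Agent

namespace Cfsg.Agent.H572.PQ

open Cfsg.Agent.H317.PQ (Same)
open Cfsg.Agent.LieClassical.SUBasic

universe u

variable {K : Type u} [Field K] {n s : ℕ}

/-- the matrix of an element of `SU` -/
def mt (A : SU n K s) : Matrix (Fin n) (Fin n) K := ((A : Matrix.SpecialLinearGroup (Fin n) K) : Matrix (Fin n) (Fin n) K)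

theorem mt_mul (A B : SU n K s) : mt (A * B) = mt A * mt B := rfl

theorem mt_one : mt (1 : SU n K s) = 1 := rfl

theorem mt_inj {A B : SU n K s} (h : mt A = mt B) : A = B := Subtype.ext (Subtype.ext h)

theorem mt_mul_inv (A : SU n K s) : mt A * mt A⁻¹ = 1 := by rw [← mt_mul, mul_inv_cancel, mt_one]

/-- the diagonal elements -/
def Dg (n : ℕ) (K : Type u) [Field K] (s : ℕ) : Subgroup (SU n K s) where
  carrier := {A | ∃ d : Fin n → K, mt A = Matrix.diagonal d}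
  one_mem' := ⟨1, by rw [mt_one, ← Matrix.diagonal_one]; rfl⟩
  mul_mem' := by
    rintro A B ⟨a, ha⟩ ⟨b, hb⟩
    exact ⟨_, by rw [mt_mul, ha, hb, Matrix.diagonal_mul_diagonal]⟩
  inv_mem' := by
    rintro A ⟨a, ha⟩
    have h1 := mt_mul_inv A
    rw [ha] at h1
    have ha0 : ∀ i, a i ≠ 0 := by
      intro i h0
      have h2 := congrFun (congrFun h1 i) i
      rw [Matrix.diagonal_mul, h0, zero_mul, Matrix.one_apply_eq] at h2
      exact zero_ne_one h2
    refine ⟨fun i => (a i)⁻¹, ?_⟩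
    have h3 : Matrix.diagonal (fun i => (a i)⁻¹) * Matrix.diagonal a = (1 : Matrix (Fin n) (Fin n) K) := by
      rw [Matrix.diagonal_mul_diagonal, ← Matrix.diagonal_one]
      congr 1
      funext i
      exact inv_mul_cancel₀ (ha0 i)
    calc mt A⁻¹ = 1 * mt A⁻¹ := (one_mul _).symm
      _ = Matrix.diagonal (fun i => (a i)⁻¹) * (Matrix.diagonal a * mt A⁻¹) := by rw [← h3, mul_assoc]
      _ = _ := by rw [h1, mul_one]

theorem Dg_comm {A B : SU n K s} (hA : A ∈ Dg n K s) (hB : B ∈ Dg n K s) : A * B = B * A := by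
  obtain ⟨a, ha⟩ := hA
  obtain ⟨b, hb⟩ := hB
  apply mt_inj
  rw [mt_mul, mt_mul, ha, hb, Matrix.diagonal_mul_diagonal, Matrix.diagonal_mul_diagonal]
  congr 1
  funext i
  exact mul_comm _ _

/-- the diagonal elements of order dividing `p` -/
def Dp (n : ℕ) (K : Type u) [Field K] (s p : ℕ) : Subgroup (SU n K s) where
  carrier := {A | A ∈ Dg n K s ∧ A ^ p = 1}
  one_mem' := ⟨one_mem _, one_pow p⟩
  mul_mem' := by
    rintro A B ⟨hA, hA'⟩ ⟨hB, hB'⟩
    exact ⟨mul_mem hA hB, by rw [(show Commute A B from Dg_comm hA hB).mul_pow, hA', hB', one_mul]⟩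
  inv_mem' := by
    rintro A ⟨hA, hA'⟩
    exact ⟨inv_mem hA, by rw [inv_pow, hA', inv_one]⟩

/-- the element `diag(.., ω, .., ω⁻¹, ..)` -/
theorem exists_el {i j : Fin n} (hij : i ≠ j) {ω : K} (hω : ω ≠ 0) (hs : ω ^ (s + 1) = 1) :
    ∃ A : SU n K s, mt A = Matrix.diagonal (fun k => if k = i then ω else if k = j then ω⁻¹ else 1) := by
  refine ⟨suDiag s (fun k => if k = i then ω else if k = j then ω⁻¹ else 1) ?_ ?_, rfl⟩
  · rw [Finset.prod_eq_mul i j hij]
    · rw [if_pos rfl, if_neg hij.symm, if_pos rfl, mul_inv_cancel₀ hω]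
    · intro k _ hk
      rw [if_neg hk.1, if_neg hk.2]
    · intro h; exact absurd (Finset.mem_univ i) h
    · intro h; exact absurd (Finset.mem_univ j) h
  · intro k
    by_cases h1 : k = i
    · rw [if_pos h1, hs]
    · rw [if_neg h1]
      by_cases h2 : k = j
      · rw [if_pos h2, inv_pow, hs, inv_one]
      · rw [if_neg h2, one_pow]

theorem diag_pow_one {A : SU n K s} {d : Fin n → K} (hA : mt A = Matrix.diagonal d) {p : ℕ} (hd : ∀ i, d i ^ p = 1) :
    A ^ p = 1 := by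
  apply mt_inj
  have h1 : ∀ m : ℕ, mt (A ^ m) = Matrix.diagonal fun i => d i ^ m := by
    intro m
    induction m with
    | zero =>
      rw [pow_zero, mt_one, ← Matrix.diagonal_one]
      congr 1
      funext i
      rw [pow_zero]
    | succ m ih =>
      rw [pow_succ, mt_mul, ih, hA, Matrix.diagonal_mul_diagonal]
      congr 1
      funext i
      rw [pow_succ]
  rw [h1, mt_one, ← Matrix.diagonal_one]
  congr 1
  funext i
  exact hd i

/-- an element which commutes with the elements of `Dp` modulo scalars normalises `Dg` -/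
theorem conj_mem {p : ℕ} {ω : K} (hω : ω ≠ 0) (hωp : ω ^ p = 1) (hω2 : ω ^ 2 ≠ 1) (hs : ω ^ (s + 1) = 1) {g : SU n K s}
    (hg : ∀ e ∈ Dp n K s p, ∃ c : K, c ≠ 0 ∧ mt g * mt e = c • (mt e * mt g)) {d : SU n K s} (hd : d ∈ Dg n K s) :
    g * d * g⁻¹ ∈ Dg n K s := by
  classical
  obtain ⟨d, hd⟩ := hd
  -- the eigenvalue relation
  have key : ∀ i j : Fin n, i ≠ j → ∃ (e : Fin n → K) (c : K), c ≠ 0 ∧ e i ≠ e j ∧ (∀ k, e k ≠ 0) ∧
      ∀ a b, mt g a b ≠ 0 → e b = c * e a := by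
    intro i j hij
    obtain ⟨A, hA⟩ := exists_el (n := n) (s := s) hij hω hs
    have hAp : A ∈ Dp n K s p := by
      refine ⟨⟨_, hA⟩, diag_pow_one hA fun k => ?_⟩
      by_cases h1 : k = i
      · rw [if_pos h1, hωp]
      · rw [if_neg h1]
        by_cases h2 : k = j
        · rw [if_pos h2, inv_pow, hωp, inv_one]
        · rw [if_neg h2, one_pow]
    obtain ⟨c, hc, hgc⟩ := hg A hAp
    refine ⟨fun k => if k = i then ω else if k = j then ω⁻¹ else 1, c, hc, ?_, ?_, ?_⟩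
    · show (if i = i then ω else if i = j then ω⁻¹ else 1) ≠ (if j = i then ω else if j = j then ω⁻¹ else 1)
      rw [if_pos rfl, if_neg hij.symm, if_pos rfl]
      intro h
      apply hω2
      rw [pow_two]
      nth_rewrite 2 [h]
      exact mul_inv_cancel₀ hω
    · intro k
      show (if k = i then ω else if k = j then ω⁻¹ else 1) ≠ 0
      split_ifs
      · exact hω
      · exact inv_ne_zero hω
      · exact one_ne_zero
    · intro a b hab
      have h1 := congrFun (congrFun hgc a) b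
      rw [hA, Matrix.mul_diagonal, Matrix.smul_apply, Matrix.diagonal_mul, smul_eq_mul, ← mul_assoc, mul_comm _ (mt g a b)] at h1
      exact mul_left_cancel₀ hab h1
  -- rows have one nonzero entry
  have hrow : ∀ a b b', mt g a b ≠ 0 → mt g a b' ≠ 0 → b = b' := by
    intro a b b' h1 h2
    by_contra hne
    obtain ⟨e, c, -, he, -, h3⟩ := key b b' hne
    exact he ((h3 a b h1).trans (h3 a b' h2).symm)
  have hex : ∀ a, ∃ b, mt g a b ≠ 0 := by
    intro a
    by_contra hcon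
    push Not at hcon
    have h1 := congrFun (congrFun (mt_mul_inv g) a) a
    rw [Matrix.mul_apply, Matrix.one_apply_eq] at h1
    rw [Finset.sum_eq_zero fun b _ => by rw [hcon b, zero_mul]] at h1
    exact zero_ne_one h1
  choose τ hτ using hex
  refine ⟨fun a => d (τ a), ?_⟩
  have h1 : mt g * Matrix.diagonal d = Matrix.diagonal (fun a => d (τ a)) * mt g := by
    ext a b
    rw [Matrix.mul_diagonal, Matrix.diagonal_mul, mul_comm]
    by_cases h : mt g a b = 0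
    · rw [h, mul_zero, mul_zero]
    · rw [hrow a _ _ (hτ a) h]
  rw [mt_mul, mt_mul, hd, h1, mul_assoc, mt_mul_inv, mul_one]

variable [Fintype K]

/-- **`PSU_n(s)`, both primes divide `s + 1`.** -/
theorem psu_diag {p l : ℕ} (hF : Fintype.card K = s ^ 2) (hn : 3 ≤ n) (hp : p.Prime) (hp2 : p ≠ 2) (hl : l.Prime)
    (hpl : p ≠ l) (hps : p ∣ s + 1) (hls : l ∣ s + 1) : ¬ Same p l (PSU n K s) := by
  classical
  have : Finite (SU n K s) := inferInstance
  -- roots of unity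
  have hroot : ∀ {t : ℕ}, t.Prime → t ∣ s + 1 → ∃ ω : K, ω ≠ 0 ∧ ω ≠ 1 ∧ ω ^ t = 1 ∧ ω ^ (s + 1) = 1 := by
    intro t ht hts
    have : Fact t.Prime := ⟨ht⟩
    have h1 : t ∣ Nat.card Kˣ := by
      rw [Nat.card_units, Nat.card_eq_fintype_card, hF]
      have h3 : s ^ 2 - 1 ^ 2 = (s + 1) * (s - 1) := Nat.sq_sub_sq s 1
      rw [one_pow] at h3
      rw [h3]
      exact hts.mul_right _
    obtain ⟨x, hx⟩ := exists_prime_orderOf_dvd_card' (G := Kˣ) t h1
    have h2 : x ^ t = 1 := by rw [← hx, pow_orderOf_eq_one]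
    obtain ⟨m, hm⟩ := hts
    refine ⟨x, x.ne_zero, ?_, ?_, ?_⟩
    · intro h3
      have h4 : x = 1 := Units.ext h3
      rw [h4, orderOf_one] at hx
      exact ht.one_lt.ne hx
    · rw [← Units.val_pow_eq_pow_val, h2, Units.val_one]
    · rw [hm, pow_mul, ← Units.val_pow_eq_pow_val, h2, Units.val_one, one_pow]
  obtain ⟨ω, hω0, hω1, hωp, hωs⟩ := hroot hp hps
  have hω2 : ω ^ 2 ≠ 1 := by
    intro h
    obtain ⟨m, hm⟩ := hp.odd_of_ne_two hp2
    rw [hm, pow_succ, pow_mul, h, one_pow, one_mul] at hωp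
    exact hω1 hωp
  set π := QuotientGroup.mk' (Subgroup.center (SU n K s)) with hπ
  refine H251.PQ.not_same_of_normal hp hl hpl ((Dp n K s p).map π) ((Dg n K s).map π) ?_ ?_ ?_ ?_ ?_
  · rintro ⟨_, A, hA, rfl⟩
    exact ⟨1, Subtype.ext (by
      show (π A) ^ p ^ 1 = 1
      rw [pow_one, ← map_pow, hA.2, map_one])⟩
  · refine ⟨⟨?_⟩⟩
    rintro ⟨_, A, hA, rfl⟩ ⟨_, B, hB, rfl⟩
    exact Subtype.ext (by
      show π A * π B = π B * π A
      rw [← map_mul, ← map_mul, Dg_comm hA hB])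
  · exact Subgroup.map_mono fun A hA => hA.1
  · rintro c hc _ ⟨d, hd, rfl⟩
    obtain ⟨g, rfl⟩ := QuotientGroup.mk'_surjective _ c
    refine ⟨g * d * g⁻¹, conj_mem hω0 hωp hω2 hωs ?_ hd, by rw [map_mul, map_mul, map_inv]⟩
    intro e he
    have h1 : π e * π g = π g * π e := Subgroup.mem_centralizer_iff.1 hc _ ⟨e, he, rfl⟩
    have h2 : (e * g)⁻¹ * (g * e) ∈ Subgroup.center (SU n K s) := by
      rw [← QuotientGroup.eq]
      exact h1
    obtain ⟨c, hcn, hcq, h3⟩ := (mem_center_SU_iff hF hn _).1 h2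
    refine ⟨c, ?_, ?_⟩
    · rintro rfl
      rw [zero_pow (Nat.succ_ne_zero s)] at hcq
      exact zero_ne_one hcq
    · have h4 : g * e = (e * g) * suScalar s c hcn hcq := by rw [← h3]; group
      rw [← mt_mul, h4, mt_mul, mt_mul]
      show mt e * mt g * Matrix.diagonal (fun _ => c) = _
      ext a b
      rw [Matrix.mul_diagonal, Matrix.smul_apply, smul_eq_mul, mul_comm]
  · obtain ⟨η, hη0, hη1, hηl, hηs⟩ := hroot hl hls
    let i0 : Fin n := ⟨0, by omega⟩
    let i1 : Fin n := ⟨1, by omega⟩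
    let i2 : Fin n := ⟨2, by omega⟩
    have h01 : i0 ≠ i1 := fun h => by simpa [i0, i1] using congrArg Fin.val h
    have h20 : i2 ≠ i0 := fun h => by simpa [i0, i2] using congrArg Fin.val h
    have h21 : i2 ≠ i1 := fun h => by simpa [i1, i2] using congrArg Fin.val h
    obtain ⟨A, hA⟩ := exists_el (n := n) (s := s) h01 hη0 hηs
    have hA1 : A ^ l = 1 := by
      refine diag_pow_one hA fun k => ?_
      by_cases h1 : k = i0
      · rw [if_pos h1, hηl]
      · rw [if_neg h1]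
        by_cases h2 : k = i1
        · rw [if_pos h2, inv_pow, hηl, inv_one]
        · rw [if_neg h2, one_pow]
    have hA2 : A ∉ Subgroup.center (SU n K s) := by
      intro h
      obtain ⟨c, _, _, h3⟩ := (mem_center_SU_iff hF hn _).1 h
      have h4 : mt A = Matrix.diagonal fun _ => c := by rw [h3]; rfl
      rw [hA] at h4
      have h5 := congrFun (Matrix.diagonal_injective h4) i0
      have h6 := congrFun (Matrix.diagonal_injective h4) i2
      simp only [if_pos, if_neg h20, if_neg h21] at h5 h6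
      exact hη1 (h5.trans h6.symm)
    have h1 : orderOf (π A) = l := by
      rcases (Nat.dvd_prime hl).1 (orderOf_dvd_of_pow_eq_one (show (π A) ^ l = 1 by rw [← map_pow, hA1, map_one])) with h | h
      · exact absurd ((QuotientGroup.eq_one_iff A).1 (orderOf_eq_one_iff.1 h)) hA2
      · exact h
    rw [← h1]
    exact Subgroup.orderOf_dvd_natCard _ ⟨A, ⟨_, hA⟩, rfl⟩

end Cfsg.Agent.H572.PQ
end

-- part: H766/PQ/NC
section
/-!
# S4612: the classical rows from the non-core cases (helper766)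

The non-core cases (both primes odd of unitary type, `d < d'`, `d'` no odd multiple of `d`): `NCSp`, `NCOdd`, `NCPlus`,
`NCMinus`, `NCU` (here also `e = 1`).

* `row_psp`, `row_odd`, `row_plus`, `row_minus`, `row_psu`.
-/

set_option autoImplicit false
set_option linter.unusedSectionVars false

open Cfsg Cfsg.Agent

namespace Cfsg.Agent.H766.PQ

open Cfsg.Agent.H358.A3 (PQ)
open Cfsg.Agent.H317.PQ
open Cfsg.Agent.H477.HC Module Cfsg.Agent.H477.HC.CForm
open Cfsg.Agent.H61.PQ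

universe u v w

/-- symplectic groups -/
def NCSp : Prop := ∀ (K : Type) [Field K] [Finite K] (m p q d d' : ℕ), 2 ≤ m → p.Prime → q.Prime → 0 < d → d < d' →
  orderOf ((Nat.card K : ℕ) : ZMod p) = 2 * d → orderOf ((Nat.card K : ℕ) : ZMod q) = 2 * d' →
  (∀ c, Odd c → d' ≠ c * d) → p ∣ Nat.card (PSp m K) → q ∣ Nat.card (PSp m K) → ¬ Same p q (PSp m K)

/-- orthogonal groups in odd dimension -/
def NCOdd : Prop := ∀ (K : Type) [Field K] [Finite K] (m p q d d' : ℕ), Odd (Nat.card K) → 3 ≤ m → p.Prime → q.Prime →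
  0 < d → d < d' →
  orderOf ((Nat.card K : ℕ) : ZMod p) = 2 * d → orderOf ((Nat.card K : ℕ) : ZMod q) = 2 * d' →
  (∀ c, Odd c → d' ≠ c * d) → p ∣ Nat.card (POmega K (quadFormOdd m K)) →
  q ∣ Nat.card (POmega K (quadFormOdd m K)) → ¬ Same p q (POmega K (quadFormOdd m K))

/-- orthogonal groups of plus type -/
def NCPlus : Prop := ∀ (K : Type) [Field K] [Finite K] (m p q d d' : ℕ), 4 ≤ m → p.Prime → q.Prime → 0 < d → d < d' →
  orderOf ((Nat.card K : ℕ) : ZMod p) = 2 * d → orderOf ((Nat.card K : ℕ) : ZMod q) = 2 * d' →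
  (∀ c, Odd c → d' ≠ c * d) → p ∣ Nat.card (POmega K (quadFormPlus m K)) →
  q ∣ Nat.card (POmega K (quadFormPlus m K)) → ¬ Same p q (POmega K (quadFormPlus m K))

/-- orthogonal groups of minus type, dimension `2 m + 2` -/
def NCMinus : Prop := ∀ (K : Type) [Field K] [Finite K] (m p q d d' : ℕ) (a b : K), 3 ≤ m →
  (∀ z₁ z₂ : K, z₁ ^ 2 + a * z₁ * z₂ + b * z₂ ^ 2 = 0 → z₁ = 0 ∧ z₂ = 0) → p.Prime → q.Prime → 0 < d → d < d' →
  orderOf ((Nat.card K : ℕ) : ZMod p) = 2 * d → orderOf ((Nat.card K : ℕ) : ZMod q) = 2 * d' →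
  (∀ c, Odd c → d' ≠ c * d) → p ∣ Nat.card (POmega K (quadFormMinus m K a b)) →
  q ∣ Nat.card (POmega K (quadFormMinus m K a b)) → ¬ Same p q (POmega K (quadFormMinus m K a b))

/-- unitary groups: `e < e'` odd, `e = 1` or `e` does not divide `e'` -/
def NCU : Prop := ∀ (K : Type) [Field K] [Fintype K] (n s p q e e' : ℕ), Fintype.card K = s ^ 2 → 3 ≤ n → p.Prime →
  q.Prime → p ≠ 2 → Odd e → Odd e' → e < e' → orderOf ((s : ℕ) : ZMod p) = 2 * e →
  orderOf ((s : ℕ) : ZMod q) = 2 * e' →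
  (e = 1 ∨ ¬ e ∣ e') → p ∣ Nat.card (PSU n K s) → q ∣ Nat.card (PSU n K s) → ¬ Same p q (PSU n K s)

/-! ### own characteristic -/

theorem isPlusChar {r : ℕ} {K : Type} [Field K] [Fintype K] [CharP K r] {m : ℕ} (hm : 4 ≤ m) :
    IsPOmegaPlusChar r (POmega K (quadFormPlus m K)) := by
  have h : Nonempty (POmega K (quadFormPlus m K) ≃* POmega K (quadFormPlus m K)) := ⟨MulEquiv.refl _⟩
  exact ⟨K, inferInstance, inferInstance, inferInstance, m, hm, h⟩

theorem isMinusChar {r : ℕ} {K : Type} [Field K] [Fintype K] [CharP K r] {m : ℕ} (hm : 3 ≤ m) {a b : K}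
    (hab : ∀ z₁ z₂ : K, z₁ ^ 2 + a * z₁ * z₂ + b * z₂ ^ 2 = 0 → z₁ = 0 ∧ z₂ = 0) :
    IsPOmegaMinusChar r (POmega K (quadFormMinus m K a b)) := by
  have h : Nonempty (POmega K (quadFormMinus m K a b) ≃* POmega K (quadFormMinus (m + 1 - 1) K a b)) :=
    ⟨MulEquiv.refl _⟩
  exact ⟨K, inferInstance, inferInstance, inferInstance, m + 1, a, b, by omega, hab, h⟩

/-! ### the general assembly -/

/-- the assembly for `Q = |K|` (symplectic and orthogonal groups) -/
theorem row_of {G : Type v} [Group G] [Finite G] {Q r t : ℕ} (hr : r.Prime) (hQ : Q = r ^ t)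
    (own : ∀ l, l.Prime → l ≠ r → l ∣ Nat.card G → ¬ Same r l G)
    (lin : ∀ l l', l.Prime → l ≠ 2 → l'.Prime → l' ≠ l → ¬ l ∣ Q → ¬ l' ∣ Q → Odd (orderOf ((Q : ℕ) : ZMod l)) →
      l ∣ Nat.card G → ¬ Same l l' G)
    (two : ∀ q d, ¬ 2 ∣ Q → q.Prime → 0 < d → orderOf ((Q : ℕ) : ZMod q) = 2 * d → q ∣ Nat.card G → ¬ Same 2 q G)
    (core : ∀ p q d c, p.Prime → q.Prime → p ≠ q → 0 < d → Odd c → orderOf ((Q : ℕ) : ZMod p) = 2 * d →
      orderOf ((Q : ℕ) : ZMod q) = 2 * (c * d) → q ∣ Nat.card G → ¬ Same p q G)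
    (nc : ∀ p q d d', p.Prime → q.Prime → 0 < d → d < d' →
      orderOf ((Q : ℕ) : ZMod p) = 2 * d → orderOf ((Q : ℕ) : ZMod q) = 2 * d' →
      (∀ c, Odd c → d' ≠ c * d) → p ∣ Nat.card G → q ∣ Nat.card G → ¬ Same p q G) : Row G := by
  have hQ1 : 1 ≤ Q := by rw [hQ]; exact Nat.one_le_pow _ _ hr.pos
  have hown : ∀ l, l.Prime → l ∣ Q → l = r := by
    intro l hl h
    rw [hQ] at h
    exact (Nat.prime_dvd_prime_iff_eq hl hr).1 (hl.dvd_of_dvd_pow h)
  -- two odd primes not dividing `Q`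
  have hodd : ∀ p q : ℕ, p.Prime → q.Prime → p ≠ q → p ≠ 2 → q ≠ 2 → ¬ p ∣ Q → ¬ q ∣ Q → p ∣ Nat.card G →
      q ∣ Nat.card G → ¬ Same p q G := by
    intro p q hp hq hpq hp2 hq2 hpQ hqQ hpG hqG hS
    rcases Nat.even_or_odd (orderOf ((Q : ℕ) : ZMod p)) with he | ho
    · rcases Nat.even_or_odd (orderOf ((Q : ℕ) : ZMod q)) with he' | ho'
      · obtain ⟨d, hd⟩ := he
        obtain ⟨d', hd'⟩ := he'
        rw [← two_mul] at hd hd'
        have h0 := orderOf_pos' hp hpQ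
        have h0' := orderOf_pos' hq hqQ
        have hd0 : 0 < d := by omega
        have hd0' : 0 < d' := by omega
        by_cases h1 : ∃ c, Odd c ∧ d' = c * d
        · obtain ⟨c, hc, h1⟩ := h1
          exact core p q d c hp hq hpq hd0 hc hd (by rw [hd', h1]) hqG hS
        · by_cases h2 : ∃ c, Odd c ∧ d = c * d'
          · obtain ⟨c, hc, h2⟩ := h2
            exact core q p d' c hq hp hpq.symm hd0' hc hd' (by rw [hd, h2]) hpG hS.symm
          · push Not at h1 h2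
            rcases Nat.lt_trichotomy d d' with h3 | h3 | h3
            · exact nc p q d d' hp hq hd0 h3 hd hd' h1 hpG hqG hS
            · exact h1 1 odd_one (by rw [one_mul, h3])
            · exact nc q p d' d hq hp hd0' h3 hd' hd h2 hqG hpG hS.symm
      · exact lin q p hq hq2 hp hpq hqQ hpQ ho' hqG hS.symm
    · exact lin p q hp hp2 hq hpq.symm hpQ hqQ ho hpG hS
  -- `2` and an odd prime
  have htwo : ∀ q : ℕ, q.Prime → q ≠ 2 → ¬ 2 ∣ Q → ¬ q ∣ Q → q ∣ Nat.card G → ¬ Same 2 q G := by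
    intro q hq hq2 h2Q hqQ hqG hS
    rcases Nat.even_or_odd (orderOf ((Q : ℕ) : ZMod q)) with he | ho
    · obtain ⟨d, hd⟩ := he
      rw [← two_mul] at hd
      have h0 := orderOf_pos' hq hqQ
      exact two q d h2Q hq (by omega) hd hqG hS
    · exact lin q 2 hq hq2 Nat.prime_two hq2.symm hqQ h2Q ho hqG hS.symm
  intro p q hp hq hpq hpG hqG hS
  by_cases hpQ : p ∣ Q
  · rw [hown p hp hpQ] at hS hpq
    exact own q hq hpq.symm hqG hS
  by_cases hqQ : q ∣ Q
  · rw [hown q hq hqQ] at hS hpq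
    exact own p hp hpq hpG hS.symm
  by_cases hp2 : p = 2
  · subst hp2
    exact htwo q hq hpq.symm hpQ hqQ hqG hS
  by_cases hq2 : q = 2
  · subst hq2
    exact htwo p hp hpq hqQ hpQ hpG hS.symm
  exact hodd p q hp hq hpq hp2 hq2 hpQ hqQ hpG hqG hS

/-- **`PSp_{2m}`** -/
theorem row_psp (T1 : TOne.{0}) (hNC : NCSp) {K : Type} [Field K] [Fintype K] {m : ℕ} (hm : 2 ≤ m)
    (hmK : m = 2 → 3 ≤ Fintype.card K) : Row (PSp m K) := by
  obtain ⟨r, hr, hrK⟩ := exists_char_prime (K := K)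
  have : Fact r.Prime := ⟨hr⟩
  obtain ⟨t, ht⟩ := H477.HC.card_pow K r
  refine row_of hr ht ?_ ?_ ?_ ?_ ?_
  · intro l hl hlr hlG
    exact H947.PQ.row_own hr hl hlr (Or.inr (Or.inl ⟨K, _, _, hrK, m, hm, hmK, ⟨MulEquiv.refl _⟩⟩)) hlG
  · intro l l' hl hl2 hl' hne hlQ hl'Q ho hlG
    exact psp_lin hl hl2 hl' hne hlQ hl'Q ho hlG
  · intro q d h2 hq hd0 hd hqG
    refine psp_two_unit T1 ?_ hm hq hd0 hd hqG
    rwa [← Nat.not_even_iff_odd, even_iff_two_dvd]
  · intro p q d c hp hq hpq hd0 hc hd hd' hqG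
    exact not_same_of_PQ hp (psp_core hq hp hpq.symm hd0 hc hd' hd hqG)
  · intro p q d d' hp hq hd0 hdd hd hd' hc hpG hqG
    exact hNC K m p q d d' hm hp hq hd0 hdd hd hd' hc hpG hqG

/-- **`PΩ_{2m+1}`** -/
theorem row_odd (hNC : NCOdd) {K : Type} [Field K] [Fintype K] {m : ℕ} (hm : 3 ≤ m)
    (ho : Odd (Nat.card K)) : Row (POmega K (quadFormOdd m K)) := by
  obtain ⟨r, hr, hrK⟩ := exists_char_prime (K := K)
  have : Fact r.Prime := ⟨hr⟩
  obtain ⟨t, ht⟩ := H477.HC.card_pow K r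
  refine row_of hr ht ?_ ?_ ?_ ?_ ?_
  · intro l hl hlr hlG
    exact H947.PQ.row_own hr hl hlr (Or.inr (Or.inr (Or.inr (Or.inl ⟨K, _, _, hrK, m, hm,
      by rwa [← Nat.card_eq_fintype_card], ⟨MulEquiv.refl _⟩⟩)))) hlG
  · intro l l' hl hl2 hl' hne hlQ hl'Q hodd hlG
    exact odd_lin ho hm hl hl2 hl' hne hlQ hl'Q hodd hlG
  · intro q d h2 hq hd0 hd hqG
    exact odd_two ho hm hq (ne_two_of_order hd0 hd) (not_dvd_of_order hq hd0 hd)
  · intro p q d c hp hq hpq hd0 hc hd hd' hqG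
    exact not_same_of_PQ hp (odd_core ho hm hq hp hpq.symm hd0 hc hd' hd hqG)
  · intro p q d d' hp hq hd0 hdd hd hd' hc hpG hqG
    exact hNC K m p q d d' ho hm hp hq hd0 hdd hd hd' hc hpG hqG

/-- **`PΩ⁺_{2m}`** -/
theorem row_plus (T2 : TTwo.{0}) (R5 : RFive.{0}) (hNC : NCPlus) {K : Type} [Field K] [Fintype K] {m : ℕ}
    (hm : 4 ≤ m) : Row (POmega K (quadFormPlus m K)) := by
  obtain ⟨r, hr, hrK⟩ := exists_char_prime (K := K)
  have : Fact r.Prime := ⟨hr⟩
  obtain ⟨t, ht⟩ := H477.HC.card_pow K r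
  refine row_of hr ht ?_ ?_ ?_ ?_ ?_
  · intro l hl hlr hlG
    exact H947.PQ.row_own hr hl hlr (Or.inr (Or.inr (Or.inr (Or.inr (Or.inl (isPlusChar hm)))))) hlG
  · intro l l' hl hl2 hl' hne hlQ hl'Q hodd hlG
    exact plus_lin hm hl hl2 hl' hne hlQ hl'Q hodd hlG
  · intro q d h2 hq hd0 hd hqG
    refine plus_two_unit T2 R5 ?_ hm hq hd0 hd hqG
    rwa [← Nat.not_even_iff_odd, even_iff_two_dvd]
  · intro p q d c hp hq hpq hd0 hc hd hd' hqG
    exact not_same_of_PQ hp (plus_core hm hq hp hpq.symm hd0 hc hd' hd hqG)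
  · intro p q d d' hp hq hd0 hdd hd hd' hc hpG hqG
    exact hNC K m p q d d' hm hp hq hd0 hdd hd hd' hc hpG hqG

/-- **`PΩ⁻_{2m+2}`** -/
theorem row_minus (hNC : NCMinus) {K : Type} [Field K] [Fintype K] {m : ℕ} (hm : 3 ≤ m) {a b : K}
    (hab : ∀ z₁ z₂ : K, z₁ ^ 2 + a * z₁ * z₂ + b * z₂ ^ 2 = 0 → z₁ = 0 ∧ z₂ = 0) :
    Row (POmega K (quadFormMinus m K a b)) := by
  obtain ⟨r, hr, hrK⟩ := exists_char_prime (K := K)
  have : Fact r.Prime := ⟨hr⟩
  obtain ⟨t, ht⟩ := H477.HC.card_pow K r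
  refine row_of hr ht ?_ ?_ ?_ ?_ ?_
  · intro l hl hlr hlG
    exact H947.PQ.row_own hr hl hlr (Or.inr (Or.inr (Or.inr (Or.inr (Or.inr (Or.inl (isMinusChar hm hab))))))) hlG
  · intro l l' hl hl2 hl' hne hlQ hl'Q hodd hlG
    exact minus_lin hm hab hl hl2 hl' hne hlQ hl'Q hodd hlG
  · intro q d h2 hq hd0 hd hqG
    refine minus_two_unit ?_ hm hab hq hd0 hd hqG
    rwa [← Nat.not_even_iff_odd, even_iff_two_dvd]
  · intro p q d c hp hq hpq hd0 hc hd hd' hqG
    exact not_same_of_PQ hp (minus_core hm hab hq hp hpq.symm hd0 hc hd' hd hqG)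
  · intro p q d d' hp hq hd0 hdd hd hd' hc hpG hqG
    exact hNC K m p q d d' a b hm hab hp hq hd0 hdd hd hd' hc hpG hqG

/-- **`PSU_n`** -/
theorem row_psu (hNC : NCU) {K : Type} [Field K] [Fintype K] {n s : ℕ} (hF : Fintype.card K = s ^ 2) (hn : 3 ≤ n)
    (hns : ¬ (n = 3 ∧ s = 2)) : Row (PSU n K s) := by
  obtain ⟨r, hr, hrK⟩ := exists_char_prime (K := K)
  have : Fact r.Prime := ⟨hr⟩
  have hs : Nat.card K = s ^ 2 := by rw [Nat.card_eq_fintype_card, hF]
  have hs2 := CForm.two_le_of_card hs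
  have hs1 : 1 ≤ s := by omega
  obtain ⟨t, ht⟩ : ∃ b, s = r ^ b := by
    obtain ⟨a, ha⟩ := H477.HC.card_pow K r
    have h1 : s ∣ r ^ a := ⟨s, by rw [← ha, hs, sq]⟩
    obtain ⟨b, -, hb⟩ := (Nat.dvd_prime_pow hr).1 h1
    exact ⟨b, hb⟩
  have own : ∀ l, l.Prime → l ≠ r → l ∣ Nat.card (PSU n K s) → ¬ Same r l (PSU n K s) := by
    intro l hl hlr hlG
    exact H947.PQ.row_own hr hl hlr (Or.inr (Or.inr (Or.inl ⟨K, _, _, hrK, n, s, hF, hn, hns,
      ⟨MulEquiv.refl _⟩⟩))) hlG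
  have hown : ∀ l, l.Prime → l ∣ s → l = r := by
    intro l hl h
    rw [ht] at h
    exact (Nat.prime_dvd_prime_iff_eq hl hr).1 (hl.dvd_of_dvd_pow h)
  -- the unitary primes
  have hu : ∀ {l : ℕ}, orderOf ((s : ℕ) : ZMod l) % 4 = 2 → ∃ e, Odd e ∧ orderOf ((s : ℕ) : ZMod l) = 2 * e := by
    intro l h
    exact ⟨orderOf ((s : ℕ) : ZMod l) / 2, by rw [Nat.odd_iff]; omega, by omega⟩
  have hnc : ∀ p q e e' : ℕ, p.Prime → q.Prime → p ≠ q → p ≠ 2 → Odd e → Odd e' → e < e' →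
      orderOf ((s : ℕ) : ZMod p) = 2 * e → orderOf ((s : ℕ) : ZMod q) = 2 * e' → p ∣ Nat.card (PSU n K s) →
      q ∣ Nat.card (PSU n K s) → ¬ Same p q (PSU n K s) := by
    intro p q e e' hp hq hpq hp2 he he' hee ho ho' hpG hqG
    by_cases h1 : e = 1
    · exact hNC K n s p q e e' hF hn hp hq hp2 he he' hee ho ho' (Or.inl h1) hpG hqG
    by_cases h2 : e ∣ e'
    · obtain ⟨c, rfl⟩ := h2
      have hc : Odd c := by
        rw [Nat.odd_mul] at he'
        exact he'.2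
      have h3 : 1 < e := by
        have := he.pos
        omega
      exact not_same_of_PQ hp (psu_core hF hn hq hp hpq.symm he h3 hc (by rw [ho', mul_comm e c]) ho hqG)
    · exact hNC K n s p q e e' hF hn hp hq hp2 he he' hee ho ho' (Or.inr h2) hpG hqG
  have hodd : ∀ p q : ℕ, p.Prime → q.Prime → p ≠ q → p ≠ 2 → q ≠ 2 → ¬ p ∣ s → ¬ q ∣ s →
      p ∣ Nat.card (PSU n K s) → q ∣ Nat.card (PSU n K s) → ¬ Same p q (PSU n K s) := by
    intro p q hp hq hpq hp2 hq2 hps hqs hpG hqG hS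
    by_cases h4 : orderOf ((s : ℕ) : ZMod p) % 4 = 2
    · by_cases h4' : orderOf ((s : ℕ) : ZMod q) % 4 = 2
      · obtain ⟨e, he, ho⟩ := hu h4
        obtain ⟨e', he', ho'⟩ := hu h4'
        rcases Nat.lt_trichotomy e e' with h3 | h3 | h3
        · exact hnc p q e e' hp hq hpq hp2 he he' h3 ho ho' hpG hqG hS
        · subst h3
          by_cases h1 : e = 1
          · subst h1
            have h5 : ∀ l : ℕ, l.Prime → orderOf ((s : ℕ) : ZMod l) = 2 * 1 → l ∣ s + 1 := by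
              intro l hl ho
              have := dvd_pow_add_one hl hs1 one_pos ho
              rwa [pow_one] at this
            exact H572.PQ.psu_diag hF hn hp hp2 hq hpq (h5 p hp ho) (h5 q hq ho') hS
          · have h3 : 1 < e := by
              have := he.pos
              (clear * - h4' ho' h1; omega)
            exact not_same_of_PQ hp (psu_core hF hn hq hp hpq.symm he h3 odd_one (by rw [ho', one_mul]) ho hqG) hS
        · exact hnc q p e' e hq hp hpq.symm hq2 he' he h3 ho' ho hqG hpG hS.symm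
      · exact psu_lin hF hn hq hq2 hp hpq hqs hps h4' hqG hS.symm
    · exact psu_lin hF hn hp hp2 hq hpq.symm hps hqs h4 hpG hS
  intro p q hp hq hpq hpG hqG hS
  by_cases hpQ : p ∣ s
  · rw [hown p hp hpQ] at hS hpq
    exact own q hq hpq.symm hqG hS
  by_cases hqQ : q ∣ s
  · rw [hown q hq hqQ] at hS hpq
    exact own p hp hpq hpG hS.symm
  by_cases hp2 : p = 2
  · subst hp2
    have h2 : Odd s := by rwa [← Nat.not_even_iff_odd, even_iff_two_dvd]
    exact psu_two_all hF hn h2 hq hpq.symm hqQ hqG hS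
  by_cases hq2 : q = 2
  · subst hq2
    have h2 : Odd s := by rwa [← Nat.not_even_iff_odd, even_iff_two_dvd]
    exact psu_two_all hF hn h2 hp hpq hpQ hpG hS.symm
  exact hodd p q hp hq hpq hp2 hq2 hpQ hqQ hpG hqG hS

end Cfsg.Agent.H766.PQ
end

-- part: H47/DP/Num
section
/-!
# S4612: the numbers of the Hecke test (helper47)
-/

set_option autoImplicit false
set_option linter.unusedSectionVars false

namespace Cfsg.Agent.H47.DP

section

variable {p : ℕ} {Y : ℕ → ℕ}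

theorem rhs_bound (hp : p.Prime) {J : Finset ℕ} {i τ : ℕ} (h1 : ∀ j ∈ J, j ≠ i → ¬ p ∣ Y j) (h2 : ¬ p ^ (τ + 1) ∣ Y i) :
    ¬ p ^ (τ + 1) ∣ ∏ j ∈ J, Y j := by
  classical
  intro h
  by_cases hi : i ∈ J
  · rw [← Finset.mul_prod_erase J Y hi] at h
    have h3 : Nat.Coprime (p ^ (τ + 1)) (∏ j ∈ J.erase i, Y j) := by
      refine Nat.Coprime.pow_left _ (Nat.Coprime.prod_right fun j hj => ?_)
      rw [Finset.mem_erase] at hj
      exact (Nat.Prime.coprime_iff_not_dvd hp).2 (h1 j hj.2 hj.1)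
    exact h2 (h3.dvd_of_dvd_mul_right h)
  · have h3 : p ∣ ∏ j ∈ J, Y j := (Dvd.intro_left _ (pow_succ p τ).symm).trans h
    obtain ⟨j, hj, h4⟩ := (Prime.dvd_finsetProd_iff hp.prime _).1 h3
    exact h1 j hj (fun h5 => hi (h5 ▸ hj)) h4

theorem lhs_two {X : ℕ → ℕ} {T : Finset ℕ} {i j τ : ℕ} (hi : i ∈ T) (hj : j ∈ T) (hij : i ≠ j) (h1 : p ^ τ ∣ X i)
    (h2 : p ^ τ ∣ X j) (hτ : 1 ≤ τ) : p ^ (τ + 1) ∣ ∏ j ∈ T, X j := by
  classical
  have h3 : X i * X j ∣ ∏ j ∈ T, X j := by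
    rw [← Finset.prod_pair hij]
    refine Finset.prod_dvd_prod_of_subset _ _ _ ?_
    intro x hx
    rw [Finset.mem_insert, Finset.mem_singleton] at hx
    rcases hx with rfl | rfl
    · exact hi
    · exact hj
  refine dvd_trans ?_ h3
  refine dvd_trans ?_ (mul_dvd_mul h1 h2)
  rw [← pow_add]
  exact pow_dvd_pow _ (by omega)

end

/-- the conclusion of the Hecke test -/
def HT (p q m : ℕ) (X Y Z : ℕ → ℕ) : Prop :=
  ∀ u ≤ m, ∀ J : Finset ℕ, (∀ j, j ∈ J ↔ (1 ≤ j ∧ j ≤ u) ∧ q ∣ Z j) →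
    ∀ k, p ^ k ∣ ∏ j ∈ Finset.Icc 1 u \ J, X j → p ^ k ∣ ∏ j ∈ J, Y j

theorem num_core {p q m P P' u₀ τ : ℕ} {X Y : ℕ → ℕ} (hp : p.Prime) (hq : q.Prime)
    (hHT : HT p q m X Y fun j => Y j * X j) (hPP : P < P')
    (hYp : ∀ j, p ∣ Y j → P ∣ j) (hYq : ∀ j, q ∣ Y j ↔ P' ∣ j)
    (hY1 : ¬ p ^ (τ + 1) ∣ Y P) (hY2 : ¬ p ^ (τ + 1) ∣ Y (2 * P)) (hτ : 1 ≤ τ)
    (hXp : ∀ j, j ≤ m → (P : ℤ) ∣ (j : ℤ) - u₀ → p ^ τ ∣ X j)
    (hXq : q ∣ X u₀ → ∀ j, 1 ≤ j → j ≤ m → (q ∣ X j ↔ (P' : ℤ) ∣ (j : ℤ) - u₀))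
    (hu1 : 1 ≤ u₀) (huP : u₀ ≤ P) (hum : u₀ ≤ m)
    (hcom : q ∣ X u₀ → u₀ + 2 * P ≤ m ∧ ¬ P' ∣ P ∧ ¬ P' ∣ 2 * P ∧ ¬ P' ∣ 3 * P ∧ ¬ P' ∣ 4 * P) : False := by
  classical
  have hpτ : p ∣ p ^ τ := dvd_pow_self p (by omega)
  by_cases h0 : q ∣ X u₀
  · obtain ⟨hm, n1, n2, n3, n4⟩ := hcom h0
    have z1 : ¬ (P' : ℤ) ∣ P := fun h => n1 (Int.natCast_dvd_natCast.1 h)
    have z2 : ¬ (P' : ℤ) ∣ 2 * P := fun h => n2 (Int.natCast_dvd_natCast.1 (by push_cast; exact h))
    have z3 : ¬ (P' : ℤ) ∣ 3 * P := fun h => n3 (Int.natCast_dvd_natCast.1 (by push_cast; exact h))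
    have z4 : ¬ (P' : ℤ) ∣ 4 * P := fun h => n4 (Int.natCast_dvd_natCast.1 (by push_cast; exact h))
    have hD : ∀ j, 1 ≤ j → j ≤ m → (q ∣ Y j * X j ↔ (P' : ℤ) ∣ j ∨ (P' : ℤ) ∣ (j : ℤ) - u₀) := by
      intro j h1 h2
      rw [hq.dvd_mul, hYq, hXq h0 j h1 h2, Int.natCast_dvd_natCast]
    obtain ⟨J, hJd⟩ : ∃ J, J = (Finset.Icc 1 (u₀ + 2 * P)).filter (fun j => q ∣ Y j * X j) := ⟨_, rfl⟩
    have hJ : ∀ j, j ∈ J ↔ (1 ≤ j ∧ j ≤ u₀ + 2 * P) ∧ q ∣ Y j * X j := fun j => by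
      rw [hJd, Finset.mem_filter, Finset.mem_Icc]
    have hH := hHT _ hm J hJ
    have hJ' : ∀ j ∈ J, (P' : ℤ) ∣ j ∨ (P' : ℤ) ∣ (j : ℤ) - u₀ := fun j hj => by
      have h1 := (hJ j).1 hj
      exact (hD j h1.1.1 (h1.1.2.trans hm)).1 h1.2
    have hnJ : ∀ j, 1 ≤ j → j ≤ u₀ + 2 * P → ¬ ((P' : ℤ) ∣ j ∨ (P' : ℤ) ∣ (j : ℤ) - u₀) →
        j ∈ Finset.Icc 1 (u₀ + 2 * P) \ J := fun j h1 h2 h3 => by
      rw [Finset.mem_sdiff, Finset.mem_Icc]
      exact ⟨⟨h1, h2⟩, fun h => h3 (hJ' j h)⟩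
    have e1 : p ^ τ ∣ X (u₀ + P) := hXp _ (by omega) ⟨1, by push_cast; ring⟩
    have e2 : p ^ τ ∣ X (u₀ + 2 * P) := hXp _ (by omega) ⟨2, by push_cast; ring⟩
    -- multiples of `P` in `J`
    have hmul : ∀ j ∈ J, p ∣ Y j → j = P ∨ j = 2 * P ∨ (u₀ = P ∧ j = 3 * P) := by
      intro j hj h
      obtain ⟨c, rfl⟩ := hYp j h
      obtain ⟨⟨h1, h2⟩, -⟩ := (hJ _).1 hj
      have hc0 : c ≠ 0 := by rintro rfl; rw [mul_zero] at h1; omega
      have hc4 : c < 4 := by
        by_contra hc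
        have := Nat.mul_le_mul_left P (not_lt.1 hc)
        omega
      interval_cases c
      · exact absurd rfl hc0
      · exact Or.inl (mul_one P)
      · exact Or.inr (Or.inl (mul_comm P 2))
      · exact Or.inr (Or.inr ⟨by omega, mul_comm P 3⟩)
    by_cases hu : u₀ = P
    · subst hu
      refine rhs_bound (Y := Y) hp (i := u₀) (fun j hj hne h => ?_) hY1 (hH (τ + 1)
        (lhs_two (hnJ (u₀ + u₀) (by omega) (by omega) ?_) (hnJ (u₀ + 2 * u₀) (by omega) le_rfl ?_) (by omega) e1 e2 hτ))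
      · rcases hmul j hj h with rfl | rfl | ⟨-, rfl⟩
        · exact hne rfl
        · rcases hJ' _ hj with h1 | h1
          · exact z2 (by push_cast at h1; exact h1)
          · exact z1 (by push_cast at h1; have : (2 : ℤ) * u₀ - u₀ = u₀ := by ring
                         rwa [this] at h1)
        · rcases hJ' _ hj with h1 | h1
          · exact z3 (by push_cast at h1; exact h1)
          · exact z2 (by push_cast at h1; have : (3 : ℤ) * u₀ - u₀ = 2 * u₀ := by ring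
                         rwa [this] at h1)
      · rintro (h1 | h1)
        · exact z2 (by push_cast at h1; rwa [← two_mul] at h1)
        · exact z1 (by push_cast at h1; rwa [add_sub_cancel_right] at h1)
      · rintro (h1 | h1)
        · exact z3 (by push_cast at h1; have : (u₀ : ℤ) + 2 * u₀ = 3 * u₀ := by ring
                       rwa [this] at h1)
        · exact z2 (by push_cast at h1; rwa [add_sub_cancel_left] at h1)
    · have hlt : u₀ < P := lt_of_le_of_ne huP hu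
      have hPJ : ¬ P ∈ J := by
        intro h
        rcases hJ' _ h with h1 | h1
        · exact z1 h1
        · have h2 : ((P : ℤ) - u₀) = ((P - u₀ : ℕ) : ℤ) := by omega
          rw [h2, Int.natCast_dvd_natCast] at h1
          have := Nat.le_of_dvd (by omega) h1
          omega
      by_cases h2 : (P' : ℤ) ∣ 2 * P - u₀
      · refine rhs_bound (Y := Y) hp (i := 2 * P) (fun j hj hne h => ?_) hY2 (hH (τ + 1)
          (lhs_two (hnJ (u₀ + P) (by omega) (by omega) ?_) (hnJ (u₀ + 2 * P) (by omega) le_rfl ?_) (by omega) e1 e2 hτ))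
        · rcases hmul j hj h with rfl | rfl | ⟨h3, -⟩
          · exact hPJ hj
          · exact hne rfl
          · exact hu h3
        · rintro (h1 | h1)
          · exact z3 (by
              have := dvd_add h1 h2
              push_cast at this
              have e : (u₀ : ℤ) + P + (2 * P - u₀) = 3 * P := by ring
              rwa [e] at this)
          · exact z1 (by push_cast at h1; rwa [add_sub_cancel_left] at h1)
        · rintro (h1 | h1)
          · exact z4 (by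
              have := dvd_add h1 h2
              push_cast at this
              have e : (u₀ : ℤ) + 2 * P + (2 * P - u₀) = 4 * P := by ring
              rwa [e] at this)
          · exact z2 (by push_cast at h1; rwa [add_sub_cancel_left] at h1)
      · have hno : ¬ p ∣ ∏ j ∈ J, Y j := by
          intro h
          obtain ⟨j, hj, h4⟩ := (Prime.dvd_finsetProd_iff hp.prime _).1 h
          rcases hmul j hj h4 with rfl | rfl | ⟨h3, -⟩
          · exact hPJ hj
          · rcases hJ' _ hj with h1 | h1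
            · exact z2 (by push_cast at h1; exact h1)
            · exact h2 (by push_cast at h1; exact h1)
          · exact hu h3
        apply hno
        have h3 := hH 1
        rw [pow_one] at h3
        apply h3
        by_cases h4 : (P' : ℤ) ∣ ((u₀ + P : ℕ) : ℤ)
        · refine (hpτ.trans e2).trans (Finset.dvd_prod_of_mem _ (hnJ (u₀ + 2 * P) (by omega) le_rfl ?_))
          rintro (h1 | h1)
          · exact z1 (by
              have := dvd_sub h1 h4
              push_cast at this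
              have e : (u₀ : ℤ) + 2 * P - (u₀ + P) = P := by ring
              rwa [e] at this)
          · exact z2 (by push_cast at h1; rwa [add_sub_cancel_left] at h1)
        · refine (hpτ.trans e1).trans (Finset.dvd_prod_of_mem _ (hnJ (u₀ + P) (by omega) (by omega) ?_))
          rintro (h1 | h1)
          · exact h4 h1
          · exact z1 (by push_cast at h1; rwa [add_sub_cancel_left] at h1)
  · obtain ⟨J, hJd⟩ : ∃ J, J = (Finset.Icc 1 u₀).filter (fun j => q ∣ Y j * X j) := ⟨_, rfl⟩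
    have hJ : ∀ j, j ∈ J ↔ (1 ≤ j ∧ j ≤ u₀) ∧ q ∣ Y j * X j := fun j => by
      rw [hJd, Finset.mem_filter, Finset.mem_Icc]
    have hnu : u₀ ∉ J := by
      intro h
      rcases hq.dvd_mul.1 ((hJ _).1 h).2 with h1 | h1
      · have := Nat.le_of_dvd (by omega) ((hYq _).1 h1)
        omega
      · exact h0 h1
    have hH := hHT _ hum J hJ 1
    rw [pow_one] at hH
    have h1 := hH ((hpτ.trans (hXp u₀ hum ⟨0, by ring⟩)).trans
      (Finset.dvd_prod_of_mem _ (Finset.mem_sdiff.2 ⟨Finset.mem_Icc.2 ⟨hu1, le_rfl⟩, hnu⟩)))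
    obtain ⟨j, hj, h4⟩ := (Prime.dvd_finsetProd_iff hp.prime _).1 h1
    obtain ⟨⟨h5, h6⟩, -⟩ := (hJ _).1 hj
    have h7 := Nat.le_of_dvd (by omega) (hYp j h4)
    have h8 : j = u₀ := by omega
    exact hnu (h8 ▸ hj)

end Cfsg.Agent.H47.DP
end

-- part: H47/DP/NumQ
section
/-!
# S4612: the numbers of the Hecke test for the classical groups (helper47)
-/

set_option autoImplicit false
set_option linter.unusedSectionVars false

namespace Cfsg.Agent.H47.DP

section basic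

variable {p x : ℕ}

theorem ord_pos (hp : p.Prime) (hx : ¬ p ∣ x) : 0 < orderOf ((x : ℕ) : ZMod p) := by
  have : Fact p.Prime := ⟨hp⟩
  have h0 : ((x : ℕ) : ZMod p) ≠ 0 := by rwa [Ne, ZMod.natCast_eq_zero_iff]
  rw [← Units.val_mk0 h0, orderOf_units]
  exact orderOf_pos _

theorem not_dvd_of_ord (hp : p.Prime) (h : 0 < orderOf ((x : ℕ) : ZMod p)) : ¬ p ∣ x := by
  intro h1
  have : Fact p.Prime := ⟨hp⟩
  have h0 : ((x : ℕ) : ZMod p) = 0 := (ZMod.natCast_eq_zero_iff _ _).2 h1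
  have h2 := pow_orderOf_eq_one ((x : ℕ) : ZMod p)
  rw [h0] at h2 h
  rw [zero_pow h.ne'] at h2
  exact zero_ne_one h2

theorem dvd_sub_one_iff (hx : 1 ≤ x) (i : ℕ) : p ∣ x ^ i - 1 ↔ orderOf ((x : ℕ) : ZMod p) ∣ i := by
  rw [orderOf_dvd_iff_pow_eq_one, ← ZMod.natCast_eq_zero_iff, Nat.cast_sub (Nat.one_le_pow _ _ hx), Nat.cast_pow,
    Nat.cast_one, sub_eq_zero]

theorem dvd_add_one (i : ℕ) : p ∣ x ^ i + 1 ↔ ((x : ℕ) : ZMod p) ^ i = -1 := by
  rw [← ZMod.natCast_eq_zero_iff, Nat.cast_add, Nat.cast_pow, Nat.cast_one, add_eq_zero_iff_eq_neg]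

theorem dvd_add_one_iff (hp : p.Prime) (hx : ¬ p ∣ x) {a b : ℕ} (ha : p ∣ x ^ a + 1) :
    p ∣ x ^ b + 1 ↔ (orderOf ((x : ℕ) : ZMod p) : ℤ) ∣ (b : ℤ) - a := by
  have : Fact p.Prime := ⟨hp⟩
  have h0 : ((x : ℕ) : ZMod p) ≠ 0 := by rwa [Ne, ZMod.natCast_eq_zero_iff]
  rw [dvd_add_one] at ha ⊢
  rw [← ha, ← Units.val_mk0 h0, orderOf_units, ← Units.val_pow_eq_pow_val, ← Units.val_pow_eq_pow_val, Units.val_inj,
    pow_eq_pow_iff_modEq, Nat.ModEq.comm, Nat.modEq_iff_dvd]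

theorem not_both (hp : p.Prime) (hp2 : p ≠ 2) (hx : 1 ≤ x) {a : ℕ} (ha : p ∣ x ^ a + 1) : ¬ p ∣ x ^ a - 1 := by
  intro h
  have h5 : x ^ a + 1 = (x ^ a - 1) + 2 := by
    have := Nat.one_le_pow a x hx
    omega
  rw [h5] at ha
  exact hp2 ((Nat.prime_dvd_prime_iff_eq hp Nat.prime_two).1 ((Nat.dvd_add_right h).1 ha))

theorem sq_sub' (a : ℕ) : x ^ (2 * a) - 1 = (x ^ a - 1) * (x ^ a + 1) := by
  have h := Nat.sq_sub_sq (x ^ a) 1
  rw [one_pow, ← pow_mul, mul_comm a 2] at h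
  rw [h, mul_comm]

theorem pow_dvd_add_one (hp : p.Prime) (hp2 : p ≠ 2) (hx : 1 ≤ x) {τ : ℕ}
    (hτ : p ^ τ ∣ x ^ orderOf ((x : ℕ) : ZMod p) - 1) {a : ℕ} (ha : p ∣ x ^ a + 1) : p ^ τ ∣ x ^ a + 1 := by
  have h1 : p ∣ x ^ (2 * a) - 1 := by rw [sq_sub']; exact Dvd.dvd.mul_left ha _
  obtain ⟨c, hc⟩ := (dvd_sub_one_iff hx _).1 h1
  have h2 : p ^ τ ∣ x ^ (2 * a) - 1 := by
    refine hτ.trans ?_
    rw [hc, pow_mul]
    simpa only [_root_.one_pow] using Nat.sub_dvd_pow_sub_pow (x ^ orderOf ((x : ℕ) : ZMod p)) 1 c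
  rw [sq_sub'] at h2
  exact (Nat.Coprime.pow_left τ ((Nat.Prime.coprime_iff_not_dvd hp).2 (not_both hp hp2 hx ha))).dvd_of_dvd_mul_left h2

/-- the exact power -/
theorem exists_tau (hp : p.Prime) (hx : 2 ≤ x) (hpx : ¬ p ∣ x) : ∃ τ, 1 ≤ τ ∧
    p ^ τ ∣ x ^ orderOf ((x : ℕ) : ZMod p) - 1 ∧ ¬ p ^ (τ + 1) ∣ x ^ orderOf ((x : ℕ) : ZMod p) - 1 := by
  have h0 := ord_pos hp hpx
  have h1 : x ^ orderOf ((x : ℕ) : ZMod p) - 1 ≠ 0 := by
    have := Nat.one_lt_pow h0.ne' hx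
    omega
  obtain ⟨τ, a', ha', h2⟩ := Nat.exists_eq_pow_mul_and_not_dvd h1 p hp.one_lt.ne'
  refine ⟨τ, ?_, ⟨a', h2⟩, ?_⟩
  · by_contra h
    have h3 : τ = 0 := by omega
    rw [h3, pow_zero, one_mul] at h2
    exact ha' (h2 ▸ (dvd_sub_one_iff (by omega) _).2 dvd_rfl)
  · intro h
    rw [h2, pow_succ] at h
    exact ha' (Nat.dvd_of_mul_dvd_mul_left (pow_pos hp.pos _) h)

theorem gn_dvd (hp : p.Prime) {Q : ℕ} (hQ : 1 ≤ Q) (hp1 : ¬ p ∣ Q - 1) (k j : ℕ) : p ^ k ∣ gn Q j ↔ p ^ k ∣ Q ^ j - 1 := by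
  rw [← gn_mul Q j hQ]
  constructor
  · intro h; exact Dvd.dvd.mul_right h _
  · intro h
    exact (Nat.Coprime.pow_left k ((Nat.Prime.coprime_iff_not_dvd hp).2 hp1)).dvd_of_dvd_mul_right h

/-- `Y P` and `Y (2P)` -/
theorem gn_not_dvd (hp : p.Prime) (hp2 : p ≠ 2) {Q P τ : ℕ} (hQ : 1 ≤ Q) (hp1 : ¬ p ∣ Q - 1)
    (h : ¬ p ^ (τ + 1) ∣ Q ^ P - 1) (hP : p ∣ Q ^ P - 1) : ¬ p ^ (τ + 1) ∣ gn Q P ∧ ¬ p ^ (τ + 1) ∣ gn Q (2 * P) := by
  refine ⟨by rwa [gn_dvd hp hQ hp1], ?_⟩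
  rw [gn_dvd hp hQ hp1, sq_sub']
  intro h1
  have h2 : ¬ p ∣ Q ^ P + 1 := fun h3 => not_both hp hp2 hQ h3 hP
  exact h ((Nat.Coprime.pow_left (τ + 1) ((Nat.Prime.coprime_iff_not_dvd hp).2 h2)).dvd_of_dvd_mul_right h1)

theorem add_one_of_ord (hp : p.Prime) {d : ℕ} (hd : orderOf ((x : ℕ) : ZMod p) = 2 * d) (hd0 : 0 < d) :
    p ∣ x ^ d + 1 := by
  have : Fact p.Prime := ⟨hp⟩
  rw [dvd_add_one]
  have h1 : ((x : ℕ) : ZMod p) ^ (2 * d) = 1 := by rw [← hd]; exact pow_orderOf_eq_one _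
  rw [mul_comm, pow_mul] at h1
  rcases sq_eq_sq_iff_eq_or_eq_neg.1 (h1.trans (one_pow 2).symm) with h | h
  · exfalso
    have h2 := orderOf_dvd_of_pow_eq_one h
    rw [hd] at h2
    have := Nat.le_of_dvd hd0 h2
    omega
  · exact h

/-- two odd multiples -/
theorem common {d d' a a' : ℕ} (hd : 0 < d) (hlt : d < d') (ha : Odd a) (ha' : Odd a') (h : d * a = d' * a')
    (hno : ∀ c, Odd c → d' ≠ d * c) : 5 * d ≤ d * a ∧ 2 ≤ d ∧ ¬ d' ∣ d ∧ ¬ d' ∣ 2 * d ∧ ¬ d' ∣ 3 * d ∧ ¬ d' ∣ 4 * d := by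
  have ha'3 : 3 ≤ a' := by
    obtain ⟨c, rfl⟩ := ha'
    rcases Nat.eq_zero_or_pos c with rfl | hc
    · exfalso
      exact hno a ha (by rw [h]; ring)
    · omega
  have hlt' : a' < a := by
    by_contra hcon
    have h1 := Nat.mul_le_mul_left d (not_lt.1 hcon)
    have h2 : d * a' < d' * a' := Nat.mul_lt_mul_of_pos_right hlt (by omega)
    omega
  have ha5 : 5 ≤ a := by
    obtain ⟨c, rfl⟩ := ha
    obtain ⟨c', rfl⟩ := ha'
    omega
  -- `i d = d' c` gives `i a' = ... `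
  have key : ∀ i c : ℕ, i * d = d' * c → c * a = i * a' := by
    intro i c h1
    have h2 : d * (c * a) = d * (i * a') := by
      calc d * (c * a) = c * (d * a) := by ring
        _ = c * (d' * a') := by rw [h]
        _ = (d' * c) * a' := by ring
        _ = (i * d) * a' := by rw [h1]
        _ = d * (i * a') := by ring
    exact Nat.eq_of_mul_eq_mul_left hd h2
  have hclt : ∀ i c : ℕ, 0 < i → i * d = d' * c → c < i := by
    intro i c hi h1
    by_contra hcon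
    have h2 : d' * i ≤ d' * c := Nat.mul_le_mul_left _ (not_lt.1 hcon)
    have h3 : i * d < d' * i := by rw [mul_comm d' i]; exact Nat.mul_lt_mul_of_pos_left hlt hi
    omega
  obtain ⟨s, hs⟩ := ha
  obtain ⟨s', hs'⟩ := ha'
  refine ⟨?_, ?_, ?_, ?_, ?_, ?_⟩
  · rw [mul_comm 5 d]
    exact Nat.mul_le_mul_left _ ha5
  · by_contra h1
    have h2 : d = 1 := by omega
    subst h2
    rw [one_mul] at h
    have h3 : Odd (d' * a') := ⟨s, by omega⟩
    exact hno d' (Nat.odd_mul.1 h3).1 (by rw [one_mul])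
  · rintro ⟨c, hc⟩
    have h1 := hclt 1 c one_pos (by rw [one_mul]; exact hc)
    have h2 : c = 0 := by omega
    rw [h2, mul_zero] at hc
    omega
  · rintro ⟨c, hc⟩
    have h1 := hclt 2 c two_pos hc
    have h2 := key 2 c hc
    interval_cases c
    · omega
    · omega
  · rintro ⟨c, hc⟩
    have h1 := hclt 3 c (by norm_num) hc
    have h2 := key 3 c hc
    interval_cases c
    · omega
    · exact hno 3 ⟨1, rfl⟩ (by omega)
    · omega
  · rintro ⟨c, hc⟩
    have h1 := hclt 4 c (by norm_num) hc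
    have h2 := key 4 c hc
    interval_cases c <;> (clear * - hd hc hs h2; omega)

/-- the odd multiples -/
theorem dvd_add_one_mul (hp : p.Prime) {d : ℕ} (hd : orderOf ((x : ℕ) : ZMod p) = 2 * d) (hd0 : 0 < d) {t : ℕ}
    (h : p ∣ x ^ t + 1) : ∃ a, Odd a ∧ t = d * a := by
  have hx : ¬ p ∣ x := not_dvd_of_ord hp (by omega)
  have h1 := (dvd_add_one_iff hp hx (add_one_of_ord hp hd hd0)).1 h
  rw [hd] at h1
  obtain ⟨c, hc⟩ := h1
  have h2 : 0 ≤ c := by
    by_contra h3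
    push_cast at hc
    have h4 : c ≤ -1 := by omega
    have h5 : (2 : ℤ) * d * c ≤ 2 * d * (-1) := mul_le_mul_of_nonneg_left h4 (by positivity)
    omega
  obtain ⟨n, rfl⟩ := Int.eq_ofNat_of_zero_le h2
  refine ⟨2 * n + 1, ⟨n, rfl⟩, ?_⟩
  push_cast at hc
  have h3 : (t : ℤ) = d * (2 * n + 1) := by linear_combination hc
  exact_mod_cast h3

end basic

section main

variable {p q : ℕ}

/-- **symplectic groups, orthogonal groups in odd dimension or of minus type** -/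
theorem num_quad {Q m e d d' : ℕ} (hp : p.Prime) (hq : q.Prime) (hp2 : p ≠ 2) (hQ : 2 ≤ Q)
    (hd : orderOf ((Q : ℕ) : ZMod p) = 2 * d) (hd' : orderOf ((Q : ℕ) : ZMod q) = 2 * d') (hd0 : 0 < d)
    (hlt : d < d') (hno : ∀ c, Odd c → d' ≠ d * c) (he1 : 1 ≤ e) (he2 : e ≤ 2)
    (hex : ∃ j, 1 ≤ j ∧ j ≤ m ∧ p ∣ Q ^ (m - j + e) + 1)
    (h : HT p q m (fun j => Q ^ e * Q ^ (m - j) + 1) (gn Q) fun j => gn Q j * (Q ^ e * Q ^ (m - j) + 1)) : False := by
  have hpQ : ¬ p ∣ Q := not_dvd_of_ord hp (by omega)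
  have hqQ : ¬ q ∣ Q := not_dvd_of_ord hq (by omega)
  have hX : ∀ j, Q ^ e * Q ^ (m - j) + 1 = Q ^ (m - j + e) + 1 := fun j => by rw [← pow_add, add_comm e]
  have hp1 : ¬ p ∣ Q - 1 := by
    intro h1
    have := (dvd_sub_one_iff (p := p) (x := Q) (by omega) 1).1 (by rwa [pow_one])
    rw [hd] at this
    have := Nat.le_of_dvd one_pos this
    omega
  have hq1 : ¬ q ∣ Q - 1 := by
    intro h1
    have := (dvd_sub_one_iff (p := q) (x := Q) (by omega) 1).1 (by rwa [pow_one])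
    rw [hd'] at this
    have := Nat.le_of_dvd one_pos this
    omega
  obtain ⟨τ, hτ1, hτ, hτ'⟩ := exists_tau hp hQ hpQ
  -- the first `j`
  classical
  obtain ⟨u₀, ⟨hu1, hum, hu⟩, hmin⟩ : ∃ u, (1 ≤ u ∧ u ≤ m ∧ p ∣ Q ^ (m - u + e) + 1) ∧
      ∀ j < u, ¬ (1 ≤ j ∧ j ≤ m ∧ p ∣ Q ^ (m - j + e) + 1) :=
    ⟨Nat.find hex, Nat.find_spec hex, fun j hj => Nat.find_min hex hj⟩
  have hexp : ∀ j, j ≤ m → ((m - j + e : ℕ) : ℤ) - ((m - u₀ + e : ℕ) : ℤ) = -((j : ℤ) - u₀) := by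
    intro j hj
    omega
  have hYp := gn_not_dvd hp hp2 (Q := Q) (P := 2 * d) (τ := τ) (by omega) hp1 (by rwa [hd] at hτ')
    (by rw [dvd_sub_one_iff (by omega), hd])
  refine num_core (P := 2 * d) (P' := 2 * d') (u₀ := u₀) (τ := τ) hp hq h (by omega) (fun j hj => ?_) (fun j => ?_) hYp.1
    hYp.2 hτ1 (fun j hj hdv => ?_) (fun hqu j h1 h2 => ?_) hu1 ?_ hum (fun hqu => ?_)
  · have h1 := (gn_dvd hp (by omega) hp1 1 j).1 (by rwa [pow_one])
    rw [pow_one, dvd_sub_one_iff (by omega), hd] at h1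
    exact h1
  · have h1 := gn_dvd hq (Q := Q) (by omega) hq1 1 j
    rw [pow_one] at h1
    rw [h1, dvd_sub_one_iff (by omega), hd']
  · rw [hX]
    refine pow_dvd_add_one hp hp2 (by omega) hτ ?_
    rw [dvd_add_one_iff hp hpQ hu, hexp j hj, dvd_neg, hd]
    exact hdv
  · rw [hX]
    have hqu' : q ∣ Q ^ e * Q ^ (m - u₀) + 1 := hqu
    rw [hX] at hqu'
    rw [dvd_add_one_iff hq hqQ hqu', hexp j h2, dvd_neg, hd']
  · by_contra hcon
    have h1 : p ∣ Q ^ (m - (u₀ - 2 * d) + e) + 1 := by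
      rw [dvd_add_one_iff hp hpQ hu, hd]
      exact ⟨1, by push_cast; (clear * - hum hcon; omega)⟩
    exact hmin (u₀ - 2 * d) (by omega) ⟨by omega, by omega, h1⟩
  · have hqu' : q ∣ Q ^ e * Q ^ (m - u₀) + 1 := hqu
    rw [hX] at hqu'
    obtain ⟨a, ha, h1⟩ := dvd_add_one_mul hp hd hd0 hu
    obtain ⟨a', ha', h2⟩ := dvd_add_one_mul hq hd' (by omega) hqu'
    obtain ⟨h3, h4, h5, h6, h7, h8⟩ := common hd0 hlt ha ha' (h1.symm.trans h2) hno
    refine ⟨by (clear * - he2 h1 h3 h4; omega), ?_, ?_, ?_, ?_⟩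
    · exact fun h => h5 (Nat.dvd_of_mul_dvd_mul_left two_pos h)
    · exact fun h => h6 (Nat.dvd_of_mul_dvd_mul_left two_pos h)
    · intro h
      have e1 : 3 * (2 * d) = 2 * (3 * d) := by ring
      rw [e1] at h
      exact h7 (Nat.dvd_of_mul_dvd_mul_left two_pos h)
    · intro h
      have e1 : 4 * (2 * d) = 2 * (4 * d) := by ring
      rw [e1] at h
      exact h8 (Nat.dvd_of_mul_dvd_mul_left two_pos h)

end main

end Cfsg.Agent.H47.DP
end

-- part: H47/DP/NumU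
section
/-!
# S4612: the numbers of the Hecke test for the unitary groups and for `Ω⁺` (helper47)
-/

set_option autoImplicit false
set_option linter.unusedSectionVars false

namespace Cfsg.Agent.H47.DP

variable {p q : ℕ}

/-- **unitary groups**, `d ≠ 1` -/
theorem num_uni {s m f d d' : ℕ} (hp : p.Prime) (hq : q.Prime) (hp2 : p ≠ 2) (hs : 2 ≤ s)
    (hd : orderOf ((s : ℕ) : ZMod p) = 2 * d) (hd' : orderOf ((s : ℕ) : ZMod q) = 2 * d') (hd1 : 1 < d)
    (hod : Odd d) (hlt : d < d') (hno : ¬ d ∣ d') (hf : f ≤ 1)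
    (hex : ∃ j, 1 ≤ j ∧ j ≤ m ∧ p ∣ s ^ (2 * (m - j) + (2 * f + 1)) + 1)
    (h : HT p q m (fun j => s ^ (2 * f + 1) * (s ^ 2) ^ (m - j) + 1) (gn (s ^ 2))
      fun j => gn (s ^ 2) j * (s ^ (2 * f + 1) * (s ^ 2) ^ (m - j) + 1)) : False := by
  have hps : ¬ p ∣ s := not_dvd_of_ord hp (by omega)
  have hqs : ¬ q ∣ s := not_dvd_of_ord hq (by omega)
  have hX : ∀ j, s ^ (2 * f + 1) * (s ^ 2) ^ (m - j) + 1 = s ^ (2 * (m - j) + (2 * f + 1)) + 1 := fun j => by
    rw [← pow_mul, ← pow_add, add_comm (2 * f + 1)]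
  have hs2 : 1 ≤ s ^ 2 := Nat.one_le_pow _ _ (by omega)
  have hp1 : ¬ p ∣ s ^ 2 - 1 := by
    intro h1
    rw [dvd_sub_one_iff (by omega), hd] at h1
    have := Nat.le_of_dvd two_pos h1
    omega
  have hq1 : ¬ q ∣ s ^ 2 - 1 := by
    intro h1
    rw [dvd_sub_one_iff (by omega), hd'] at h1
    have := Nat.le_of_dvd two_pos h1
    omega
  obtain ⟨τ, hτ1, hτ, hτ'⟩ := exists_tau hp hs hps
  classical
  obtain ⟨u₀, ⟨hu1, hum, hu⟩, hmin⟩ : ∃ u, (1 ≤ u ∧ u ≤ m ∧ p ∣ s ^ (2 * (m - u) + (2 * f + 1)) + 1) ∧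
      ∀ j < u, ¬ (1 ≤ j ∧ j ≤ m ∧ p ∣ s ^ (2 * (m - j) + (2 * f + 1)) + 1) :=
    ⟨Nat.find hex, Nat.find_spec hex, fun j hj => Nat.find_min hex hj⟩
  have hexp : ∀ j, j ≤ m → ((2 * (m - j) + (2 * f + 1) : ℕ) : ℤ) - ((2 * (m - u₀) + (2 * f + 1) : ℕ) : ℤ) =
      2 * (-((j : ℤ) - u₀)) := by
    intro j hj
    push_cast [Nat.cast_sub hj, Nat.cast_sub hum]
    ring
  have h2d : ∀ (c : ℕ) (z : ℤ), ((2 * c : ℕ) : ℤ) ∣ 2 * -z ↔ (c : ℤ) ∣ z := by
    intro c z
    push_cast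
    rw [mul_dvd_mul_iff_left (two_ne_zero), dvd_neg]
  have hYp := gn_not_dvd hp hp2 (Q := s ^ 2) (P := d) (τ := τ) hs2 hp1 (by rwa [← pow_mul, ← hd])
    (by rw [← pow_mul, dvd_sub_one_iff (by omega), hd])
  refine num_core (P := d) (P' := d') (u₀ := u₀) (τ := τ) hp hq h hlt (fun j hj => ?_) (fun j => ?_) hYp.1
    hYp.2 hτ1 (fun j hj hdv => ?_) (fun hqu j h1 h2 => ?_) hu1 ?_ hum (fun hqu => ?_)
  · have h1 := (gn_dvd hp hs2 hp1 1 j).1 (by rwa [pow_one])
    rw [pow_one, ← pow_mul, dvd_sub_one_iff (by omega), hd] at h1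
    exact Nat.dvd_of_mul_dvd_mul_left two_pos h1
  · have h1 := gn_dvd hq hs2 hq1 1 j
    rw [pow_one] at h1
    rw [h1, ← pow_mul, dvd_sub_one_iff (by omega), hd', Nat.mul_dvd_mul_iff_left two_pos]
  · rw [hX]
    refine pow_dvd_add_one hp hp2 (by omega) hτ ?_
    rw [dvd_add_one_iff hp hps hu, hexp j hj, hd, h2d]
    exact hdv
  · rw [hX]
    have hqu' : q ∣ s ^ (2 * f + 1) * (s ^ 2) ^ (m - u₀) + 1 := hqu
    rw [hX] at hqu'
    rw [dvd_add_one_iff hq hqs hqu', hexp j h2, hd', h2d]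
  · by_contra hcon
    have h1 : p ∣ s ^ (2 * (m - (u₀ - d)) + (2 * f + 1)) + 1 := by
      rw [dvd_add_one_iff hp hps hu, hd]
      exact ⟨1, by push_cast; (clear * - hum hcon; omega)⟩
    exact hmin (u₀ - d) (by omega) ⟨by omega, by omega, h1⟩
  · have hqu' : q ∣ s ^ (2 * f + 1) * (s ^ 2) ^ (m - u₀) + 1 := hqu
    rw [hX] at hqu'
    obtain ⟨a, ha, h1⟩ := dvd_add_one_mul hp hd (by omega) hu
    obtain ⟨a', ha', h2⟩ := dvd_add_one_mul hq hd' (by omega) hqu'
    obtain ⟨h3, h4, h5, h6, h7, h8⟩ := common (by omega) hlt ha ha' (h1.symm.trans h2)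
      (fun c _ h => hno ⟨c, h⟩)
    obtain ⟨r, hr⟩ := hod
    exact ⟨by (clear * - hd1 hf h1 h3; omega), h5, h6, h7, h8⟩

/-! ### orthogonal groups of plus type -/

/-- `m = d' + k`, `k < d < d'` -/
theorem num_plus {Q m d d' k : ℕ} (hp : p.Prime) (hq : q.Prime) (hQ : 2 ≤ Q)
    (hd : orderOf ((Q : ℕ) : ZMod p) = 2 * d) (hd' : orderOf ((Q : ℕ) : ZMod q) = 2 * d')
    (hlt : d < d') (hk : 1 ≤ k) (hkd : k < d) (hm : m = d' + k)
    (h : HT p q m (fun j => Q ^ (m - j) + 1) (gn Q) fun j => gn Q j * (Q ^ (m - j) + 1) * ((Q ^ j + 1) * gn Q (m - j))) :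
    False := by
  classical
  have hpQ : ¬ p ∣ Q := not_dvd_of_ord hp (by omega)
  have hqQ : ¬ q ∣ Q := not_dvd_of_ord hq (by omega)
  have hp1 : ¬ p ∣ Q - 1 := by
    intro h1
    have := (dvd_sub_one_iff (p := p) (x := Q) (by omega) 1).1 (by rwa [pow_one])
    rw [hd] at this
    have := Nat.le_of_dvd one_pos this
    omega
  have hq1 : ¬ q ∣ Q - 1 := by
    intro h1
    have := (dvd_sub_one_iff (p := q) (x := Q) (by omega) 1).1 (by rwa [pow_one])
    rw [hd'] at this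
    have := Nat.le_of_dvd one_pos this
    omega
  have hgp : ∀ j, p ∣ gn Q j ↔ 2 * d ∣ j := by
    intro j
    have h1 := gn_dvd hp (Q := Q) (by omega) hp1 1 j
    rw [pow_one] at h1
    rw [h1, dvd_sub_one_iff (by omega), hd]
  have hgq : ∀ j, q ∣ gn Q j ↔ 2 * d' ∣ j := by
    intro j
    have h1 := gn_dvd hq (Q := Q) (by omega) hq1 1 j
    rw [pow_one] at h1
    rw [h1, dvd_sub_one_iff (by omega), hd']
  have hqX : ∀ t, 0 < t → t < 2 * d' → q ∣ Q ^ t + 1 → t = d' := by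
    intro t h0 h1 h2
    obtain ⟨a, ⟨c, rfl⟩, rfl⟩ := dvd_add_one_mul hq hd' (by omega) h2
    rcases Nat.eq_zero_or_pos c with rfl | hc
    · ring
    · exfalso
      have := Nat.mul_le_mul_left d' (show 3 ≤ 2 * c + 1 by omega)
      omega
  obtain ⟨J, hJd⟩ : ∃ J, J = (Finset.Icc 1 (m - d)).filter
      (fun j => q ∣ gn Q j * (Q ^ (m - j) + 1) * ((Q ^ j + 1) * gn Q (m - j))) := ⟨_, rfl⟩
  have hJ : ∀ j, j ∈ J ↔ (1 ≤ j ∧ j ≤ m - d) ∧ q ∣ gn Q j * (Q ^ (m - j) + 1) * ((Q ^ j + 1) * gn Q (m - j)) :=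
    fun j => by rw [hJd, Finset.mem_filter, Finset.mem_Icc]
  have hJk : ∀ j ∈ J, j = k := by
    intro j hj
    obtain ⟨⟨h1, h2⟩, h3⟩ := (hJ j).1 hj
    rcases hq.dvd_mul.1 h3 with h4 | h4
    · rcases hq.dvd_mul.1 h4 with h5 | h5
      · have := Nat.le_of_dvd (by omega) ((hgq j).1 h5)
        omega
      · have := hqX _ (by omega) (by omega) h5
        omega
    · rcases hq.dvd_mul.1 h4 with h5 | h5
      · have := hqX _ (by omega) (by omega) h5
        omega
      · have := Nat.le_of_dvd (by omega) ((hgq _).1 h5)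
        (clear * - hlt hkd hm this; omega)
  have hH := h (m - d) (by omega) J hJ 1
  rw [pow_one] at hH
  have h1 : p ∣ ∏ j ∈ J, gn Q j := by
    apply hH
    have h2 : m - d ∈ Finset.Icc 1 (m - d) \ J := by
      rw [Finset.mem_sdiff, Finset.mem_Icc]
      exact ⟨⟨by omega, le_rfl⟩, fun h3 => by have := hJk _ h3; omega⟩
    refine dvd_trans ?_ (Finset.dvd_prod_of_mem _ h2)
    have e1 : m - (m - d) = d := by omega
    rw [e1]
    exact add_one_of_ord hp hd (by omega)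
  obtain ⟨j, hj, h4⟩ := (Prime.dvd_finsetProd_iff hp.prime _).1 h1
  have h5 := hJk j hj
  have h6 := Nat.le_of_dvd (by omega) ((hgp j).1 h4)
  omega

/-- `d = 1` -/
theorem num_plus1 {Q m d' : ℕ} (hp : p.Prime) (hq : q.Prime) (hQ : 2 ≤ Q) (hd : p ∣ Q + 1)
    (hd' : orderOf ((Q : ℕ) : ZMod q) = 2 * d') (hd'0 : 0 < d') (he : Even d') (hm : 4 ≤ m) (hc : Even m ∨ d' ≠ 2)
    (h : HT p q m (fun j => Q ^ (m - j) + 1) (gn Q) fun j => gn Q j * (Q ^ (m - j) + 1) * ((Q ^ j + 1) * gn Q (m - j))) :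
    False := by
  classical
  have hqQ : ¬ q ∣ Q := not_dvd_of_ord hq (by omega)
  have hq1 : ¬ q ∣ Q - 1 := by
    intro h1
    have := (dvd_sub_one_iff (p := q) (x := Q) (by omega) 1).1 (by rwa [pow_one])
    rw [hd'] at this
    have := Nat.le_of_dvd one_pos this
    omega
  have hgq : ∀ j, q ∣ gn Q j → 2 ∣ j := by
    intro j h0
    have h1 := gn_dvd hq (Q := Q) (by omega) hq1 1 j
    rw [pow_one] at h1
    rw [h1, dvd_sub_one_iff (by omega), hd'] at h0
    exact (Dvd.intro _ rfl).trans h0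
  have hev : ∀ t, q ∣ Q ^ t + 1 → 2 ∣ t := by
    intro t h0
    obtain ⟨a, -, rfl⟩ := dvd_add_one_mul hq hd' hd'0 h0
    exact (even_iff_two_dvd.1 he).mul_right a
  have hpX : ∀ t, ¬ 2 ∣ t → p ∣ Q ^ t + 1 := by
    intro t ht
    rw [dvd_add_one]
    have h3 : p ∣ Q ^ 1 + 1 := by rwa [pow_one]
    rw [dvd_add_one, pow_one] at h3
    rw [h3]
    exact Odd.neg_one_pow (Nat.odd_iff.2 (by omega))
  by_cases hme : Even m
  · have h1 := h 1 (by omega) ∅ (fun j => ?_) 1 ?_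
    · rw [pow_one, Finset.prod_empty] at h1
      exact hp.one_lt.ne' (Nat.dvd_one.1 h1)
    · constructor
      · intro h2; exact absurd h2 (Finset.notMem_empty _)
      · rintro ⟨⟨h2, h3⟩, h4⟩
        exfalso
        obtain ⟨c, hc⟩ := hme
        have h5 : j = 1 := by omega
        subst h5
        rcases hq.dvd_mul.1 h4 with h6 | h6
        · rcases hq.dvd_mul.1 h6 with h7 | h7
          · have := hgq _ h7
            omega
          · have := hev _ h7
            omega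
        · rcases hq.dvd_mul.1 h6 with h7 | h7
          · have := hev _ h7
            omega
          · have := hgq _ h7
            omega
    · rw [pow_one]
      obtain ⟨c, hc⟩ := hme
      exact (hpX (m - 1) (by omega)).trans
        (Finset.dvd_prod_of_mem (fun j => Q ^ (m - j) + 1) (by simp : (1 : ℕ) ∈ Finset.Icc 1 1 \ ∅))
  · have hd'2 := hc.resolve_left hme
    rw [Nat.not_even_iff_odd] at hme
    obtain ⟨c, hc'⟩ := hme
    obtain ⟨b, hb⟩ := he
    have h2J : ¬ q ∣ gn Q 2 * (Q ^ (m - 2) + 1) * ((Q ^ 2 + 1) * gn Q (m - 2)) := by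
      intro h4
      rcases hq.dvd_mul.1 h4 with h6 | h6
      · rcases hq.dvd_mul.1 h6 with h7 | h7
        · have h1 := gn_dvd hq (Q := Q) (by omega) hq1 1 2
          rw [pow_one] at h1
          rw [h1, dvd_sub_one_iff (by omega), hd'] at h7
          have := Nat.le_of_dvd two_pos h7
          omega
        · have := hev _ h7
          omega
      · rcases hq.dvd_mul.1 h6 with h7 | h7
        · obtain ⟨a, ha, h8⟩ := dvd_add_one_mul hq hd' hd'0 h7
          have h9 : d' ∣ 2 := ⟨a, h8⟩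
          have := Nat.le_of_dvd two_pos h9
          omega
        · have := hgq _ h7
          omega
    obtain ⟨J, hJd⟩ : ∃ J, J = (Finset.Icc 1 2).filter
        (fun j => q ∣ gn Q j * (Q ^ (m - j) + 1) * ((Q ^ j + 1) * gn Q (m - j))) := ⟨_, rfl⟩
    have hJ : ∀ j, j ∈ J ↔ (1 ≤ j ∧ j ≤ 2) ∧ q ∣ gn Q j * (Q ^ (m - j) + 1) * ((Q ^ j + 1) * gn Q (m - j)) :=
      fun j => by rw [hJd, Finset.mem_filter, Finset.mem_Icc]
    have hH := h 2 (by omega) J hJ 1
    rw [pow_one] at hH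
    have h2 : (2 : ℕ) ∈ Finset.Icc 1 2 \ J := by
      rw [Finset.mem_sdiff, Finset.mem_Icc]
      exact ⟨⟨by norm_num, le_rfl⟩, fun h3 => h2J ((hJ 2).1 h3).2⟩
    have h3 := hH ((hpX (m - 2) (by omega)).trans (Finset.dvd_prod_of_mem (fun j => Q ^ (m - j) + 1) h2))
    obtain ⟨j, hj, h4⟩ := (Prime.dvd_finsetProd_iff hp.prime _).1 h3
    have h5 := (hJ j).1 hj
    have h6 : j = 1 := by
      rcases Nat.lt_or_ge j 2 with h | h
      · omega
      · have h7 : j = 2 := by omega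
        subst h7
        exact absurd h5.2 h2J
    subst h6
    rw [gn_one] at h4
    exact hp.one_lt.ne' (Nat.dvd_one.1 h4)

end Cfsg.Agent.H47.DP
end

-- part: H47/DP/Main
section
/-!
# S4612: the Hecke test for the classical groups (helper47)
-/

set_option autoImplicit false
set_option linter.unusedSectionVars false

open Cfsg

namespace Cfsg.Agent.H47.DP

open Cfsg.Agent.H477.HC Cfsg.Agent.H477.HC.CForm Cfsg.Agent.H53.HC Module Cfsg.Agent.H317.PQ
open Polynomial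

universe u v w

variable {K : Type u} [Field K] {V : Type v} [AddCommGroup V] [Module K V] [FiniteDimensional K V] {F : CForm K V}

theorem exists_act {S : Type w} [Group S] {N : Subgroup F.iso} (f : N →* S) (hf : Function.Surjective f)
    (hker : ∀ z ∈ f.ker, ∃ a : K, ∀ v, ((z : F.iso) : V ≃ₗ[K] V) v = a • v) (m : ℕ) :
    ∃ _ : MulAction S (F.Om m), Act F m N f := by
  have h1 : f.ker ≤ ((omHom F m).comp N.subtype).ker := by
    intro z hz
    obtain ⟨a, ha⟩ := hker z hz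
    rw [MonoidHom.mem_ker]
    apply Equiv.ext
    intro M
    apply Subtype.ext
    change (omHom F m (z : F.iso) M).1 = M.1
    rw [omHom_val]
    refine Submodule.eq_of_le_of_finrank_eq ?_ (LinearEquiv.finrank_map_eq ((z : F.iso) : V ≃ₗ[K] V) _)
    rintro _ ⟨x, hx, rfl⟩
    have h2 : (F.iso.subtype (z : F.iso) : V →ₗ[K] V) x = a • x := ha x
    rw [h2]
    exact M.1.smul_mem _ hx
  let ψ : S →* Equiv.Perm (F.Om m) := (f.liftOfSurjective hf) ⟨(omHom F m).comp N.subtype, h1⟩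
  have hψ : ∀ n : N, ψ (f n) = omHom F m n := fun n =>
    MonoidHom.liftOfRightInverse_comp_apply f _ (Function.rightInverse_surjInv hf) ⟨(omHom F m).comp N.subtype, h1⟩ n
  let _ := MulAction.compHom (F.Om m) ψ
  refine ⟨MulAction.compHom (F.Om m) ψ, hf, fun n => ?_⟩
  apply Equiv.ext
  intro M
  change ψ (f n) M = _
  rw [hψ]

variable {m E : ℕ}

section

variable [Finite V] [Finite K]

theorem ht_of {p q : ℕ} (hp : p.Prime) (hq : q.Prime) [Fintype (F.Om m)] {S : Type w} [Group S] [Fintype S]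
    [MulAction S (F.Om m)] (hP : Pol F m E) {N : Subgroup F.iso} {φ : N →* S} (hA : Act F m N φ)
    (hpq : B0 p S ⊆ B0 q S) {Z : ℕ → ℕ} (hs : ∀ j, 1 ≤ j → j ≤ m → ¬ q ∣ Z j →
      Sep q (fnRep S (F.Om m)) (op (adjm F m)) (th (Nat.card K) m E j) (th (Nat.card K) m E 0)) :
    HT p q m (fun j => E * Nat.card K ^ (m - j) + 1) (gn (Nat.card K)) Z := by
  intro u hu J hJ k hk
  refine hecke hp hq hP hA.adj hpq hu (J := J) (fun j hj => ?_) (fun j hj hjJ => ?_) hk
  · rw [Finset.mem_Icc]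
    exact ((hJ j).1 hj).1
  · rw [Finset.mem_Icc] at hj
    exact hs j hj.1 (hj.2.trans hu) fun h => hjJ ((hJ j).2 ⟨hj, h⟩)

variable {q : ℕ}

theorem not_dvd_cT (hq : q.Prime) (hqK : ¬ q ∣ Nat.card K) (hq1 : ¬ q ∣ Nat.card K - 1) (m : ℕ) :
    ¬ (q : ℤ) ∣ cT K m := by
  unfold cT
  rw [Int.natCast_dvd_natCast, hq.dvd_mul]
  rintro (h | h)
  · exact hq1 h
  · exact hqK (hq.dvd_of_dvd_pow h)

theorem not_dvd_sub (hq1 : ¬ q ∣ Nat.card K - 1) : ¬ (q : ℤ) ∣ (Nat.card K : ℤ) - 1 := by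
  have h : ((Nat.card K : ℤ) - 1) = ((Nat.card K - 1 : ℕ) : ℤ) := by
    have : 0 < Nat.card K := Nat.card_pos
    omega
  rw [h, Int.natCast_dvd_natCast]
  exact hq1

theorem not_dvd_cP (hq : q.Prime) (hqK : ¬ q ∣ Nat.card K) (hq1 : ¬ q ∣ Nat.card K - 1) (m : ℕ) :
    ¬ (q : ℤ) ∣ cP K m := by
  have hqp : Prime (q : ℤ) := Nat.prime_iff_prime_int.1 hq
  have h0 : ¬ (q : ℤ) ∣ (Nat.card K : ℤ) ^ (m - 1) := by
    intro h
    exact hqK (Int.natCast_dvd_natCast.1 (hqp.dvd_of_dvd_pow h))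
  unfold cP
  rw [hqp.dvd_mul, hqp.dvd_mul]
  rintro ((h | h) | h)
  · exact h0 h
  · exact h0 h
  · exact not_dvd_sub hq1 h

theorem th_dvd {j : ℕ} (hj : j ≤ m) : (q : ℤ) ∣ th (Nat.card K) m E j - th (Nat.card K) m E 0 ↔
    q ∣ gn (Nat.card K) j * (E * Nat.card K ^ (m - j) + 1) := by
  rw [← dvd_neg, neg_sub, th_sub hj]
  have : ((gn (Nat.card K) j : ℤ) * (E * (Nat.card K : ℤ) ^ (m - j) + 1)) =
      ((gn (Nat.card K) j * (E * Nat.card K ^ (m - j) + 1) : ℕ) : ℤ) := by push_cast; ring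
  rw [this, Int.natCast_dvd_natCast]

variable {p : ℕ} (hp : p.Prime) (hq : q.Prime) (hqK : ¬ q ∣ Nat.card K) (hq1 : ¬ q ∣ Nat.card K - 1)
  {S : Type w} [Group S] [Finite S] (hP : Pol F m E) {N : Subgroup F.iso} (f : N →* S) (hf : Function.Surjective f)
  (hker : ∀ z ∈ f.ker, ∃ a : K, ∀ v, ((z : F.iso) : V ≃ₗ[K] V) v = a • v) (hpq : B0 p S ⊆ B0 q S)

include hp hq hqK hq1 hP hf hker hpq

/-- **groups with transvections** -/
theorem ht_lin {κ : K} (hκ : κ ≠ 0) (hT : F.T (-κ⁻¹) = 0)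
    (hg : ∀ v ∈ Sv F 0, ∃ g : F.iso, g ∈ N ∧ ∀ x, (g : V ≃ₗ[K] V) x = tv F κ v x) :
    HT p q m (fun j => E * Nat.card K ^ (m - j) + 1) (gn (Nat.card K))
      fun j => gn (Nat.card K) j * (E * Nat.card K ^ (m - j) + 1) := by
  classical
  have := Fintype.ofFinite (F.Om m)
  have := Fintype.ofFinite (Sv F 0)
  have := Fintype.ofFinite S
  obtain ⟨_, hA⟩ := exists_act f hf hker m
  refine ht_of hp hq hP hA hpq fun j h1 h2 h3 => sep_tv hP hA hκ hT hg ?_
  rw [(Nat.prime_iff_prime_int.1 hq).dvd_mul]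
  rintro (h | h)
  · exact not_dvd_cT hq hqK hq1 m h
  · exact h3 ((th_dvd h2).1 h)

end

end Cfsg.Agent.H47.DP
end
end

-- part: H766/PQ/Last
section
prune_inst 0x4350001213762000000008080110000303c00049000000c00aca1084201016020000280000a8000054200000000040000010000000200000000000000000001000000000401400000000000000000400000000000020000000000000000000000000000000
set_option linter.all false
open scoped Cfsg.Agent.FastGrp

-- part: H766/PQ/Classical
section
/-!
# S4612: the rows of the classical families (helper766)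
-/

set_option autoImplicit false
set_option linter.unusedSectionVars false

open Cfsg Cfsg.Agent

namespace Cfsg.Agent.H766.PQ

open Cfsg.Agent.H317.PQ

universe u

variable {S : Type u} [Group S] [Finite S]

end Cfsg.Agent.H766.PQ
end

-- part: H638/PQ/PtTwo
section
/-!
# S4612: the rank 3 characters on singular points and the principal 2-block (helper638)

`q` odd: both non-trivial constituents of the permutation character on the singular points lie in the principal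
2-block (Hecke algebra test modulo 2).

* `exists_two` : the two characters, their degrees and membership in `B0 p` from the eigenvalues;
* `tone : TOne`, `ttwo : TTwo`.
-/

set_option autoImplicit false
set_option linter.unusedSectionVars false

open Cfsg

namespace Cfsg.Agent.H638.PQ.PtTwo

open Module Cfsg.Agent.H53.HC Cfsg.Agent.H690.Spor.RankThree Cfsg.Agent.H690.Spor.RankThree.R3
open Cfsg.Agent.Characters Cfsg.Agent.H477.HC Cfsg.Agent.H477.HC.CForm Cfsg.Agent.H33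
open Cfsg.Agent.H317.PQ Cfsg.Agent.H329.PQ Cfsg.Agent.H301.PQ Cfsg.Agent.Characters.Core Cfsg.Agent.H934.Eight
  Cfsg.Agent.H61.PQ Cfsg.Agent.Blocks.Basic
open Cfsg.Agent.H897.PQ.Rk3 Cfsg.Agent.H638.PQ.RankThree

universe u v w

/-- both characters lie in the principal `p`-block -/
def R3V (p : ℕ) (G : Type u) [Group G] (s t : ℕ) : Prop :=
  ∃ χ ψ : IrrCharacter G, charDegree (χ : G → ℂ) = s ∧ charDegree (ψ : G → ℂ) = t ∧ χ ∈ B0 p G ∧ ψ ∈ B0 p G

/-- the second constituent -/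
theorem R3V.snd {G : Type u} [Group G] [Finite G] {s t p : ℕ} (h : R3V p G s t) {l j : ℕ} (hl : l.Prime)
    (hlG : l ∣ Nat.card G) (hj : ¬ l ^ (j + 1) ∣ Nat.card G) (hjt : l ^ j ∣ t) : ¬ Same p l G := by
  obtain ⟨χ, ψ, h1, h2, h3, h4⟩ := h
  exact not_same_of_mem h4 (not_mem_dz hl hlG h2 j hj hjt)

/-- from `Ω ≃* H` to `Ω ⧸ Z(Ω)` -/
theorem r3v_center {Om : Type u} [Group Om] [Finite Om] {H : Type v} [Group H] [Finite H] (E : Om ≃* H)
    {χ₁ χ₂ : IrrCharacter H} {a b p : ℕ} (hp : p.Prime)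
    (h1 : (χ₁ : H → ℂ) 1 = a) (h2 : (χ₂ : H → ℂ) 1 = b) (m1 : χ₁ ∈ B0 p H) (m2 : χ₂ ∈ B0 p H)
    (hker : ∀ z ∈ Subgroup.center Om, (χ₁ : H → ℂ) (E z) = a ∧ (χ₂ : H → ℂ) (E z) = b) :
    R3V p (Om ⧸ Subgroup.center Om) a b := by
  classical
  let f : H →* Om ⧸ Subgroup.center Om := (QuotientGroup.mk' (Subgroup.center Om)).comp E.symm.toMonoidHom
  have hf : Function.Surjective f := (QuotientGroup.mk'_surjective _).comp E.symm.surjective
  have hmem : ∀ z ∈ f.ker, E.symm z ∈ Subgroup.center Om := fun z hz =>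
    (QuotientGroup.eq_one_iff _).1 (MonoidHom.mem_ker.1 hz)
  have hZ : f.ker ≤ Subgroup.center H := by
    intro z hz
    have h3 := hmem z hz
    rw [Subgroup.mem_center_iff] at h3 ⊢
    intro g
    apply E.symm.injective
    rw [map_mul, map_mul]
    exact h3 _
  have key : ∀ (χ : IrrCharacter H) (c : ℕ), (χ : H → ℂ) 1 = c → (∀ z ∈ Subgroup.center Om, (χ : H → ℂ) (E z) = c) →
      ∃ η : IrrCharacter (Om ⧸ Subgroup.center Om), charDegree (η : (Om ⧸ Subgroup.center Om) → ℂ) = c ∧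
        (χ : H → ℂ) = (η : (Om ⧸ Subgroup.center Om) → ℂ) ∘ f := by
    intro χ c hc hz
    obtain ⟨η, hη, hη'⟩ := exists_quot (Subgroup.center Om) (Core.isIrr_comp E.toMonoidHom E.surjective χ.2)
      (fun z hz' => by
        show (χ : H → ℂ) (E z) = (χ : H → ℂ) (E 1)
        rw [hz z hz', map_one, hc])
    refine ⟨⟨η, hη⟩, charDegree_of_eq ?_, ?_⟩
    · have h3 := hη' 1
      have h4 : ((χ : H → ℂ) ∘ E.toMonoidHom) 1 = c := by
        show (χ : H → ℂ) (E 1) = c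
        rw [map_one, hc]
      rw [h4] at h3
      exact h3
    · funext x
      have h3 := hη' (E.symm x)
      have h4 : ((χ : H → ℂ) ∘ E.toMonoidHom) (E.symm x) = (χ : H → ℂ) x := by
        show (χ : H → ℂ) (E (E.symm x)) = _
        rw [E.apply_symm_apply]
      rw [h4] at h3
      exact h3.symm
  obtain ⟨η₁, e1, e1'⟩ := key χ₁ a h1 fun z hz => (hker z hz).1
  obtain ⟨η₂, e2, e2'⟩ := key χ₂ b h2 fun z hz => (hker z hz).2
  exact ⟨η₁, η₂, e1, e2, (mem_B0_infl_iff hp f hf hZ e1').1 m1, (mem_B0_infl_iff hp f hf hZ e2').1 m2⟩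

section

variable {K : Type u} [Field K] {V : Type v} [AddCommGroup V] [Module K V] {F : CForm K V}
  {X : Type w} [AddCommGroup X] [Module K X] {F' : CForm K X} {e f : V} {j : X →ₗ[K] V}

/-- **the two characters and the principal block** -/
theorem exists_two [FiniteDimensional K V] [Finite V] [Finite K] [Finite X] (h : Hyp F F' e f j) {P P' : ℕ}
    (hP : 2 ≤ P) (hP' : 1 ≤ P')
    (hX : Nat.card {x : X // F'.Sing x} = (P - 1) * (P' + 1) + 1)
    (hV : Nat.card {v : V // F.Sing v} = (Nat.card K * P - 1) * (Nat.card K * P' + 1) + 1)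
    (H : Subgroup F.iso) (hH : ∀ (g : F.iso) (x y : F.Pt), ∃ h ∈ H, h • x = g • x ∧ h • y = g • y) :
    ∃ (χ₁ χ₂ : IrrCharacter H) (a b n : ℕ), (χ₁ : H → ℂ) 1 = a ∧ (χ₂ : H → ℂ) 1 = b ∧
      ((Nat.card K : ℤ) - 1) * (P + P') * a = Nat.card K * P' * (P' + 1) * (Nat.card K * P - 1) ∧
      ((Nat.card K : ℤ) - 1) * (P + P') * b = Nat.card K * P * (P - 1) * (Nat.card K * P' + 1) ∧
      (∀ x : H, (∀ y : F.Pt, (x : F.iso) • y = y) → (χ₁ : H → ℂ) x = a ∧ (χ₂ : H → ℂ) x = b) ∧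
      ((Nat.card K : ℤ) - 1) * n = ((P : ℤ) - 1) * (P' + 1) ∧
      (∀ p : ℕ, p.Prime → (p : ℤ) ∣ (P : ℤ) - 1 - Nat.card K * n → (p : ℤ) ∣ (P : ℤ) * (Nat.card K * P' + 1) →
        χ₁ ∈ B0 p H) ∧
      (∀ p : ℕ, p.Prime → (p : ℤ) ∣ (P' : ℤ) + 1 + Nat.card K * n → (p : ℤ) ∣ (P' : ℤ) * (Nat.card K * P - 1) →
        χ₂ ∈ B0 p H) := by
  classical
  have hq : 1 < Nat.card K := Finite.one_lt_card
  obtain ⟨q, hq'⟩ : ∃ q, q = Nat.card K := ⟨_, rfl⟩
  obtain ⟨n, hn⟩ : ∃ n, n = Nat.card F'.Pt := ⟨_, rfl⟩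
  have hb := card_sing (F := F')
  rw [← hn] at hb
  rw [← hq'] at hq hV hb ⊢
  have hb1 : (q - 1) * n = (P - 1) * (P' + 1) := by
    rw [hX] at hb
    exact Nat.add_right_cancel hb
  have hn0 : 0 < n := by
    rcases Nat.eq_zero_or_pos n with h0 | h0
    · exfalso
      rw [h0, mul_zero] at hb1
      have : 0 < (P - 1) * (P' + 1) := Nat.mul_pos (by omega) (by omega)
      omega
    · exact h0
  obtain ⟨s, rfl⟩ : ∃ s, q = s + 1 := ⟨q - 1, by omega⟩
  obtain ⟨t, rfl⟩ : ∃ t, P = t + 1 := ⟨P - 1, by omega⟩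
  rw [Nat.add_sub_cancel, Nat.add_sub_cancel] at hb1
  have hl : (Nat.card K - 1) * (1 + Nat.card K * n + (s + 1) * ((t + 1) * P')) + 1 = Nat.card {v : V // F.Sing v} := by
    rw [hV, ← hq', Nat.add_sub_cancel]
    have e1 : (s + 1) * (t + 1) - 1 = s * t + s + t := by
      have : (s + 1) * (t + 1) = s * t + s + t + 1 := by ring
      omega
    rw [e1]
    have e2 : s * (1 + (s + 1) * n + (s + 1) * ((t + 1) * P')) + 1 =
        s + (s + 1) * (s * n) + s * ((s + 1) * ((t + 1) * P')) + 1 := by ring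
    rw [e2, hb1]
    ring
  obtain ⟨hr3, x₀, y₀, hxy, hR, hcom⟩ := r3 h (b := n) (l := (s + 1) * ((t + 1) * P')) (by rw [← hq']; exact hb) hl hn0
    (by (clear * - hP'; positivity)) H hH
  rw [← hq'] at hr3
  have hbZ : (s : ℤ) * n = t * (P' + 1) := by exact_mod_cast hb1
  have := Fintype.ofFinite F.Pt
  have : Finite F.iso := finite_iso F
  have hne : (t : ℤ) ≠ -(P' : ℤ) - 1 := by omega
  have hA : (t : ℤ) * (-(P' : ℤ) - 1) = (n : ℤ) - (((s + 1) * n : ℕ) : ℤ) := by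
    push_cast
    linear_combination hbZ
  have hB : (((s + 1) * n : ℕ) : ℤ) * ((t : ℤ) + (-(P' : ℤ) - 1) + n) =
      (((s + 1) * n : ℕ) : ℤ) * (((s + 1) * n : ℕ) : ℤ) - (((s + 1) * n : ℕ) : ℤ) -
        (((s + 1) * ((t + 1) * P') : ℕ) : ℤ) * n := by
    push_cast
    linear_combination (-(((s : ℤ) + 1) * n)) * hbZ
  obtain ⟨χ₁, χ₂, v1, v2⟩ := frame_vals hr3 hxy hR hcom hne hA hB
  have hA' : (-(P' : ℤ) - 1) * (t : ℤ) = (n : ℤ) - (((s + 1) * n : ℕ) : ℤ) := by rw [mul_comm]; exact hA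
  have hB' : (((s + 1) * n : ℕ) : ℤ) * ((-(P' : ℤ) - 1) + (t : ℤ) + n) =
      (((s + 1) * n : ℕ) : ℤ) * (((s + 1) * n : ℕ) : ℤ) - (((s + 1) * n : ℕ) : ℤ) -
        (((s + 1) * ((t + 1) * P') : ℕ) : ℤ) * n := by rw [add_comm (-(P' : ℤ) - 1)]; exact hB
  -- degrees
  have e0 : ∀ χ : IrrCharacter H, (χ : H → ℂ) 1 = charDegree (χ : H → ℂ) := fun χ => irr_one_eq_charDegree χ.2
  have d1 := v1.deg hr3
  have d2 := v2.deg hr3
  have d1' : (charDegree (χ₁ : H → ℂ) : ℤ) * ((t : ℤ) - (-(P' : ℤ) - 1)) =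
      -((-(P' : ℤ) - 1) * ((((s + 1) * n : ℕ) : ℤ) + (((s + 1) * ((t + 1) * P') : ℕ) : ℤ)) + (((s + 1) * n : ℕ) : ℤ)) := by
    exact_mod_cast d1
  have d2' : (charDegree (χ₂ : H → ℂ) : ℤ) * ((-(P' : ℤ) - 1) - (t : ℤ)) =
      -((t : ℤ) * ((((s + 1) * n : ℕ) : ℤ) + (((s + 1) * ((t + 1) * P') : ℕ) : ℤ)) + (((s + 1) * n : ℕ) : ℤ)) := by
    exact_mod_cast d2
  push_cast at d1' d2'
  refine ⟨χ₁, χ₂, charDegree (χ₁ : H → ℂ), charDegree (χ₂ : H → ℂ), n, e0 _, e0 _, ?_, ?_, ?_, ?_, ?_, ?_⟩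
  · push_cast
    linear_combination (s : ℤ) * d1' + ((s : ℤ) + 1) * P' * hbZ
  · push_cast
    linear_combination (-(s : ℤ)) * d2' + ((s : ℤ) + 1) * (t + 1) * hbZ
  · intro x hx
    have hx' : ∀ y : F.Pt, x • y = y := hx
    have h1 : Cfsg.Agent.H638.PQ.RankThree.nR H F.Rel x = Cfsg.Agent.H638.PQ.RankThree.nR H F.Rel (1 : H) := by
      unfold Cfsg.Agent.H638.PQ.RankThree.nR
      simp only [hx', one_smul]
    have h2 : Cfsg.Agent.H638.PQ.RankThree.fx H F.Pt x = Cfsg.Agent.H638.PQ.RankThree.fx H F.Pt (1 : H) := by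
      unfold Cfsg.Agent.H638.PQ.RankThree.fx
      congr 1
      have : MulAction.fixedBy F.Pt x = MulAction.fixedBy F.Pt (1 : H) := by
        ext y
        simp only [MulAction.mem_fixedBy, hx', one_smul]
      rw [this]
    have hd : ((t : ℤ) : ℂ) - ((-(P' : ℤ) - 1 : ℤ) : ℂ) ≠ 0 := by
      rw [sub_ne_zero]
      exact_mod_cast hne
    have hd' : ((-(P' : ℤ) - 1 : ℤ) : ℂ) - ((t : ℤ) : ℂ) ≠ 0 := by
      rw [sub_ne_zero]
      exact_mod_cast hne.symm
    constructor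
    · rw [← e0]
      refine mul_right_cancel₀ hd ?_
      rw [v1 x, v1 1, h1, h2]
    · rw [← e0]
      refine mul_right_cancel₀ hd' ?_
      rw [v2 x, v2 1, h1, h2]
  · push_cast
    linear_combination hbZ
  · intro p hp h3 h4
    refine mem_of_r3 hr3 hp hne hA hB v1 ?_ ?_
    · push_cast at h3 ⊢
      have : (t : ℤ) - (s + 1) * n = (t : ℤ) + 1 - 1 - (s + 1) * n := by ring
      rw [this]
      exact h3
    · push_cast at h4 ⊢
      have : ((s : ℤ) + 1) * ((t + 1) * P') + 1 + t = (t + 1) * ((s + 1) * P' + 1) := by ring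
      rw [this]
      exact h4
  · intro p hp h3 h4
    refine mem_of_r3 hr3 hp hne.symm hA' hB' v2 ?_ ?_
    · push_cast at h3 ⊢
      have : -(P' : ℤ) - 1 - (s + 1) * n = -((P' : ℤ) + 1 + (s + 1) * n) := by ring
      rw [this]
      exact (dvd_neg).2 h3
    · push_cast at h4 ⊢
      have : ((s : ℤ) + 1) * ((t + 1) * P') + 1 + (-(P' : ℤ) - 1) = P' * ((s + 1) * (t + 1) - 1) := by ring
      rw [this]
      exact h4

end

/-- the parity conditions -/
theorem parity {q n i P' : ℕ} (hq : 2 ≤ q) (ho : Odd q) (hP' : Odd P') (hn : ((q : ℤ) - 1) * n = (((q ^ i : ℕ) : ℤ) - 1) * (P' + 1)) :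
    ((2 : ℕ) : ℤ) ∣ ((q ^ i : ℕ) : ℤ) - 1 - q * n ∧ ((2 : ℕ) : ℤ) ∣ ((q ^ i : ℕ) : ℤ) * (q * P' + 1) ∧
      ((2 : ℕ) : ℤ) ∣ (P' : ℤ) + 1 + q * n ∧ ((2 : ℕ) : ℤ) ∣ (P' : ℤ) * (q * ((q ^ i : ℕ) : ℤ) - 1) := by
  have hz : (q : ℤ) - 1 ≠ 0 := by omega
  have hn' : (n : ℤ) = (∑ t ∈ Finset.range i, (q : ℤ) ^ t) * (P' + 1) := by
    have hg := mul_geom_sum (q : ℤ) i
    apply mul_left_cancel₀ hz
    rw [hn]
    push_cast
    linear_combination (-((P' : ℤ) + 1)) * hg
  obtain ⟨a, ha⟩ := hP'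
  obtain ⟨b, hb⟩ := ho.pow (n := i)
  obtain ⟨c, hc⟩ := ho
  have hn2 : (n : ℤ) = 2 * ((∑ t ∈ Finset.range i, (q : ℤ) ^ t) * (a + 1)) := by
    rw [hn', ha]
    push_cast
    ring
  have hbZ : ((q ^ i : ℕ) : ℤ) = 2 * b + 1 := by exact_mod_cast hb
  have hcZ : (q : ℤ) = 2 * c + 1 := by exact_mod_cast hc
  have haZ : (P' : ℤ) = 2 * a + 1 := by exact_mod_cast ha
  generalize (∑ t ∈ Finset.range i, (q : ℤ) ^ t) * ((a : ℤ) + 1) = w at hn2
  rw [hbZ, hn2, haZ, hcZ]
  refine ⟨⟨b - (2 * c + 1) * w, by push_cast; ring⟩, ⟨(2 * b + 1) * (2 * c * a + c + a + 1), by push_cast; ring⟩,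
    ⟨a + 1 + (2 * c + 1) * w, by push_cast; ring⟩, ⟨(2 * a + 1) * (2 * c * b + c + b), by push_cast; ring⟩⟩

section forms

variable (K : Type u) [Field K] [Finite K]

/-- **`PSp_{2m}(q)`** -/
theorem r3v_psp {m : ℕ} (hm : 2 ≤ m) (ho : Odd (Nat.card K)) : ∃ s t : ℕ, R3V 2 (PSp m K) s t ∧
    2 * ((Nat.card K : ℤ) - 1) * s = Nat.card K * (Nat.card K ^ (m - 1) + 1) * ((Nat.card K : ℤ) ^ m - 1) ∧
    2 * ((Nat.card K : ℤ) - 1) * t = Nat.card K * (Nat.card K ^ (m - 1) - 1) * ((Nat.card K : ℤ) ^ m + 1) := by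
  classical
  have hfin := Fintype.ofFinite K
  have hq : 2 ≤ Nat.card K := Finite.one_lt_card
  obtain ⟨n, rfl⟩ : ∃ n, m = n + 1 := ⟨m - 1, by omega⟩
  obtain ⟨e, f, j, h⟩ := CForm.frm_sp (K := K) (show 1 + n = n + 1 by omega)
  have hsing : ∀ k : ℕ, Nat.card {v : Fin k ⊕ Fin k → K // (CForm.spF K k).Sing v} = Nat.card K ^ (2 * k) := by
    intro k
    have e1 : Nat.card {v : Fin k ⊕ Fin k → K // (CForm.spF K k).Sing v} = Nat.card (Fin k ⊕ Fin k → K) :=
      Nat.card_congr (Equiv.subtypeUnivEquiv fun v => ⟨rfl, (CForm.spF K k).alt v rfl⟩)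
    rw [e1, Nat.card_fun, Nat.card_eq_fintype_card (α := Fin k ⊕ Fin k), Fintype.card_sum, Fintype.card_fin, two_mul]
  have hH : ∀ (g : (CForm.spF K (n + 1)).iso) (x y : (CForm.spF K (n + 1)).Pt),
      ∃ h ∈ (⊤ : Subgroup (CForm.spF K (n + 1)).iso), h • x = g • x ∧ h • y = g • y :=
    fun g x y => ⟨g, Subgroup.mem_top _, rfl, rfl⟩
  obtain ⟨χ₁, χ₂, s, t, n₁, c1, c2, c3, c4, c6, c7, c8, c9⟩ := exists_two h.hyp (P := Nat.card K ^ n)
    (P' := Nat.card K ^ n) (two_le_pow hq (by omega)) (Nat.one_le_pow _ _ (by omega))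
    (by rw [hsing, ← num_odd hq n])
    (by rw [hsing, ← pow_succ', ← num_odd hq (n + 1)])
    ⊤ hH
  have hfi : Finite (CForm.spF K (n + 1)).iso := finite_iso _
  have hz : ((Nat.card K : ℤ) ^ n) ≠ 0 := pow_ne_zero _ (by exact_mod_cast (by omega : Nat.card K ≠ 0))
  have d3 : 2 * ((Nat.card K : ℤ) - 1) * s = Nat.card K * (Nat.card K ^ n + 1) * ((Nat.card K : ℤ) ^ (n + 1) - 1) := by
    apply mul_left_cancel₀ hz
    push_cast at c3
    linear_combination c3
  have d4 : 2 * ((Nat.card K : ℤ) - 1) * t = Nat.card K * (Nat.card K ^ n - 1) * ((Nat.card K : ℤ) ^ (n + 1) + 1) := by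
    apply mul_left_cancel₀ hz
    push_cast at c4
    linear_combination c4
  let E : Matrix.symplecticGroup (Fin (n + 1)) K ≃* (⊤ : Subgroup (CForm.spF K (n + 1)).iso) :=
    (isoSp (n + 1) K).trans Subgroup.topEquiv.symm
  have hfO : Finite (Matrix.symplecticGroup (Fin (n + 1)) K) := Finite.of_equiv _ E.symm.toEquiv
  obtain ⟨p1, p2, p3, p4⟩ := parity hq ho (ho.pow (n := n)) c7
  have hR := r3v_center E Nat.prime_two c1 c2 (c8 2 Nat.prime_two p1 p2) (c9 2 Nat.prime_two p3 p4)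
    (fun z hz => c6 _ fun y => by
    rcases Cfsg.Agent.ClassicalGeometry.SympInvolutions.center_eq hz with h | h
    · refine _root_.Cfsg.Agent.H897.PQ.Rk3.smul_pt (g := isoSp (n + 1) K z) (c := 1) (fun v => ?_) y
      rw [isoSp_apply, h, Matrix.one_mulVec, Units.val_one, one_smul]
    · refine _root_.Cfsg.Agent.H897.PQ.Rk3.smul_pt (g := isoSp (n + 1) K z) (c := -1) (fun v => ?_) y
      rw [isoSp_apply, h, Matrix.neg_mulVec, Matrix.one_mulVec, Units.val_neg, Units.val_one, neg_one_smul])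
  exact ⟨s, t, hR, d3, d4⟩

/-- **`PΩ⁺_{2m}(q)`** -/
theorem r3v_plus {m : ℕ} (hm : 4 ≤ m) (ho : Odd (Nat.card K)) : ∃ s t : ℕ,
    R3V 2 (POmega K (quadFormPlus m K)) s t ∧
    ((Nat.card K : ℤ) ^ 2 - 1) * s = Nat.card K * (Nat.card K ^ (m - 2) + 1) * ((Nat.card K : ℤ) ^ m - 1) ∧
    ((Nat.card K : ℤ) ^ 2 - 1) * t = Nat.card K ^ 2 * ((Nat.card K : ℤ) ^ (2 * m - 2) - 1) := by
  classical
  have hfin := Fintype.ofFinite K
  have hq : 2 ≤ Nat.card K := Finite.one_lt_card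
  obtain ⟨n, rfl⟩ : ∃ n, m = n + 2 := ⟨m - 2, by omega⟩
  obtain ⟨e, f, j, h⟩ := CForm.frm_plus (K := K) (show 1 + (n + 1) = n + 2 by omega)
  obtain ⟨e3, f3, j3, h3⟩ := CForm.frm_plus (K := K) (show 3 + (n - 1) = n + 2 by omega)
  have hc : Fintype.card K = Nat.card K := Nat.card_eq_fintype_card.symm
  have hG : LieClassical.OrthTrans.Good (LieClassical.OrthForms.plusForm (n + 2) K) := by
    apply LieClassical.OrthFinite.good_of_finite (LieClassical.OrthForms.nondeg_plusForm (n + 2) K)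
    rw [Module.finrank_fintype_fun_eq_card, Fintype.card_sum, Fintype.card_fin]
    omega
  have hstab := CForm.om_stab (F := CForm.plusF K (n + 2)) (F' := CForm.plusF K (n - 1)) hG
    (fun v => congrFun (LieClassical.OrthForms.coe_plusForm (n + 2) K) v) (plus_hB K (n + 2)) h3 (fun _ => rfl)
    (fun _ => rfl)
  have hV : Nat.card {v // (CForm.plusF K (n + 2)).Sing v} =
      (Nat.card K * Nat.card K ^ (n + 1) - 1) * (Nat.card K * Nat.card K ^ n + 1) + 1 := by
    rw [card_Sing_quad, ← pow_succ', ← pow_succ', ← num_plus hq (n + 1)]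
    exact S0289.result hc (n + 2) (by omega)
  obtain ⟨χ₁, χ₂, s, t, n₁, c1, c2, c3, c4, c6, c7, c8, c9⟩ := exists_two h.hyp (P := Nat.card K ^ (n + 1))
    (P' := Nat.card K ^ n) (two_le_pow hq (by omega)) (Nat.one_le_pow _ _ (by omega))
    (by
      rw [card_Sing_quad, ← num_plus hq n]
      exact S0289.result hc (n + 1) (by omega))
    hV (commutator _) hstab
  have hfi : Finite (CForm.plusF K (n + 2)).iso := finite_iso _
  have hz : ((Nat.card K : ℤ) ^ n) ≠ 0 := pow_ne_zero _ (by exact_mod_cast (by omega : Nat.card K ≠ 0))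
  have d3 : ((Nat.card K : ℤ) ^ 2 - 1) * s = Nat.card K * (Nat.card K ^ n + 1) * ((Nat.card K : ℤ) ^ (n + 2) - 1) := by
    apply mul_left_cancel₀ hz
    push_cast at c3
    linear_combination c3
  have d4 : ((Nat.card K : ℤ) ^ 2 - 1) * t = Nat.card K ^ 2 * ((Nat.card K : ℤ) ^ ((n + 1) + (n + 1)) - 1) := by
    apply mul_left_cancel₀ hz
    push_cast at c4
    linear_combination c4
  have hB := plus_hB K (n + 2)
  have e0 : (Omega K (CForm.plusF K (n + 2)).Q).map (isoQuad (CForm.plusF K (n + 2)) hB).toMonoidHom =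
      commutator (CForm.plusF K (n + 2)).iso := by
    change (commutator (isometryGroup K _)).map (isoQuad _ hB).toMonoidHom = commutator _
    rw [commutator_def, commutator_def, Subgroup.map_commutator, ← MonoidHom.range_eq_map]
    have : (isoQuad (CForm.plusF K (n + 2)) hB).toMonoidHom.range = ⊤ :=
      MonoidHom.range_eq_top.2 (isoQuad _ hB).surjective
    rw [this]
  let E : Omega K (CForm.plusF K (n + 2)).Q ≃* commutator (CForm.plusF K (n + 2)).iso :=
    ((isoQuad (CForm.plusF K (n + 2)) hB).subgroupMap _).trans (MulEquiv.subgroupCongr e0)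
  have hfO : Finite (Omega K (CForm.plusF K (n + 2)).Q) := Finite.of_equiv _ E.symm.toEquiv
  obtain ⟨p1, p2, p3, p4⟩ := parity hq ho (ho.pow (n := n)) c7
  have hR := r3v_center E Nat.prime_two c1 c2 (c8 2 Nat.prime_two p1 p2) (c9 2 Nat.prime_two p3 p4)
    (fun z hz => c6 _ fun y => by
    obtain ⟨c, -, hc⟩ := scal_of (cen_plus K (by omega) z hz)
    exact _root_.Cfsg.Agent.H897.PQ.Rk3.smul_pt (g := isoQuad (CForm.plusF K (n + 2)) hB z) (c := c) (fun v => hc v) y)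
  refine ⟨s, t, hR, d3, ?_⟩
  rw [d4]
  have e2 : 2 * (n + 2) - 2 = (n + 1) + (n + 1) := by omega
  rw [e2]

end forms

section rows

variable {K : Type u} [Field K] [Finite K] {l : ℕ}

/-- **`PSp_{2m}(q)`, `q` odd, `ord_l q = 2 m`, the pair `{2, l}`** -/
theorem psp_two {m : ℕ} (hm : 2 ≤ m) (hodd : Odd (Nat.card K)) (hl : l.Prime) (hl2 : l ≠ 2)
    (hlK : ¬ l ∣ Nat.card K) (ho : orderOf ((Nat.card K : ℕ) : ZMod l) = 2 * m) (hlG : l ∣ Nat.card (PSp m K)) :
    ¬ Same 2 l (PSp m K) := by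
  classical
  obtain ⟨s, t, hR, -, ht⟩ := r3v_psp K hm hodd
  have hq2 : 2 ≤ Nat.card K := Finite.one_lt_card
  obtain ⟨q, hq⟩ : ∃ q, q = Nat.card K := ⟨_, rfl⟩
  rw [← hq] at hodd hlK ho ht hq2
  have h1 : 1 ≤ q := by omega
  have hz : (q : ℤ) - 1 ≠ 0 := by omega
  have ht' : 2 * t = q * (∑ i ∈ Finset.range (m - 1), q ^ i) * (q ^ m + 1) := by
    have hg := mul_geom_sum (q : ℤ) (m - 1)
    zify
    apply mul_left_cancel₀ hz
    push_cast at hg ⊢
    linear_combination ht - (q : ℤ) * ((q : ℤ) ^ m + 1) * hg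
  have hc : Nat.card (PSp m K) ∣ q ^ (m ^ 2) * ∏ i ∈ Finset.range m, (q ^ (2 * (i + 1)) - 1) := by
    have h5 := card_spF K m
    rw [← Nat.card_congr (isoSp m K).toEquiv, ← hq] at h5
    rw [← h5]
    exact Subgroup.card_quotient_dvd_card _
  obtain ⟨j, hj1, hj2⟩ := full_part (l := l) hl (A := q ^ m + 1) (B := q ^ (m ^ 2) *
      (∏ i ∈ Finset.range (m - 1), (q ^ (2 * (i + 1)) - 1)) * (q ^ m - 1)) (C := 2) (s := t) (Nat.succ_pos _) (by
    intro h
    rcases hl.dvd_mul.1 h with h | h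
    · rcases hl.dvd_mul.1 h with h | h
      · exact hlK (hl.dvd_of_dvd_pow h)
      · obtain ⟨i, hi, h⟩ := (Prime.dvd_finsetProd_iff hl.prime _).1 h
        rw [dvd_pow_sub_one h1, ho] at h
        have := Nat.le_of_dvd (by omega) h
        rw [Finset.mem_range] at hi
        omega
    · rw [dvd_pow_sub_one h1, ho] at h
      have := Nat.le_of_dvd (by omega) h
      omega) (Dvd.intro_left _ ht'.symm) (fun h => hl2 ((Nat.prime_dvd_prime_iff_eq hl Nat.prime_two).1 h))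
  refine hR.snd (j := j) hl hlG (hj2 _ ?_) hj1
  refine hc.trans (dvd_of_eq ?_)
  obtain ⟨n, rfl⟩ : ∃ n, m = n + 1 := ⟨m - 1, by omega⟩
  rw [Finset.prod_range_succ, Nat.add_sub_cancel]
  have h5 : q ^ (2 * (n + 1)) - 1 = (q ^ (n + 1) + 1) * (q ^ (n + 1) - 1) := by
    rw [mul_comm 2, pow_mul, sq_sub']
  rw [h5]
  ring

/-- **`PΩ⁺_{2m}(q)`, `q` odd, `ord_l q = 2 (m - 1)`, the pair `{2, l}`** -/
theorem plus_two {m : ℕ} (hm : 4 ≤ m) (hodd : Odd (Nat.card K)) (hl : l.Prime) (hl2 : l ≠ 2)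
    (hlK : ¬ l ∣ Nat.card K) (ho : orderOf ((Nat.card K : ℕ) : ZMod l) = 2 * (m - 1))
    (hlG : l ∣ Nat.card (POmega K (quadFormPlus m K))) : ¬ Same 2 l (POmega K (quadFormPlus m K)) := by
  classical
  obtain ⟨s, t, hR, -, ht⟩ := r3v_plus K (m := m) hm hodd
  have hc : Nat.card (POmega K (quadFormPlus m K)) ∣ 2 * Nat.card K ^ (m * (m - 1)) * (Nat.card K ^ m - 1) *
      ∏ i ∈ Finset.range (m - 1), (Nat.card K ^ (2 * (i + 1)) - 1) := by
    rw [← card_plusF (K := K) (m := m) (by omega)]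
    have h5 := Nat.card_congr (isoQuad (CForm.plusF K m) (plus_hB K m)).toEquiv
    rw [← h5]
    exact (Subgroup.card_quotient_dvd_card _).trans (Subgroup.card_subgroup_dvd_card _)
  have hq2 : 2 ≤ Nat.card K := Finite.one_lt_card
  obtain ⟨q, hq⟩ : ∃ q, q = Nat.card K := ⟨_, rfl⟩
  rw [← hq] at hodd hlK ho ht hq2 hc
  obtain ⟨n, rfl⟩ : ∃ n, m = n + 2 := ⟨m - 2, by omega⟩
  have e1 : n + 2 - 1 = n + 1 := by omega
  have e2 : 2 * (n + 2) - 2 = 2 * (n + 1) := by omega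
  rw [e1] at ho hc
  rw [e2] at ht
  have h1 : 1 ≤ q := by omega
  have hpos : 0 < q ^ (2 * (n + 1)) - 1 := by
    have : 1 < q ^ (2 * (n + 1)) := Nat.one_lt_pow (by omega) (by omega)
    omega
  obtain ⟨j, hj1, hj2⟩ := full_part (l := l) hl (A := q ^ (2 * (n + 1)) - 1) (B := 2 * q ^ ((n + 2) * (n + 1)) *
      (q ^ (n + 2) - 1) * ∏ i ∈ Finset.range n, (q ^ (2 * (i + 1)) - 1)) (C := q ^ 2 - 1) (s := t) hpos (by
    intro h
    rcases hl.dvd_mul.1 h with h | h
    · rcases hl.dvd_mul.1 h with h | h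
      · rcases hl.dvd_mul.1 h with h | h
        · exact hl2 ((Nat.prime_dvd_prime_iff_eq hl Nat.prime_two).1 h)
        · exact hlK (hl.dvd_of_dvd_pow h)
      · rw [dvd_pow_sub_one h1, ho] at h
        have := Nat.le_of_dvd (by omega) h
        omega
    · obtain ⟨i, hi, h⟩ := (Prime.dvd_finsetProd_iff hl.prime _).1 h
      rw [dvd_pow_sub_one h1, ho] at h
      have := Nat.le_of_dvd (by omega) h
      rw [Finset.mem_range] at hi
      omega) (by
    refine ⟨q ^ 2, ?_⟩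
    have h3 : ((q ^ 2 - 1 : ℕ) : ℤ) = (q : ℤ) ^ 2 - 1 := by
      rw [Nat.cast_sub (Nat.one_le_pow _ _ h1)]; push_cast; ring
    have h4 : ((q ^ (2 * (n + 1)) - 1 : ℕ) : ℤ) = (q : ℤ) ^ (2 * (n + 1)) - 1 := by
      rw [Nat.cast_sub (Nat.one_le_pow _ _ h1)]; push_cast; ring
    zify
    rw [h3, h4]
    linear_combination ht) (by
    rw [dvd_pow_sub_one h1, ho]
    intro h
    have := Nat.le_of_dvd (by omega) h
    omega)
  refine hR.snd (j := j) hl hlG (hj2 _ ?_) hj1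
  refine hc.trans (dvd_of_eq ?_)
  rw [Finset.prod_range_succ]
  ring

end rows

/-- **`TOne`** -/
theorem tone : Cfsg.Agent.H766.PQ.TOne.{u} := by
  intro K _ _ m q h5 hm _ hq ho hqG
  have hodd : Odd (Nat.card K) := by rw [Nat.odd_iff]; omega
  have hl2 : q ≠ 2 := by
    rintro rfl
    have h6 : ((Nat.card K : ℕ) : ZMod 2) = 1 := by
      obtain ⟨w, hw⟩ := hodd
      rw [hw]
      push_cast
      rw [show (2 : ZMod 2) = 0 from rfl, zero_mul, zero_add]
    rw [h6, orderOf_one] at ho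
    omega
  have hlK : ¬ q ∣ Nat.card K := by
    intro h
    have : Fact q.Prime := ⟨hq⟩
    rw [(ZMod.natCast_eq_zero_iff _ _).2 h] at ho
    have h7 : orderOf (0 : ZMod q) = 0 := by
      rw [orderOf_eq_zero_iff']
      intro n hn
      rw [zero_pow (by omega)]
      exact zero_ne_one
    omega
  exact psp_two hm hodd hq hl2 hlK ho hqG

/-- **`TTwo`** -/
theorem ttwo : Cfsg.Agent.H766.PQ.TTwo.{u} := by
  intro K _ _ m q h5 hm _ hq ho hqG
  have hodd : Odd (Nat.card K) := by rw [Nat.odd_iff]; omega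
  have hl2 : q ≠ 2 := by
    rintro rfl
    have h6 : ((Nat.card K : ℕ) : ZMod 2) = 1 := by
      obtain ⟨w, hw⟩ := hodd
      rw [hw]
      push_cast
      rw [show (2 : ZMod 2) = 0 from rfl, zero_mul, zero_add]
    rw [h6, orderOf_one] at ho
    omega
  have hlK : ¬ q ∣ Nat.card K := by
    intro h
    have : Fact q.Prime := ⟨hq⟩
    rw [(ZMod.natCast_eq_zero_iff _ _).2 h] at ho
    have h7 : orderOf (0 : ZMod q) = 0 := by
      rw [orderOf_eq_zero_iff']
      intro n hn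
      rw [zero_pow (by omega)]
      exact zero_ne_one
    omega
  exact plus_two hm hodd hq hl2 hlK ho hqG

end Cfsg.Agent.H638.PQ.PtTwo
end

-- part: H766/PQ/Final
section
/-!
# S4612: the rows of the classical groups from the odd/odd non-core cases (helper766)
-/

set_option autoImplicit false
set_option linter.unusedSectionVars false

open Cfsg Cfsg.Agent

namespace Cfsg.Agent.H766.PQ

open Cfsg.Agent.H317.PQ

universe u

theorem rFive : RFive.{u} := by
  intro K _ _ m q hodd hm he hq ho hqG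
  have hq2 : q ≠ 2 := ne_two_of_order (by omega : 0 < m - 1) ho
  have hqK : ¬ q ∣ Nat.card K := not_dvd_of_order hq (by omega : 0 < m - 1) ho
  exact H897.PQ.Rk3.plus_two_unit hm he hodd hq hq2 hqK ho hqG

/-- the odd/odd non-core cases -/
structure NonCore : Prop where
  sp : NCSp
  odd : NCOdd
  plus : NCPlus
  minus : NCMinus
  su : NCU

section rows

variable (h : NonCore)

include h

theorem NonCore.psp (F : Type) [Field F] [Fintype F] (m : ℕ) (hm : 2 ≤ m) (hmF : m = 2 → 3 ≤ Fintype.card F) :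
    Row (PSp m F) :=
  row_psp H638.PQ.PtTwo.tone h.sp hm hmF

theorem NonCore.psu (F : Type) [Field F] [Fintype F] (n q : ℕ) (hF : Fintype.card F = q ^ 2) (hn : 3 ≤ n)
    (hnq : ¬ (n = 3 ∧ q = 2)) : Row (PSU n F q) :=
  row_psu h.su hF hn hnq

theorem NonCore.pOdd (F : Type) [Field F] [Fintype F] (m : ℕ) (hm : 3 ≤ m) (ho : Odd (Fintype.card F)) :
    Row (POmega F (quadFormOdd m F)) :=
  row_odd h.odd hm (by rwa [Nat.card_eq_fintype_card])

theorem NonCore.pPlus (F : Type) [Field F] [Fintype F] (m : ℕ) (hm : 4 ≤ m) : Row (POmega F (quadFormPlus m F)) :=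
  row_plus H638.PQ.PtTwo.ttwo rFive h.plus hm

theorem NonCore.pMinus (F : Type) [Field F] [Fintype F] (m : ℕ) (a b : F) (hm : 4 ≤ m)
    (hab : ∀ z₁ z₂ : F, z₁ ^ 2 + a * z₁ * z₂ + b * z₂ ^ 2 = 0 → z₁ = 0 ∧ z₂ = 0) :
    Row (POmega F (quadFormMinus (m - 1) F a b)) :=
  row_minus h.minus (by omega : 3 ≤ m - 1) hab

end rows

end Cfsg.Agent.H766.PQ
end

-- part: H47/DP/Main2
section
/-!
# S4612: the Hecke test for the orthogonal groups (helper47)
-/

set_option autoImplicit false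
set_option linter.unusedSectionVars false

open Cfsg

namespace Cfsg.Agent.H47.DP

open Cfsg.Agent.H477.HC Cfsg.Agent.H477.HC.CForm Cfsg.Agent.H53.HC Module Cfsg.Agent.H317.PQ
open Polynomial

universe u v w

variable {K : Type u} [Field K] {V : Type v} [AddCommGroup V] [Module K V] [FiniteDimensional K V] {F : CForm K V}

variable {m E : ℕ} [Finite V] [Finite K]

theorem aT_eq [Fintype (F.Om m)] {κ τ : K} [Fintype (Sv F τ)] (hP : Pol F m E) (hκ : κ ≠ 0) (hT : F.T (-κ⁻¹) = τ)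
    (hg : ∀ v ∈ Sv F τ, ∃ g : F.iso, ∀ x, (g : V ≃ₗ[K] V) x = tv F κ v x) (M : F.Om m) :
    aT F m E τ = Nat.card {v : V // v ∈ Sv F τ ∧ v ∈ F.perp M.1} := by
  choose g hg using fun v : Sv F τ => hg v v.2
  have h1 := tv_matrix hP hκ hT hg M M
  have h2 : adjm F m M M = 0 := by
    unfold adjm
    rw [if_neg fun h => h.ne M.2.2 rfl]
  rw [if_pos rfl, h2, mul_one, mul_zero, add_zero] at h1
  have h3 : aT F m E τ = (Nat.card {v : Sv F τ // omHom F m (g v) M = M} : ℤ) := h1.symm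
  rw [h3]
  congr 1
  have h4 : ∀ v : Sv F τ, omHom F m (g v) M = M ↔ (v : V) ∈ F.perp M.1 := by
    intro v
    rw [Subtype.ext_iff, omHom_val]
    have e1 : (F.iso.subtype (g v) : V →ₗ[K] V) = tv F κ v := LinearMap.ext fun x => hg v x
    rw [e1]
    constructor
    · intro h5 x hx
      by_contra h6
      have h7 : F.B x v ≠ 0 := fun h => h6 (F.B_eq_zero h)
      have h8 : tv F κ v x ∈ M.1.map (tv F κ v) := ⟨x, hx, rfl⟩
      rw [h5, tv_apply] at h8
      have h9 : (v : V) ∈ M.1 := by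
        rw [← Submodule.smul_mem_iff _ (mul_ne_zero hκ h7)]
        have := M.1.sub_mem h8 hx
        rwa [add_sub_cancel_left] at this
      exact h7 (M.2.1.2 x hx v h9)
    · intro h5
      refine Submodule.eq_of_le_of_finrank_eq ?_ ?_
      · rintro _ ⟨x, hx, rfl⟩
        rw [tv_apply, F.B_eq_zero (h5 x hx), mul_zero, zero_smul, add_zero]
        exact hx
      · rw [← e1]
        exact LinearEquiv.finrank_map_eq (g v : V ≃ₗ[K] V) _
  exact Nat.card_congr ((Equiv.subtypeEquivRight h4).trans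
    (Equiv.subtypeSubtypeEquivSubtypeInter (fun v => v ∈ Sv F τ) fun v => v ∈ F.perp M.1))

/-- odd dimension: a norm missing from `Mᗮ` -/
theorem exists_aT_zero (hQ : Quad F) (h2 : ringChar K ≠ 2) (hP : Pol F m E) (hd : finrank K V = 2 * m + 1) {M : Submodule K V}
    (hM : M ∈ F.Om m) : ∃ τ : K, τ ≠ 0 ∧ ∀ v ∈ F.perp M, F.Q v ≠ τ := by
  classical
  have := Fintype.ofFinite K
  obtain ⟨ν, hν⟩ := FiniteField.exists_nonsquare h2
  have hf := finrank_perp F M
  rw [hM.2, hd] at hf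
  obtain ⟨w, hw, hwM⟩ : ∃ w ∈ F.perp M, w ∉ M := by
    by_contra hcon
    push Not at hcon
    have := Submodule.finrank_mono (show F.perp M ≤ M from hcon)
    rw [hM.2] at this
    omega
  have hw0 : F.Q w ≠ 0 := fun h => hwM (mem_of_perp hP.max hM (sing_of_Q h) hw)
  have hν0 : ν ≠ 0 := by rintro rfl; exact hν (IsSquare.zero)
  refine ⟨ν * F.Q w, mul_ne_zero hν0 hw0, fun v hv h => ?_⟩
  have hMw : M ⊔ K ∙ w = F.perp M := by
    refine Submodule.eq_of_le_of_finrank_eq (sup_le hM.1.le_perp ((Submodule.span_singleton_le_iff_mem _ _).2 hw)) ?_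
    rw [finrank_sup_span hwM, hM.2]
    omega
  rw [← hMw] at hv
  obtain ⟨x, hx, s, hs, rfl⟩ := Submodule.mem_sup.1 hv
  obtain ⟨c, rfl⟩ := Submodule.mem_span_singleton.1 hs
  rw [hQ.Q_add, hM.1.1 x hx, hQ.Q_smul, hQ.B_smul_right, F.B_eq_zero (hw x hx), mul_zero, zero_add, add_zero] at h
  exact hν ⟨c, (mul_right_cancel₀ hw0 h).symm⟩

/-- the sum of the constants over all norms -/
theorem sum_aT (hP : Pol F m E) {M : Submodule K V} (hM : M ∈ F.Om m) [Fintype K] [DecidableEq K] :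
    ∑ τ ∈ Finset.univ.erase (0 : K), Nat.card {v : V // v ∈ Sv F τ ∧ v ∈ F.perp M} + Nat.card K ^ m =
      Nat.card K ^ (finrank K V - m) := by
  classical
  have := Fintype.ofFinite V
  have h1 : Nat.card K ^ (finrank K V - m) = Nat.card (F.perp M) := by
    rw [Module.natCard_eq_pow_finrank (K := K) (V := F.perp M)]
    congr 1
    have h1 := finrank_perp F M
    rw [hM.2] at h1
    omega
  have h2 : Nat.card K ^ m = (Finset.univ.filter fun v : V => v ∈ F.perp M ∧ F.Q v = 0).card := by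
    have h3 : Nat.card K ^ m = Nat.card M := by
      rw [Module.natCard_eq_pow_finrank (K := K) (V := M), hM.2]
    rw [h3, Nat.card_eq_fintype_card, Fintype.card_subtype]
    congr 1
    ext v
    simp only [Finset.mem_filter, Finset.mem_univ, true_and]
    exact ⟨fun h => ⟨hM.1.le_perp h, hM.1.1 v h⟩, fun h => mem_of_perp hP.max hM (sing_of_Q h.2) h.1⟩
  have h4 : Nat.card (F.perp M) = (Finset.univ.filter fun v : V => v ∈ F.perp M).card := by
    rw [Nat.card_eq_fintype_card, Fintype.card_subtype]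
  have h6 := Finset.card_eq_sum_card_fiberwise (s := Finset.univ.filter fun v : V => v ∈ F.perp M) (f := F.Q)
    (t := (Finset.univ : Finset K)) (fun _ _ => Finset.mem_coe.2 (Finset.mem_univ _))
  rw [← Finset.sum_erase_add _ _ (Finset.mem_univ (0 : K))] at h6
  rw [h1, h4, h2, h6]
  congr 1
  · refine Finset.sum_congr rfl fun τ hτ => ?_
    rw [Nat.card_eq_fintype_card, Fintype.card_subtype]
    congr 1
    ext v
    simp only [Finset.mem_filter, Finset.mem_univ, true_and]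
    constructor
    · rintro ⟨h5, h6⟩; exact ⟨h6, h5.2⟩
    · rintro ⟨h5, h6⟩
      refine ⟨⟨?_, h6⟩, h5⟩
      rintro rfl
      rw [F.Q_zero] at h6
      exact (Finset.mem_erase.1 hτ).1 h6.symm
  · congr 1
    ext v
    simp only [Finset.mem_filter, Finset.mem_univ, true_and]

section tests

variable {p q : ℕ} (hp : p.Prime) (hq : q.Prime) (hqK : ¬ q ∣ Nat.card K) (hq1 : ¬ q ∣ Nat.card K - 1)
  {S : Type w} [Group S] [Finite S] (hQ : Quad F) (hP : Pol F m E) {N : Subgroup F.iso} (f : N →* S)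
  (hf : Function.Surjective f)
  (hker : ∀ z ∈ f.ker, ∃ a : K, ∀ v, ((z : F.iso) : V ≃ₗ[K] V) v = a • v) (hpq : B0 p S ⊆ B0 q S)
  (hN : commutator F.iso ≤ N) (hm : m + 2 < finrank K V)

include hq hqK hq1 hQ hP hN hm in
theorem sep_tp' [Fintype (F.Om m)] [Fintype S] [MulAction S (F.Om m)] (hA : Act F m N f) {a b : ℤ}
    (hs : ¬ Sep q (fnRep S (F.Om m)) (op (adjm F m)) a b) (hab : ¬ (q : ℤ) ∣ a - b) :
    (q : ℤ) ∣ ((Nat.card K : ℤ) - 1) * (a + b) + ((E : ℤ) - 1) := by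
  classical
  have := Fintype.ofFinite (Pz F)
  have hqp : Prime (q : ℤ) := Nat.prime_iff_prime_int.1 hq
  by_contra hcon
  refine hs (sep_tp hQ hP hA (fun p hp => ?_) ?_)
  · obtain ⟨g, h1, h2⟩ := sg_mem hQ hP.max hm hp.2.1 hp.2.2
    exact ⟨g, hN h1, h2⟩
  · rw [hqp.dvd_mul, hqp.dvd_mul]
    rintro (h | h | h)
    · exact not_dvd_cP hq hqK hq1 m h
    · exact hab h
    · exact hcon h

include hq hqK hq1 hQ hP hN in
theorem sep_sq' [Fintype (F.Om m)] [Fintype S] [MulAction S (F.Om m)] (hA : Act F m N f) {τ : K} (hτ : τ ≠ 0)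
    {M : Submodule K V} (hM : M ∈ F.Om m) {a b : ℤ}
    (hs : ¬ Sep q (fnRep S (F.Om m)) (op (adjm F m)) a b) (hab : ¬ (q : ℤ) ∣ a - b) :
    (q : ℤ) ∣ 2 * (Nat.card {v : V // v ∈ Sv F τ ∧ v ∈ F.perp M} : ℤ) + cT K m * (a + b) := by
  classical
  have := Fintype.ofFinite (Sv F τ)
  have hqp : Prime (q : ℤ) := Nat.prime_iff_prime_int.1 hq
  have hκ : -τ⁻¹ ≠ 0 := neg_ne_zero.2 (inv_ne_zero hτ)
  have hT : F.T (-(-τ⁻¹)⁻¹) = τ := by rw [hQ.T, inv_neg, inv_inv, neg_neg]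
  have hg : ∀ v ∈ Sv F τ, ∃ g : F.iso, ∀ x, (g : V ≃ₗ[K] V) x = tv F (-τ⁻¹) v x := fun v hv => exists_rf hQ hτ hv.2
  rw [← aT_eq hP hκ hT hg ⟨M, hM⟩]
  by_contra hcon
  refine hs (sep_sq hP hA hκ hT hg (fun v hv w hw g g' h1 h2 => hN (rf_mul_mem hQ hτ hv.2 hw.2 h1 h2)) ?_)
  rw [hqp.dvd_mul, hqp.dvd_mul]
  rintro (h | h | h)
  · exact not_dvd_cT hq hqK hq1 m h
  · exact hab h
  · exact hcon h

include hp hq hqK hq1 hQ hP hf hker hpq hN hm

/-- **orthogonal groups, odd dimension** -/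
theorem ht_odd (h2 : ringChar K ≠ 2) (hd : finrank K V = 2 * m + 1) (hE : E = Nat.card K) :
    HT p q m (fun j => E * Nat.card K ^ (m - j) + 1) (gn (Nat.card K))
      fun j => gn (Nat.card K) j * (E * Nat.card K ^ (m - j) + 1) := by
  classical
  have := Fintype.ofFinite (F.Om m)
  have := Fintype.ofFinite S
  have hqp : Prime (q : ℤ) := Nat.prime_iff_prime_int.1 hq
  obtain ⟨_, hA⟩ := exists_act f hf hker m
  refine ht_of hp hq hP hA hpq fun j h1 h3 h4 => ?_
  by_contra hs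
  have hab : ¬ (q : ℤ) ∣ th (Nat.card K) m E j - th (Nat.card K) m E 0 := fun h => h4 ((th_dvd h3).1 h)
  have e1 := sep_tp' hq hqK hq1 hQ hP f hN hm hA hs hab
  obtain ⟨M, hM⟩ := hP.ex
  obtain ⟨τ, hτ, h0⟩ := exists_aT_zero hQ h2 hP hd hM
  have e2 := sep_sq' hq hqK hq1 hQ hP f hN hA hτ hM hs hab
  have h5 : Nat.card {v : V // v ∈ Sv F τ ∧ v ∈ F.perp M} = 0 :=
    @Nat.card_of_isEmpty _ ⟨fun v => h0 v.1 v.2.2 v.2.1.2⟩
  rw [h5, Nat.cast_zero, mul_zero, zero_add, hqp.dvd_mul] at e2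
  have e3 := e2.resolve_left (not_dvd_cT hq hqK hq1 m)
  rw [hE] at e1
  rw [hE] at e3
  have e4 := (dvd_add_right (e3.mul_left ((Nat.card K : ℤ) - 1))).1 e1
  exact not_dvd_sub hq1 e4

/-- **orthogonal groups, minus type** -/
theorem ht_minus (hd : finrank K V = 2 * m + 2) (hE : E = Nat.card K ^ 2) (hq2 : ¬ q ∣ Nat.card K + 1) :
    HT p q m (fun j => E * Nat.card K ^ (m - j) + 1) (gn (Nat.card K))
      fun j => gn (Nat.card K) j * (E * Nat.card K ^ (m - j) + 1) := by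
  classical
  have := Fintype.ofFinite (F.Om m)
  have := Fintype.ofFinite S
  have := Fintype.ofFinite K
  have hqp : Prime (q : ℤ) := Nat.prime_iff_prime_int.1 hq
  obtain ⟨_, hA⟩ := exists_act f hf hker m
  refine ht_of hp hq hP hA hpq fun j h1 h3 h4 => ?_
  by_contra hs
  have hab : ¬ (q : ℤ) ∣ th (Nat.card K) m E j - th (Nat.card K) m E 0 := fun h => h4 ((th_dvd h3).1 h)
  have hm1 : 1 ≤ m := by omega
  have e1 := sep_tp' hq hqK hq1 hQ hP f hN hm hA hs hab
  obtain ⟨M, hM⟩ := hP.ex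
  have e2 : (q : ℤ) ∣ ∑ τ ∈ Finset.univ.erase (0 : K), (2 * (Nat.card {v : V // v ∈ Sv F τ ∧ v ∈ F.perp M} : ℤ) +
      cT K m * (th (Nat.card K) m E j + th (Nat.card K) m E 0)) :=
    Finset.dvd_sum fun τ hτ => sep_sq' hq hqK hq1 hQ hP f hN hA (Finset.mem_erase.1 hτ).1 hM hs hab
  have h5 := sum_aT hP hM
  rw [Finset.sum_add_distrib, ← Finset.mul_sum, Finset.sum_const, Finset.card_erase_of_mem (Finset.mem_univ _),
    Finset.card_univ, ← Nat.card_eq_fintype_card, nsmul_eq_mul] at e2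
  obtain ⟨s, hs'⟩ : ∃ s, s = th (Nat.card K) m E j + th (Nat.card K) m E 0 := ⟨_, rfl⟩
  rw [← hs'] at e1 e2
  obtain ⟨Q, hQd⟩ : ∃ Q, Q = Nat.card K := ⟨_, rfl⟩
  have hQ1 : 1 ≤ Q := by rw [hQd]; exact Nat.card_pos
  obtain ⟨m', rfl⟩ : ∃ m', m = m' + 1 := ⟨m - 1, by omega⟩
  have h6 : finrank K V - (m' + 1) = m' + 3 := by omega
  rw [h6, ← hQd] at h5
  have h7 : (∑ τ ∈ Finset.univ.erase (0 : K), (Nat.card {v : V // v ∈ Sv F τ ∧ v ∈ F.perp M} : ℤ)) =
      (Q : ℤ) ^ (m' + 3) - (Q : ℤ) ^ (m' + 1) := by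
    have h8 := congrArg (Nat.cast : ℕ → ℤ) h5
    push_cast at h8
    linear_combination h8
  have h9 : ((Q - 1 : ℕ) : ℤ) = (Q : ℤ) - 1 := by push_cast [Nat.cast_sub hQ1]; ring
  unfold cT at e2
  rw [h7, ← hQd, Nat.cast_mul, h9, Nat.add_sub_cancel] at e2
  rw [← hQd, hE, ← hQd] at e1
  push_cast at e1 e2
  -- `q ∣ s + Q + 1`
  have hsub : ¬ (q : ℤ) ∣ (Q : ℤ) - 1 := by rw [hQd]; exact not_dvd_sub hq1
  have e3 : (q : ℤ) ∣ s + Q + 1 := by
    have : ((Q : ℤ) - 1) * s + ((Q : ℤ) ^ 2 - 1) = ((Q : ℤ) - 1) * (s + Q + 1) := by ring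
    rw [this, hqp.dvd_mul] at e1
    exact e1.resolve_left hsub
  have e4 : (q : ℤ) ∣ ((Q : ℤ) - 1) * ((Q : ℤ) ^ m' * (((Q : ℤ) - 1) * (s + Q + 1) + ((Q : ℤ) + 1) * (Q + 1))) := by
    have : 2 * ((Q : ℤ) ^ (m' + 3) - Q ^ (m' + 1)) + ((Q : ℤ) - 1) * (((Q : ℤ) - 1) * Q ^ m' * s) =
        ((Q : ℤ) - 1) * ((Q : ℤ) ^ m' * (((Q : ℤ) - 1) * (s + Q + 1) + ((Q : ℤ) + 1) * (Q + 1))) := by ring
    rw [← this]
    exact e2
  rw [hqp.dvd_mul, hqp.dvd_mul] at e4
  rcases e4 with h | h | h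
  · exact hsub h
  · have h8 := hqp.dvd_of_dvd_pow h
    rw [hQd, Int.natCast_dvd_natCast] at h8
    exact hqK h8
  · have h8 := (dvd_add_right (e3.mul_left ((Q : ℤ) - 1))).1 h
    rw [hqp.dvd_mul, or_self, hQd] at h8
    exact hq2 (Int.natCast_dvd_natCast.1 (by push_cast; exact h8))

/-- **orthogonal groups, plus type** -/
theorem ht_plus (hE : E = 1) :
    HT p q m (fun j => Nat.card K ^ (m - j) + 1) (gn (Nat.card K))
      fun j => gn (Nat.card K) j * (Nat.card K ^ (m - j) + 1) * ((Nat.card K ^ j + 1) * gn (Nat.card K) (m - j)) := by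
  classical
  have := Fintype.ofFinite (F.Om m)
  have := Fintype.ofFinite S
  have hqp : Prime (q : ℤ) := Nat.prime_iff_prime_int.1 hq
  obtain ⟨_, hA⟩ := exists_act f hf hker m
  subst hE
  have hX : (fun j => Nat.card K ^ (m - j) + 1) = fun j => 1 * Nat.card K ^ (m - j) + 1 := by
    funext j; rw [one_mul]
  rw [hX]
  refine ht_of hp hq hP hA hpq fun j h1 h3 h4 => ?_
  by_contra hs
  rw [hq.dvd_mul, not_or] at h4
  have hab : ¬ (q : ℤ) ∣ th (Nat.card K) m 1 j - th (Nat.card K) m 1 0 := fun h => by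
    have := (th_dvd h3).1 h
    rw [one_mul] at this
    exact h4.1 this
  have e1 := sep_tp' hq hqK hq1 hQ hP f hN hm hA hs hab
  rw [Nat.cast_one, sub_self, add_zero, hqp.dvd_mul] at e1
  have e2 := e1.resolve_left (not_dvd_sub hq1)
  apply h4.2
  have e3 : th (Nat.card K) m 1 j + th (Nat.card K) m 1 0 = (((Nat.card K ^ j + 1) * gn (Nat.card K) (m - j) : ℕ) : ℤ) := by
    unfold th
    obtain ⟨i, rfl⟩ := Nat.exists_eq_add_of_le h3
    rw [Nat.sub_zero, gn_zero, Nat.add_sub_cancel_left, gn_add]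
    push_cast
    ring
  rw [e3, Int.natCast_dvd_natCast] at e2
  exact e2

end tests

end Cfsg.Agent.H47.DP
end

-- part: H47/DP/Rows
section
/-!
# S4612: two odd primes of unitary type in the symplectic and orthogonal groups (helper47)

* `psp_uni`, `podd_uni`, `pplus_uni`, `pminus_uni`.
-/

set_option autoImplicit false
set_option linter.unusedSectionVars false

open Cfsg Cfsg.Agent

namespace Cfsg.Agent.H47.DP

open Cfsg.Agent.H477.HC Cfsg.Agent.H477.HC.CForm Cfsg.Agent.H53.HC Module Cfsg.Agent.H317.PQ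
open Cfsg.Agent.H61.PQ (exists_char_prime exists_idx_of_prod)
open Cfsg.Agent.H358.A3 (PQ)
open Cfsg.Agent.H766.PQ (omPr omPr_surjective omPr_scal ne_two_of_order plus_step psp_core odd_core plus_core minus_core
  finrank_minus finrank_plus)

universe u v w

section pol

variable {K : Type u} [Field K] {V : Type v} [AddCommGroup V] [Module K V] [FiniteDimensional K V] {F : CForm K V}

theorem two_mul_le {W : Submodule K V} (hW : F.TS W) : 2 * finrank K W ≤ finrank K V := by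
  have h1 := finrank_perp F W
  have h2 := Submodule.finrank_mono hW.le_perp
  omega

theorem pol_quad [Finite V] [Finite K] (hQ : Quad F) {m e : ℕ} (hd : finrank K V = 2 * m + e)
    (hmax : ∀ W : Submodule K V, F.TS W → finrank K W ≤ m) (hex : ∃ M, M ∈ F.Om m) : Pol F m (Nat.card K ^ e) := by
  have h := pol_of hmax hex
  have e1 : Nat.card {t : K // F.T t = 0} = 1 := by
    rw [Nat.card_eq_one_iff_unique]
    exact ⟨⟨fun a b => Subtype.ext (by rw [← hQ.T a.1, ← hQ.T b.1, a.2, b.2])⟩, ⟨⟨0, F.T_zero⟩⟩⟩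
  have e2 : finrank K V - 2 * m = e := by omega
  rw [e1, e2, one_mul] at h
  exact h

end pol

section models

variable (K : Type u) [Field K] [Finite K]

theorem pol_sp (m : ℕ) : Pol (spF K m) m (Nat.card K ^ 1) := by
  obtain ⟨r, hr, hrK⟩ := exists_char_prime (K := K)
  have : Fact r.Prime := ⟨hr⟩
  have hfin : finrank K (Fin m ⊕ Fin m → K) = 2 * m := finrank_plus m
  have hex : ∃ M, M ∈ (spF K m).Om m := (spF_frame (K := K) (p := r) m 0).1
  have h := pol_of (F := spF K m) (m := m) (fun W hW => by have := two_mul_le hW; omega) hex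
  have e1 : Nat.card {t : K // (spF K m).T t = 0} = Nat.card K :=
    Nat.card_congr (Equiv.subtypeUnivEquiv fun t => rfl)
  rw [e1, hfin, Nat.sub_self, pow_zero, mul_one] at h
  rw [pow_one]
  exact h

theorem quad_plus (m : ℕ) : Quad (plusF K m) := ⟨fun _ => rfl, rfl, fun _ => rfl⟩

theorem pol_plus (m : ℕ) : Pol (plusF K m) m (Nat.card K ^ 0) := by
  obtain ⟨r, hr, hrK⟩ := exists_char_prime (K := K)
  have : Fact r.Prime := ⟨hr⟩
  have hfin : finrank K (Fin m ⊕ Fin m → K) = 2 * m := finrank_plus m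
  exact pol_quad (quad_plus K m) (by omega) (fun W hW => by have := two_mul_le hW; omega)
    (plusF_frame (K := K) (p := r) m 0).1

variable {K}

theorem quad_odd (h2 : (2 : K) ≠ 0) (m : ℕ) : Quad (oddF K m h2) := ⟨fun _ => rfl, rfl, fun _ => rfl⟩

theorem finrank_odd (m : ℕ) : finrank K (Unit ⊕ (Fin m ⊕ Fin m) → K) = 2 * m + 1 := by
  simp only [_root_.Module.finrank_fintype_fun_eq_card, _root_.Fintype.card_sum, _root_.Fintype.card_unique, _root_.Fintype.card_fin]; ring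

theorem pol_odd (h2 : (2 : K) ≠ 0) (m : ℕ) : Pol (oddF K m h2) m (Nat.card K ^ 1) := by
  obtain ⟨r, hr, hrK⟩ := exists_char_prime (K := K)
  have : Fact r.Prime := ⟨hr⟩
  exact pol_quad (quad_odd h2 m) (finrank_odd m) (fun W hW => by
      have := two_mul_le hW
      rw [finrank_odd] at this
      omega)
    (oddF_frame (K := K) (p := r) h2 m 0).1

variable {a b : K} (hab : ∀ z₁ z₂ : K, z₁ ^ 2 + a * z₁ * z₂ + b * z₂ ^ 2 = 0 → z₁ = 0 ∧ z₂ = 0)

theorem quad_minus (m : ℕ) : Quad (minusF K m a b hab) := ⟨fun _ => rfl, rfl, fun _ => rfl⟩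

theorem pol_minus (m : ℕ) : Pol (minusF K m a b hab) m (Nat.card K ^ 2) := by
  obtain ⟨r, hr, hrK⟩ := exists_char_prime (K := K)
  have : Fact r.Prime := ⟨hr⟩
  exact pol_quad (quad_minus hab m) (by rw [finrank_minus]; ring) (fun W hW => H749.Two.minus_witt K a b hab m W hW)
    (minusF_frame (K := K) (p := r) hab m 0).1

end models

section mains

variable {K : Type u} [Field K] [Finite K] {m p q d d' : ℕ} (hp : p.Prime) (hq : q.Prime) (hd0 : 0 < d) (hlt : d < d')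
  (hno : ∀ c, Odd c → d' ≠ d * c) (hd : orderOf ((Nat.card K : ℕ) : ZMod p) = 2 * d)
  (hd' : orderOf ((Nat.card K : ℕ) : ZMod q) = 2 * d')

theorem not_sub_one {x r e : ℕ} (hx : 1 ≤ x) (he : 0 < e) (h : orderOf ((x : ℕ) : ZMod r) = 2 * e) : ¬ r ∣ x - 1 := by
  intro h1
  have := (dvd_sub_one_iff (p := r) (x := x) hx 1).1 (by rwa [pow_one])
  rw [h] at this
  have := Nat.le_of_dvd one_pos this
  omega

theorem idx_dvd {x r e i : ℕ} (hx : 1 ≤ x) (h : orderOf ((x : ℕ) : ZMod r) = 2 * e) (h1 : r ∣ x ^ (2 * i) - 1) : e ∣ i := by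
  rw [dvd_sub_one_iff hx, h] at h1
  exact Nat.dvd_of_mul_dvd_mul_left two_pos h1

include hp hq hd0 hlt hno hd hd'

/-- symplectic groups -/
theorem psp_main (hpS : p ∣ Nat.card (PSp m K)) (h : B0 p (PSp m K) ⊆ B0 q (PSp m K)) : False := by
  classical
  have hQ2 : 2 ≤ Nat.card K := Finite.one_lt_card
  have hpK : ¬ p ∣ Nat.card K := not_dvd_of_ord hp (by omega)
  have hqK : ¬ q ∣ Nat.card K := not_dvd_of_ord hq (by omega)
  have hdm : d ≤ m := by
    have hd1 : p ∣ Nat.card (Matrix.symplecticGroup (Fin m) K) := hpS.trans (Subgroup.card_quotient_dvd_card _)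
    rw [Nat.card_congr (isoSp m K).toEquiv, card_spF] at hd1
    obtain ⟨i, h0, hi, h2⟩ := exists_idx_of_prod hp
      ((hp.dvd_mul.1 hd1).resolve_left fun h => hpK (hp.dvd_of_dvd_pow h))
    exact (Nat.le_of_dvd h0 (idx_dvd (by omega) hd h2)).trans hi
  let f : (⊤ : Subgroup (spF K m).iso) →* PSp m K :=
    (QuotientGroup.mk' (Subgroup.center (Matrix.symplecticGroup (Fin m) K))).comp
      ((isoSp m K).symm.toMonoidHom.comp (Subgroup.subtype ⊤))
  have hf : Function.Surjective f := by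
    intro x
    obtain ⟨y, rfl⟩ := QuotientGroup.mk_surjective x
    refine ⟨⟨isoSp m K y, Subgroup.mem_top _⟩, ?_⟩
    change QuotientGroup.mk ((isoSp m K).symm (isoSp m K y)) = _
    rw [MulEquiv.symm_apply_apply]
  have hker : ∀ z ∈ f.ker, ∃ a : K, ∀ v, ((z : (spF K m).iso) : (Fin m ⊕ Fin m → K) ≃ₗ[K] (Fin m ⊕ Fin m → K)) v =
      a • v := by
    intro z hz
    have h1 : (isoSp m K).symm (z : (spF K m).iso) ∈ Subgroup.center (Matrix.symplecticGroup (Fin m) K) :=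
      (QuotientGroup.eq_one_iff _).1 (MonoidHom.mem_ker.1 hz)
    have h2 : (z : (spF K m).iso) = isoSp m K ((isoSp m K).symm z) := ((isoSp m K).apply_symm_apply _).symm
    rw [h2]
    rcases Cfsg.Agent.ClassicalGeometry.SympInvolutions.center_eq h1 with h | h
    · refine ⟨1, fun v => ?_⟩
      rw [isoSp_apply, h, Matrix.one_mulVec, one_smul]
    · refine ⟨-1, fun v => ?_⟩
      rw [isoSp_apply, h, Matrix.neg_mulVec, Matrix.one_mulVec, neg_one_smul]
  have hHT := ht_lin hp hq hqK (not_sub_one (by omega) (by omega) hd') (pol_sp K m) f hf hker h (κ := 1) one_ne_zero rfl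
    (fun v hv => by
      obtain ⟨g, hg⟩ := exists_tv (F := spF K m) (κ := 1)
        (by change (1 : K) + -1 * 1 = 0; ring) (fun _ => rfl) (sing_of_Q hv.2)
      exact ⟨g, Subgroup.mem_top _, hg⟩)
  refine num_quad hp hq (ne_two_of_order hd0 hd) hQ2 hd hd' hd0 hlt hno le_rfl (by norm_num)
    ⟨m - d + 1, by omega, by omega, ?_⟩ hHT
  have e1 : m - (m - d + 1) + 1 = d := by omega
  rw [e1]
  exact add_one_of_ord hp hd hd0

/-- orthogonal groups in odd dimension -/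
theorem podd_main (ho : Odd (Nat.card K)) (hm : 3 ≤ m) (hpS : p ∣ Nat.card (POmega K (quadFormOdd m K)))
    (h : B0 p (POmega K (quadFormOdd m K)) ⊆ B0 q (POmega K (quadFormOdd m K))) : False := by
  classical
  obtain ⟨r, hr, hrK⟩ := exists_char_prime (K := K)
  have : Fact r.Prime := ⟨hr⟩
  have h2 := two_ne_zero_of_odd (K := K) (p := r) ho
  have hr2 : ringChar K ≠ 2 := by
    rw [ringChar.eq K r]
    exact char_ne_two_of_odd (K := K) (p := r) ho
  have hp2 := ne_two_of_order hd0 hd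
  have hQ2 : 2 ≤ Nat.card K := Finite.one_lt_card
  have hpK : ¬ p ∣ Nat.card K := not_dvd_of_ord hp (by omega)
  have hqK : ¬ q ∣ Nat.card K := not_dvd_of_ord hq (by omega)
  have hdm : d ≤ m := by
    have hd1 : p ∣ Nat.card (isometryGroup K (quadFormOdd m K)) :=
      hpS.trans ((Subgroup.card_quotient_dvd_card _).trans (Subgroup.card_subgroup_dvd_card _))
    have hd2 : p ∣ Nat.card (CForm.oddF K m h2).iso := by
      rwa [← Nat.card_congr (isoQuad (CForm.oddF K m h2) (odd_hB K m h2)).toEquiv]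
    rw [card_oddF K h2 ho] at hd2
    have h3 : p ∣ ∏ i ∈ Finset.range m, (Nat.card K ^ (2 * (i + 1)) - 1) := by
      rcases hp.dvd_mul.1 hd2 with h | h
      · rcases hp.dvd_mul.1 h with h' | h'
        · exact absurd ((Nat.prime_dvd_prime_iff_eq hp Nat.prime_two).1 h') hp2
        · exact absurd (hp.dvd_of_dvd_pow h') hpK
      · exact h
    obtain ⟨i, h0, hi, h4⟩ := exists_idx_of_prod hp h3
    exact (Nat.le_of_dvd h0 (idx_dvd (by omega) hd h4)).trans hi
  have hHT := ht_odd hp hq hqK (not_sub_one (by omega) (by omega) hd') (quad_odd h2 m) (pol_odd h2 m)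
    (omPr (oddF K m h2) (odd_hB K m h2)) (omPr_surjective _ _)
    (fun z hz => by
      rcases omPr_scal (oddF K m h2) (odd_hB K m h2) (fun z hz => cen_odd K h2 (by omega) z hz) hz with h | h
      · exact ⟨1, fun v => by rw [h, one_smul]⟩
      · exact ⟨-1, fun v => by rw [h, neg_one_smul]⟩) h le_rfl (by rw [finrank_odd]; omega) hr2 (finrank_odd m) (pow_one _)
  refine num_quad hp hq hp2 hQ2 hd hd' hd0 hlt hno le_rfl (by norm_num)
    ⟨m - d + 1, by omega, by omega, ?_⟩ hHT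
  have e1 : m - (m - d + 1) + 1 = d := by omega
  rw [e1]
  exact add_one_of_ord hp hd hd0

/-- groups covered by `Ω⁻` -/
theorem minus_gen {a b : K} (hab : ∀ z₁ z₂ : K, z₁ ^ 2 + a * z₁ * z₂ + b * z₂ ^ 2 = 0 → z₁ = 0 ∧ z₂ = 0) (hm : 1 ≤ m)
    {S : Type w} [Group S] [Finite S] (f : ↥(commutator (minusF K m a b hab).iso) →* S) (hf : Function.Surjective f)
    (hker : ∀ z ∈ f.ker, ∃ a' : K, ∀ v, ((z : (minusF K m a b hab).iso) :
      ((Fin m ⊕ Fin m) ⊕ Fin 2 → K) ≃ₗ[K] ((Fin m ⊕ Fin m) ⊕ Fin 2 → K)) v = a' • v)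
    (hex : (2 ≤ d ∧ d ≤ m + 1) ∨ (d = 1 ∧ 2 ≤ m)) (h : B0 p S ⊆ B0 q S) : False := by
  classical
  have hQ2 : 2 ≤ Nat.card K := Finite.one_lt_card
  have hqK : ¬ q ∣ Nat.card K := not_dvd_of_ord hq (by omega)
  have hd'2 : 2 ≤ d' := by omega
  have hq2 : ¬ q ∣ Nat.card K + 1 := by
    intro h1
    obtain ⟨a, -, h2⟩ := dvd_add_one_mul (x := Nat.card K) (t := 1) hq hd' (by omega) (by rwa [pow_one])
    have := Nat.le_of_dvd one_pos (Dvd.intro _ h2.symm)
    omega
  have hHT := ht_minus hp hq hqK (not_sub_one (by omega) (by omega) hd') (quad_minus hab m) (pol_minus hab m) f hf hker h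
    le_rfl (by rw [finrank_minus]; omega) (by rw [finrank_minus]; ring) rfl hq2
  refine num_quad hp hq (ne_two_of_order hd0 hd) hQ2 hd hd' hd0 hlt hno (by norm_num) le_rfl ?_ hHT
  rcases hex with ⟨h1, h2⟩ | ⟨h1, h2⟩
  · refine ⟨m + 2 - d, by omega, by omega, ?_⟩
    have e1 : m - (m + 2 - d) + 2 = d := by omega
    rw [e1]
    exact add_one_of_ord hp hd hd0
  · refine ⟨m - 1, by omega, by omega, ?_⟩
    have e1 : m - (m - 1) + 2 = 3 := by omega
    rw [e1, dvd_add_one]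
    have h3 := add_one_of_ord hp hd hd0
    rw [h1, dvd_add_one, pow_one] at h3
    rw [h3]
    exact Odd.neg_one_pow ⟨1, rfl⟩

/-- orthogonal groups of minus type -/
theorem pminus_main {a b : K} (hab : ∀ z₁ z₂ : K, z₁ ^ 2 + a * z₁ * z₂ + b * z₂ ^ 2 = 0 → z₁ = 0 ∧ z₂ = 0) (hm : 3 ≤ m)
    (hpS : p ∣ Nat.card (POmega K (quadFormMinus m K a b)))
    (h : B0 p (POmega K (quadFormMinus m K a b)) ⊆ B0 q (POmega K (quadFormMinus m K a b))) : False := by
  classical
  have hp2 := ne_two_of_order hd0 hd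
  have hQ2 : 2 ≤ Nat.card K := Finite.one_lt_card
  have hpK : ¬ p ∣ Nat.card K := not_dvd_of_ord hp (by omega)
  have hdm : d ≤ m + 1 := by
    have hd1 : p ∣ Nat.card (isometryGroup K (quadFormMinus m K a b)) :=
      hpS.trans ((Subgroup.card_quotient_dvd_card _).trans (Subgroup.card_subgroup_dvd_card _))
    have hd2 : p ∣ Nat.card (CForm.minusF K m a b hab).iso := by
      rwa [← Nat.card_congr (isoQuad (CForm.minusF K m a b hab) (minus_hB K m a b hab)).toEquiv]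
    rw [card_minusF K] at hd2
    rcases hp.dvd_mul.1 hd2 with h | h
    · rcases hp.dvd_mul.1 h with h' | h'
      · rcases hp.dvd_mul.1 h' with h'' | h''
        · exact absurd ((Nat.prime_dvd_prime_iff_eq hp Nat.prime_two).1 h'') hp2
        · exact absurd (hp.dvd_of_dvd_pow h'') hpK
      · obtain ⟨a', -, h3⟩ := dvd_add_one_mul hp hd hd0 h'
        exact Nat.le_of_dvd (by omega) (Dvd.intro _ h3.symm)
    · obtain ⟨i, h0, hi, h4⟩ := exists_idx_of_prod hp h
      have := Nat.le_of_dvd h0 (idx_dvd (by omega) hd h4)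
      omega
  refine minus_gen hp hq hd0 hlt hno hd hd' hab (by omega) (omPr (minusF K m a b hab) (minus_hB K m a b hab))
    (omPr_surjective _ _) (fun z hz => ?_) ?_ h
  · rcases omPr_scal (minusF K m a b hab) (minus_hB K m a b hab) (fun z hz => cen_minus K (by omega) a b hab z hz) hz with
      h | h
    · exact ⟨1, fun v => by rw [h, one_smul]⟩
    · exact ⟨-1, fun v => by rw [h, neg_one_smul]⟩
  · by_cases h1 : d = 1
    · exact Or.inr ⟨h1, by omega⟩
    · exact Or.inl ⟨by omega, hdm⟩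

end mains

theorem B0_of_PQ {p q : ℕ} (hp : p.Prime) (hq : q.Prime) {S : Type w} [Group S] [Finite S] (h : PQ q p S) :
    B0 p S ⊆ B0 q S := by
  obtain ⟨M, hM⟩ := Blocks.ExistsModular.exists_isPModular hp
  intro χ hχ
  rw [B0_eq hp hM] at hχ
  exact h M hM ⟨fun _ : S => (1 : ℂ), Blocks.Basic.isIrrCharacter_one⟩ χ hχ (one_mem_B0 S hq)

/-- an anisotropic binary form -/
theorem exists_ab (K : Type u) [Field K] [Finite K] :
    ∃ a b : K, ∀ z₁ z₂ : K, z₁ ^ 2 + a * z₁ * z₂ + b * z₂ ^ 2 = 0 → z₁ = 0 ∧ z₂ = 0 := by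
  have h1 : ¬ Function.Surjective (fun x : K => x ^ 2 - x) := by
    intro h
    have h2 := (Finite.injective_iff_surjective (f := fun x : K => x ^ 2 - x)).2 h
    have h3 : (0 : K) = 1 := h2 (by simp)
    exact zero_ne_one h3
  obtain ⟨c, hc⟩ := not_forall.1 h1
  refine ⟨-1, -c, fun z₁ z₂ h => ?_⟩
  have h2 : z₂ = 0 := by
    by_contra h0
    apply hc
    refine ⟨z₁ / z₂, ?_⟩
    simp only
    field_simp
    linear_combination h
  rw [h2] at h
  refine ⟨?_, h2⟩
  have h3 : z₁ ^ 2 = 0 := by linear_combination h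
  exact pow_eq_zero_iff two_ne_zero |>.1 h3

section plus

variable {K : Type u} [Field K] [Finite K] {m p q d d' : ℕ} (hp : p.Prime) (hq : q.Prime) (hpq : p ≠ q) (hd0 : 0 < d)
  (hlt : d < d') (hno : ∀ c, Odd c → d' ≠ d * c) (hd : orderOf ((Nat.card K : ℕ) : ZMod p) = 2 * d)
  (hd' : orderOf ((Nat.card K : ℕ) : ZMod q) = 2 * d')

include hp hq hpq hd0 hlt hno hd hd'

/-- orthogonal groups of plus type -/
theorem pplus_main (hm : 4 ≤ m) (hqS : q ∣ Nat.card (POmega K (quadFormPlus m K)))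
    (h : PQ q p (POmega K (quadFormPlus m K))) : False := by
  classical
  have hq2 := ne_two_of_order (Q := Nat.card K) (q := q) (d := d') (by omega) hd'
  have hQ2 : 2 ≤ Nat.card K := Finite.one_lt_card
  have hqK : ¬ q ∣ Nat.card K := not_dvd_of_ord hq (by omega)
  have hB := B0_of_PQ hp hq h
  have hdm : d' + 1 ≤ m := by
    have hd1 : q ∣ Nat.card (isometryGroup K (quadFormPlus m K)) :=
      hqS.trans ((Subgroup.card_quotient_dvd_card _).trans (Subgroup.card_subgroup_dvd_card _))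
    have hd2 : q ∣ Nat.card (CForm.plusF K m).iso := by
      rwa [← Nat.card_congr (isoQuad (CForm.plusF K m) (plus_hB K m)).toEquiv]
    rw [card_plusF K (by omega)] at hd2
    rcases hq.dvd_mul.1 hd2 with h | h
    · rcases hq.dvd_mul.1 h with h' | h'
      · rcases hq.dvd_mul.1 h' with h'' | h''
        · exact absurd ((Nat.prime_dvd_prime_iff_eq hq Nat.prime_two).1 h'') hq2
        · exact absurd (hq.dvd_of_dvd_pow h'') hqK
      · rw [dvd_sub_one_iff (by omega), hd'] at h'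
        have := Nat.le_of_dvd (by omega) h'
        omega
    · obtain ⟨i, h0, hi, h4⟩ := exists_idx_of_prod hq h
      have := Nat.le_of_dvd h0 (idx_dvd (by omega) hd' h4)
      omega
  have hHT := ht_plus hp hq hqK (not_sub_one (by omega) (by omega) hd') (quad_plus K m) (pol_plus K m)
    (omPr (plusF K m) (plus_hB K m)) (omPr_surjective _ _)
    (fun z hz => by
      rcases omPr_scal (plusF K m) (plus_hB K m) (fun z hz => cen_plus K (by omega) z hz) hz with h | h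
      · exact ⟨1, fun v => by rw [h, one_smul]⟩
      · exact ⟨-1, fun v => by rw [h, neg_one_smul]⟩) hB le_rfl (by rw [finrank_plus]; omega) (pow_zero _)
  -- the group of minus type
  have hH : ∀ l, m = (d' - 1) + (l + 2) → 1 ≤ l → ((2 ≤ d ∧ d ≤ l + 1) ∨ (d = 1 ∧ 2 ≤ l)) → False := by
    intro l hl hl1 hex
    obtain ⟨a, b, hab⟩ := exists_ab K
    have e1 : 2 * d' = 2 * ((d' - 1) + 1) := by (clear * - hlt; omega)
    have h1 := plus_step (K := K) (d := d' - 1) (l := l) hl hm hq hp hpq.symm (by rw [hd', e1]) hab h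
    have : Finite ↥(commutator (minusF K l a b hab).iso) := by
      have : Finite (minusF K l a b hab).iso := Cfsg.Agent.H61.PQ.finite_iso' (minusF K l a b hab)
      infer_instance
    refine minus_gen hp hq hd0 hlt hno hd hd' hab hl1 (MonoidHom.id _) Function.surjective_id (fun z hz => ?_) hex
      (B0_of_PQ hp hq h1)
    have hz1 : z = 1 := hz
    refine ⟨1, fun v => ?_⟩
    rw [hz1, one_smul]
    rfl
  by_cases hd1 : d = 1
  · have he : Even d' := by
      by_contra h1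
      rw [Nat.not_even_iff_odd] at h1
      exact hno d' h1 (by rw [hd1, one_mul])
    by_cases hc : Even m ∨ d' ≠ 2
    · refine num_plus1 hp hq hQ2 ?_ hd' (by omega) he hm hc hHT
      have h3 := add_one_of_ord hp hd hd0
      rwa [hd1, pow_one] at h3
    · rw [not_or, not_not, Nat.not_even_iff_odd] at hc
      obtain ⟨⟨c, hc⟩, hc'⟩ := hc
      exact hH (m - 3) (by omega) (by omega) (Or.inr ⟨hd1, by omega⟩)
  · by_cases hk : m - d' < d
    · exact num_plus (k := m - d') hp hq hQ2 hd hd' hlt (by omega) hk (by omega) hHT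
    · exact hH (m - d' - 1) (by omega) (by omega) (Or.inl ⟨by omega, by omega⟩)

end plus

/-! ### the pairs -/

theorem uni_pair {Q : ℕ} {S : Type w} [Group S] [Finite S] {p q : ℕ} (hp : p.Prime) (hq : q.Prime) (hpq : p ≠ q)
    (hpQ : ¬ p ∣ Q) (hqQ : ¬ q ∣ Q) (hpe : Even (orderOf ((Q : ℕ) : ZMod p))) (hqe : Even (orderOf ((Q : ℕ) : ZMod q)))
    (hpS : p ∣ Nat.card S) (hqS : q ∣ Nat.card S)
    (core : ∀ {p q d c : ℕ}, q.Prime → p.Prime → q ≠ p → 0 < d → Odd c → orderOf ((Q : ℕ) : ZMod q) = 2 * (c * d) →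
      orderOf ((Q : ℕ) : ZMod p) = 2 * d → q ∣ Nat.card S → ¬ PQ q p S)
    (main : ∀ {p q d d' : ℕ}, p.Prime → q.Prime → p ≠ q → 0 < d → d < d' → (∀ c, Odd c → d' ≠ d * c) →
      orderOf ((Q : ℕ) : ZMod p) = 2 * d → orderOf ((Q : ℕ) : ZMod q) = 2 * d' → p ∣ Nat.card S → q ∣ Nat.card S →
      Same p q S → False) : ¬ Same p q S := by
  have key : ∀ {p q d d' : ℕ}, p.Prime → q.Prime → p ≠ q → 0 < d → d ≤ d' →
      orderOf ((Q : ℕ) : ZMod p) = 2 * d → orderOf ((Q : ℕ) : ZMod q) = 2 * d' → p ∣ Nat.card S → q ∣ Nat.card S →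
      ¬ Same p q S := by
    intro p q d d' hp hq hpq hd0 hle hd hd' hpS hqS h
    by_cases hc : ∃ c, Odd c ∧ d' = d * c
    · obtain ⟨c, hc, hc'⟩ := hc
      exact core hq hp hpq.symm hd0 hc (by rw [hd', hc', mul_comm d c]) hd hqS (H358.A3.PQ.of_same hp h.symm)
    · push Not at hc
      rcases Nat.lt_or_ge d d' with h1 | h1
      · exact main hp hq hpq hd0 h1 hc hd hd' hpS hqS h
      · exact hc 1 odd_one (by omega)
  obtain ⟨d, hd⟩ := hpe
  obtain ⟨d', hd'⟩ := hqe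
  have h1 := ord_pos hp hpQ
  have h2 := ord_pos hq hqQ
  rcases le_total d d' with h | h
  · exact key hp hq hpq (by omega) h (by omega) (by omega) hpS hqS
  · exact fun hs => key hq hp hpq.symm (by omega) h (by omega) (by omega) hqS hpS hs.symm

section final

variable {K : Type u} [Field K] [Finite K] {m p q : ℕ} (hp : p.Prime) (hq : q.Prime) (hpq : p ≠ q)
  (hpK : ¬ p ∣ Nat.card K) (hqK : ¬ q ∣ Nat.card K) (hpe : Even (orderOf ((Nat.card K : ℕ) : ZMod p)))
  (hqe : Even (orderOf ((Nat.card K : ℕ) : ZMod q)))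

include hp hq hpq hpK hqK hpe hqe

/-- **symplectic groups**: two primes of unitary type -/
theorem psp_uni (hpS : p ∣ Nat.card (PSp m K)) (hqS : q ∣ Nat.card (PSp m K)) : ¬ Same p q (PSp m K) :=
  uni_pair hp hq hpq hpK hqK hpe hqe hpS hqS (fun hq hp hqp hd hc h1 h2 hS => psp_core hq hp hqp hd hc h1 h2 hS)
    (fun hp hq _ hd0 hlt hno h1 h2 hpS _ h => psp_main hp hq hd0 hlt hno h1 h2 hpS (Set.Subset.antisymm_iff.1 h).1)

/-- **orthogonal groups in odd dimension**: two primes of unitary type -/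
theorem podd_uni (ho : Odd (Nat.card K)) (hm : 3 ≤ m) (hpS : p ∣ Nat.card (POmega K (quadFormOdd m K)))
    (hqS : q ∣ Nat.card (POmega K (quadFormOdd m K))) : ¬ Same p q (POmega K (quadFormOdd m K)) :=
  uni_pair hp hq hpq hpK hqK hpe hqe hpS hqS (fun hq hp hqp hd hc h1 h2 hS => odd_core ho hm hq hp hqp hd hc h1 h2 hS)
    (fun hp hq _ hd0 hlt hno h1 h2 hpS _ h => podd_main hp hq hd0 hlt hno h1 h2 ho hm hpS (Set.Subset.antisymm_iff.1 h).1)

/-- **orthogonal groups of plus type**: two primes of unitary type -/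
theorem pplus_uni (hm : 4 ≤ m) (hpS : p ∣ Nat.card (POmega K (quadFormPlus m K)))
    (hqS : q ∣ Nat.card (POmega K (quadFormPlus m K))) : ¬ Same p q (POmega K (quadFormPlus m K)) :=
  uni_pair hp hq hpq hpK hqK hpe hqe hpS hqS (fun hq hp hqp hd hc h1 h2 hS => plus_core hm hq hp hqp hd hc h1 h2 hS)
    (fun hp hq hpq hd0 hlt hno h1 h2 _ hqS h => pplus_main hp hq hpq hd0 hlt hno h1 h2 hm hqS
      (H358.A3.PQ.of_same hp h.symm))

/-- **orthogonal groups of minus type**: two primes of unitary type -/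
theorem pminus_uni {a b : K} (hab : ∀ z₁ z₂ : K, z₁ ^ 2 + a * z₁ * z₂ + b * z₂ ^ 2 = 0 → z₁ = 0 ∧ z₂ = 0) (hm : 3 ≤ m)
    (hpS : p ∣ Nat.card (POmega K (quadFormMinus m K a b))) (hqS : q ∣ Nat.card (POmega K (quadFormMinus m K a b))) :
    ¬ Same p q (POmega K (quadFormMinus m K a b)) :=
  uni_pair hp hq hpq hpK hqK hpe hqe hpS hqS
    (fun hq hp hqp hd hc h1 h2 hS => minus_core hm hab hq hp hqp hd hc h1 h2 hS)
    (fun hp hq _ hd0 hlt hno h1 h2 hpS _ h => pminus_main hp hq hd0 hlt hno h1 h2 hab hm hpS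
      (Set.Subset.antisymm_iff.1 h).1)

end final

end Cfsg.Agent.H47.DP
end

-- part: H766/PQ/NCOm
section
/-!
# S4612: the non-core cases of the symplectic and orthogonal groups, from the Hecke test of helper47 (helper766)
-/

set_option autoImplicit false
set_option linter.unusedSectionVars false

open Cfsg Cfsg.Agent

namespace Cfsg.Agent.H766.PQ

open Cfsg.Agent.H317.PQ

theorem ncSp : NCSp := by
  intro K _ _ m p q d d' hm hp hq hd0 hdd ho ho' hno hpG hqG
  refine H47.DP.psp_uni hp hq ?_ (not_dvd_of_order hp hd0 ho) (not_dvd_of_order hq (by omega) ho') (by rw [ho]; simp only [_root_.even_two, _root_.Even.mul_right])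
    (by rw [ho']; simp only [_root_.even_two, _root_.Even.mul_right]) hpG hqG
  rintro rfl
  rw [ho] at ho'
  omega

theorem ncOdd : NCOdd := by
  intro K _ _ m p q d d' hodd hm hp hq hd0 hdd ho ho' hno hpG hqG
  refine H47.DP.podd_uni hp hq ?_ (not_dvd_of_order hp hd0 ho) (not_dvd_of_order hq (by omega) ho') (by rw [ho]; simp only [_root_.even_two, _root_.Even.mul_right])
    (by rw [ho']; simp only [_root_.even_two, _root_.Even.mul_right]) hodd hm hpG hqG
  rintro rfl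
  rw [ho] at ho'
  omega

theorem ncPlus : NCPlus := by
  intro K _ _ m p q d d' hm hp hq hd0 hdd ho ho' hno hpG hqG
  refine H47.DP.pplus_uni hp hq ?_ (not_dvd_of_order hp hd0 ho) (not_dvd_of_order hq (by omega) ho') (by rw [ho]; simp only [_root_.even_two, _root_.Even.mul_right])
    (by rw [ho']; simp only [_root_.even_two, _root_.Even.mul_right]) hm hpG hqG
  rintro rfl
  rw [ho] at ho'
  omega

theorem ncMinus : NCMinus := by
  intro K _ _ m p q d d' a b hm hab hp hq hd0 hdd ho ho' hno hpG hqG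
  refine H47.DP.pminus_uni hp hq ?_ (not_dvd_of_order hp hd0 ho) (not_dvd_of_order hq (by omega) ho')
    (by rw [ho]; simp only [_root_.even_two, _root_.Even.mul_right]) (by rw [ho']; simp only [_root_.even_two, _root_.Even.mul_right]) hab hm hpG hqG
  rintro rfl
  rw [ho] at ho'
  omega

end Cfsg.Agent.H766.PQ
end

-- part: H572/PQ/NCU
section
/-!
# S4612: `PSU_n(s)`, both primes odd of unitary type, the non-core case (helper572)

The Hecke test of helper47 on the dual polar graph.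

* `ncu_gt` : `ord_p s = 2 e`, `ord_q s = 2 e'`, `1 < e < e'` odd, `e ∤ e'`;
* `ncu_four` : the same with `e = 1` allowed, `n ≥ 4`.
-/

set_option autoImplicit false
set_option linter.unusedSectionVars false

open Cfsg Cfsg.Agent

namespace Cfsg.Agent.H572.PQ

open Cfsg.Agent.H317.PQ
open Cfsg.Agent.H477.HC Cfsg.Agent.H477.HC.CForm Cfsg.Agent.H53.HC Module Cfsg.Agent.H47.DP Cfsg.Agent.H61.PQ

/-- the polar space of the Hermitian form -/
theorem pol_herm {K : Type} [Field K] [Fintype K] {s m f : ℕ} (hF : Fintype.card K = s ^ 2) (hq : Nat.card K = s ^ 2)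
    (hf : f ≤ 1) : Pol (hermF K hq (m + (m + f))) m (s ^ (2 * f + 1)) := by
  obtain ⟨r, hr, hrK⟩ := exists_char_prime (K := K)
  have : Fact r.Prime := ⟨hr⟩
  obtain ⟨⟨W₀, hW₀⟩, -⟩ := hermF_frame (K := K) (p := r) hq m f
  have hmax : ∀ W : Submodule K (Fin (m + (m + f)) → K), (hermF K hq (m + (m + f))).TS W → finrank K W ≤ m := by
    intro W hW
    have h1 := finrank_perp (hermF K hq (m + (m + f))) W
    have h2 := Submodule.finrank_mono hW.le_perp
    rw [Module.finrank_fin_fun] at h1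
    omega
  have h1 := pol_of (F := hermF K hq (m + (m + f))) hmax ⟨W₀, hW₀⟩
  have h2 : Nat.card {t : K // (hermF K hq (m + (m + f))).T t = 0} = s :=
    H638.PQ.PSUOne.card_trace_zero hF
  rw [h2, Module.finrank_fin_fun, hq] at h1
  have h3 : s * (s ^ 2) ^ (m + (m + f) - 2 * m) = s ^ (2 * f + 1) := by
    rw [show m + (m + f) - 2 * m = f by omega, ← pow_mul, pow_succ, mul_comm]
  rwa [h3] at h1

/-- transvections -/
theorem exists_trv {K : Type} [Field K] [Fintype K] {s n : ℕ} (hF : Fintype.card K = s ^ 2) (hq : Nat.card K = s ^ 2) :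
    ∃ κ : K, κ ≠ 0 ∧ (hermF K hq n).T (-κ⁻¹) = 0 ∧ ∀ v ∈ Sv (hermF K hq n) 0,
      ∃ g : (hermF K hq n).iso, g ∈ H328.Gow.sg (hermF K hq n) ∧
        ∀ x, (g : (Fin n → K) ≃ₗ[K] (Fin n → K)) x = tv (hermF K hq n) κ v x := by
  have hs2 := CForm.two_le_of_card hq
  obtain ⟨t, ht, ht0⟩ : ∃ t : K, t + t ^ s = 0 ∧ t ≠ 0 := by
    by_contra hcon
    push Not at hcon
    have h1 := H638.PQ.PSUOne.card_trace_zero hF
    have h2 : Subsingleton {x : K // x + x ^ s = 0} := ⟨fun a b => Subtype.ext ((hcon a a.2).trans (hcon b b.2).symm)⟩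
    have h3 : Nat.card {x : K // x + x ^ s = 0} ≤ 1 := Finite.card_le_one_iff_subsingleton.2 h2
    omega
  have hts : t ^ s = -t := by linear_combination ht
  refine ⟨-t⁻¹, neg_ne_zero.2 (inv_ne_zero ht0), ?_, fun v hv => ?_⟩
  · have h1 : -(-t⁻¹)⁻¹ = t := by rw [inv_neg, inv_inv, neg_neg]
    rw [h1]
    exact ht
  · have hsing := sing_of_Q hv.2
    have hσ : (hermF K hq n).σ (-t⁻¹) = t⁻¹ := by
      show powHom hq (-t⁻¹) = t⁻¹
      rw [map_neg, map_inv₀, powHom_apply, hts, inv_neg, neg_neg]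
    obtain ⟨g, hg⟩ := exists_tv (F := hermF K hq n) (κ := -t⁻¹) (by
        rw [hσ]
        show t⁻¹ + 1 * -t⁻¹ = 0
        ring) (fun a => by
        rw [hσ]
        show t⁻¹ * (a * powHom hq a) + (t⁻¹ * (a * powHom hq a)) ^ s = 0
        have h1 : (t⁻¹ * (a * powHom hq a)) ^ s = powHom hq (t⁻¹ * (a * powHom hq a)) := (powHom_apply hq _).symm
        rw [h1, map_mul, map_mul, powHom_powHom, map_inv₀, powHom_apply hq t, hts, inv_neg]
        ring) hsing
    refine ⟨g, ?_, hg⟩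
    rw [H328.Gow.mem_sg]
    have h1 : ((g : (Fin n → K) ≃ₗ[K] (Fin n → K)) : (Fin n → K) →ₗ[K] (Fin n → K)) =
        LinearMap.transvection (-t⁻¹ • (hermF K hq n).lf v) v := by
      apply LinearMap.ext
      intro x
      rw [LinearMap.transvection.apply]
      exact hg x
    rw [h1, LinearMap.transvection.det]
    show 1 + -t⁻¹ * (hermF K hq n).B v v = 1
    rw [hsing.2, mul_zero, add_zero]

/-- **`1 < e`** -/
theorem ncu_gt {K : Type} [Field K] [Fintype K] {n s p q e e' : ℕ} (hF : Fintype.card K = s ^ 2) (hn : 3 ≤ n)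
    (hp : p.Prime) (hq : q.Prime) (hp2 : p ≠ 2) (he : Odd e) (hee : e < e') (ho : orderOf ((s : ℕ) : ZMod p) = 2 * e)
    (ho' : orderOf ((s : ℕ) : ZMod q) = 2 * e') (he1 : 1 < e) (hno : ¬ e ∣ e') (hd : p ∣ Nat.card (PSU n K s)) :
    ¬ Same p q (PSU n K s) := by
  classical
  intro hS
  have hK : Nat.card K = s ^ 2 := by rw [Nat.card_eq_fintype_card, hF]
  have hs2 := CForm.two_le_of_card hK
  have hps : ¬ p ∣ s := not_dvd_of_ord hp (by omega)
  have hqs : ¬ q ∣ s := not_dvd_of_ord hq (by omega)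
  -- `e ≤ n`
  have hen : e ≤ n := by
    have hd1 : p ∣ Nat.card (SU n K s) := hd.trans (Subgroup.card_quotient_dvd_card _)
    have hd2 : p ∣ Nat.card (CForm.hermF K hK n).iso := by
      rw [Nat.card_congr (suE hK n).toEquiv] at hd1
      exact hd1.trans (Subgroup.card_subgroup_dvd_card _)
    rw [H113.PSU.Levi.card_iso hK n] at hd2
    have h3 := (hp.dvd_mul.1 hd2).resolve_left fun h => hps (hp.dvd_of_dvd_pow h)
    obtain ⟨i, hi, h5⟩ := (Prime.dvd_finsetProd_iff hp.prime _).1 h3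
    rw [Finset.mem_range] at hi
    have h6 : p ∣ s ^ (2 * (i + 1)) - 1 := by
      unfold H113.PSU.Levi.uu at h5
      rw [sq_sub']
      split_ifs at h5 with h7
      · exact Dvd.dvd.mul_right h5 _
      · exact Dvd.dvd.mul_left h5 _
    rw [dvd_sub_one_iff (by omega), ho] at h6
    have := Nat.le_of_dvd (by omega) (Nat.dvd_of_mul_dvd_mul_left two_pos h6)
    omega
  obtain ⟨m, f, hf, rfl⟩ : ∃ m f, f ≤ 1 ∧ n = m + (m + f) := ⟨n / 2, n % 2, by omega, by omega⟩
  obtain ⟨κ, hκ, hT, hg⟩ := exists_trv (n := m + (m + f)) hF hK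
  let F := hermF K hK (m + (m + f))
  let ε := suE (K := K) hK (m + (m + f))
  let φ : H328.Gow.sg F →* PSU (m + (m + f)) K s :=
    (QuotientGroup.mk' (Subgroup.center (SU (m + (m + f)) K s))).comp ε.symm.toMonoidHom
  have hq1 : ¬ q ∣ Nat.card K - 1 := by
    rw [hK]
    intro h1
    rw [dvd_sub_one_iff (by omega), ho'] at h1
    have := Nat.le_of_dvd two_pos h1
    omega
  have hqK : ¬ q ∣ Nat.card K := by
    rw [hK]
    exact fun h => hqs (hq.dvd_of_dvd_pow h)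
  have hHT := ht_lin (p := p) hp hq hqK hq1 (pol_herm (m := m) (f := f) hF hK hf) φ
    ((QuotientGroup.mk'_surjective _).comp ε.symm.surjective) (by
      intro z hz
      have h1 : ε.symm z ∈ Subgroup.center (SU (m + (m + f)) K s) :=
        (QuotientGroup.eq_one_iff _).1 (MonoidHom.mem_ker.1 hz)
      obtain ⟨a, han, haq, h5⟩ := (Cfsg.Agent.LieClassical.SUBasic.mem_center_SU_iff hF hn _).1 h1
      refine ⟨a, fun v => ?_⟩
      have h7 : z = ε (ε.symm z) := (ε.apply_symm_apply z).symm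
      rw [h7]
      change (((ε.symm z : SU (m + (m + f)) K s) : Matrix.SpecialLinearGroup (Fin (m + (m + f))) K) :
        Matrix _ _ K).mulVec v = a • v
      rw [h5]
      change (Matrix.diagonal (fun _ => a)).mulVec v = a • v
      ext i
      rw [Matrix.mulVec_diagonal, Pi.smul_apply, smul_eq_mul]) (le_of_eq hS) hκ hT hg
  rw [hK] at hHT
  refine num_uni hp hq hp2 hs2 ho ho' he1 he hee hno hf ?_ hHT
  obtain ⟨c, hc⟩ := he
  refine ⟨m + f - c, by omega, by omega, ?_⟩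
  have h1 : 2 * (m - (m + f - c)) + (2 * f + 1) = e := by omega
  rw [h1]
  exact add_one_of_ord hp ho (by omega)

/-- **the non-core case, `n ≥ 4`** -/
theorem ncu_four {K : Type} [Field K] [Fintype K] {n s p q e e' : ℕ} (hF : Fintype.card K = s ^ 2) (hn : 4 ≤ n)
    (hp : p.Prime) (hq : q.Prime) (hp2 : p ≠ 2) (he : Odd e) (hee : e < e') (ho : orderOf ((s : ℕ) : ZMod p) = 2 * e)
    (ho' : orderOf ((s : ℕ) : ZMod q) = 2 * e') (hno : e = 1 ∨ ¬ e ∣ e') (hd : p ∣ Nat.card (PSU n K s))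
    (hd' : q ∣ Nat.card (PSU n K s)) : ¬ Same p q (PSU n K s) := by
  have hK : Nat.card K = s ^ 2 := by rw [Nat.card_eq_fintype_card, hF]
  have hs2 := CForm.two_le_of_card hK
  by_cases h1 : e = 1
  · subst h1
    have hps : p ∣ s + 1 := by
      have := add_one_of_ord (x := s) hp ho (by omega)
      rwa [pow_one] at this
    refine H638.PQ.PSURow.not_same hF hn hp hq ?_ hps ?_ hd'
    · rintro rfl
      rw [ho] at ho'
      omega
    · exact not_dvd_of_ord hq (by omega)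
  · exact ncu_gt hF (by omega) hp hq hp2 he hee ho ho' (by have := he.pos; omega) (hno.resolve_left h1) hd

end Cfsg.Agent.H572.PQ
end

-- part: H766/PQ/Last
section
/-!
# S4612: the classical groups, up to `PSU₃` with the primes dividing `s + 1` and `s² - s + 1` (helper766)
-/

set_option autoImplicit false
set_option linter.unusedSectionVars false

open Cfsg Cfsg.Agent

namespace Cfsg.Agent.H766.PQ

open Cfsg.Agent.H317.PQ
open Cfsg.Agent.H477.HC Module Cfsg.Agent.H477.HC.CForm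
open Cfsg.Agent.H61.PQ

/-- `PSU₃(s)`, `p` odd dividing `s + 1`, `q` dividing `s² - s + 1` -/
def NCThree : Prop := ∀ (K : Type) [Field K] [Fintype K] (s p q : ℕ), Fintype.card K = s ^ 2 → 2 < s → p.Prime →
  q.Prime → p ≠ 2 → q ≠ 3 → p ∣ s + 1 → q ∣ s ^ 2 - s + 1 → orderOf ((s : ℕ) : ZMod q) = 6 →
  p ∣ Nat.card (PSU 3 K s) → q ∣ Nat.card (PSU 3 K s) → ¬ Same p q (PSU 3 K s)

theorem ncu_of (h3 : NCThree) : NCU := by
  intro K _ _ n s p q e e' hF hn hp hq hp2 he he' hee ho ho' hno hpG hqG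
  rcases Nat.lt_or_ge n 4 with hn4 | hn4
  swap
  · exact H572.PQ.ncu_four hF hn4 hp hq hp2 he hee ho ho' hno hpG hqG
  by_cases h1 : e = 1
  swap
  · exact H572.PQ.ncu_gt hF hn hp hq hp2 he hee ho ho' (by have := he.pos; omega) (hno.resolve_left h1) hpG
  subst h1
  obtain rfl : n = 3 := by omega
  have hs : Nat.card K = s ^ 2 := by rw [Nat.card_eq_fintype_card, hF]
  have hs2 := CForm.two_le_of_card hs
  have hqs : ¬ q ∣ s := not_dvd_of_order hq (by omega : 0 < e') ho'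
  have hps1 : p ∣ s + 1 := by
    have := dvd_pow_add_one hp (by omega : 1 ≤ s) one_pos ho
    rwa [pow_one] at this
  -- `e' = 3`
  have he3 : e' = 3 := by
    have hd1 : q ∣ Nat.card (SU 3 K s) := hqG.trans (Subgroup.card_quotient_dvd_card _)
    have hd2 : q ∣ Nat.card (CForm.hermF K hs 3).iso := by
      rw [Nat.card_congr (suE hs 3).toEquiv] at hd1
      exact hd1.trans (Subgroup.card_subgroup_dvd_card _)
    rw [H113.PSU.Levi.card_iso hs 3] at hd2
    have h3 := (hq.dvd_mul.1 hd2).resolve_left fun h => hqs (hq.dvd_of_dvd_pow h)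
    obtain ⟨i, hi, h5⟩ := (Prime.dvd_finsetProd_iff hq.prime _).1 h3
    rw [Finset.mem_range] at hi
    have h6 : q ∣ s ^ (2 * (i + 1)) - 1 := by
      unfold H113.PSU.Levi.uu at h5
      rw [H47.DP.sq_sub']
      split_ifs at h5 with h7
      · exact Dvd.dvd.mul_right h5 _
      · exact Dvd.dvd.mul_left h5 _
    rw [H47.DP.dvd_sub_one_iff (by omega), ho'] at h6
    have h7 := Nat.dvd_of_mul_dvd_mul_left two_pos h6
    have h8 := Nat.le_of_dvd (by omega) h7
    obtain ⟨c, hc⟩ := he'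
    omega
  subst he3
  have h4 : q ∣ s ^ 3 + 1 := dvd_pow_add_one hq (by omega : 1 ≤ s) (by norm_num) ho'
  have h5 : s ^ 3 + 1 = (s + 1) * (s ^ 2 - s + 1) := by
    have h6 : s ≤ s ^ 2 := by nlinarith only []
    zify [h6]
    ring
  have h6 : ¬ q ∣ s + 1 := by
    intro h
    have h7 : q ∣ s ^ (2 * 1) - 1 := by
      rw [H47.DP.sq_sub', pow_one]
      exact h.mul_left _
    rw [H47.DP.dvd_sub_one_iff (by omega), ho'] at h7
    have := Nat.le_of_dvd (by omega) h7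
    omega
  rw [h5, hq.dvd_mul] at h4
  have h7 := h4.resolve_left h6
  have hq3 : q ≠ 3 := by
    rintro rfl
    have h8 : (3 : ℕ) ∣ s ^ 2 - s + 1 := h7
    have h9 : s ≤ s ^ 2 := by nlinarith only []
    have h10 : s % 3 = 0 ∨ s % 3 = 1 ∨ s % 3 = 2 := by omega
    obtain ⟨c, hc⟩ := h8
    have h11 : s ^ 2 + 1 = 3 * c + s := by (clear * - hc; omega)
    have h12 : (s ^ 2 + 1) % 3 = (3 * c + s) % 3 := by rw [h11]
    rcases h10 with h | h | h
    · rw [Nat.add_mod, Nat.pow_mod, h] at h12; omega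
    · rw [Nat.add_mod, Nat.pow_mod, h] at h12; omega
    · apply h6; omega
  have hs3 : 2 < s := by
    by_contra hcon
    have : s = 2 := by omega
    subst this
    have h8 := (Nat.prime_dvd_prime_iff_eq hq Nat.prime_three).1 (by simpa using h7)
    exact hq3 h8
  exact h3 K s p q hF hs3 hp hq hp2 hq3 hps1 h7 ho' hpG hqG

/-- the classical layer of S4612 from `PSU₃` -/
theorem nonCore (h3 : NCThree) : NonCore where
  sp := ncSp
  odd := ncOdd
  plus := ncPlus
  minus := ncMinus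
  su := ncu_of h3

end Cfsg.Agent.H766.PQ
end
end

-- part: H61/PQ/Psu3Pts
section
set_option linter.all false
open scoped Cfsg.Agent.FastGrp

/-!
# `PSU_3(q)`: the 2-transitive action on the isotropic points (helper61, S4612)

* `two_trans3`, `card_Pt3`, `card_su3'`;
* `exists_st` : the character `π - 1` of `PSU_3(q)`, degree `q ^ 3`;
* `st_sing` : its value on the elements of order divisible by `p ∣ q ^ 2 - q + 1`, `p ≥ 5`.
-/

set_option autoImplicit false
set_option linter.unusedSectionVars false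

open Cfsg Matrix

namespace Cfsg.Agent.H61.PQ

open Cfsg.Agent.H113.PSU.Points Cfsg.Agent.LieClassical.HermBasic Cfsg.Agent.LieClassical.HermSiegel
open Cfsg.Agent.H113.PSU Cfsg.Agent.Characters.Core
open Cfsg.Agent.H724.UThree (coords)

universe u

variable {K : Type u} [Field K] [Fintype K] {q : ℕ}

/-- isotropic vectors orthogonal to an isotropic vector are multiples of it -/
theorem parallel3 (hF : Fintype.card K = q ^ 2) {u v : Fin 3 → K} (hu : hermForm 3 K q u u = 0) (hu0 : u ≠ 0)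
    (hv : hermForm 3 K q v v = 0) (huv : hermForm 3 K q u v = 0) : ∃ c : K, v = c • u := by
  obtain ⟨z, hz⟩ := exists_herm_ne_zero hF hu0
  have hz' : hermForm 3 K q z u ≠ 0 := by
    rw [herm_swap hF u z]
    exact pow_ne_zero _ hz
  have hvu : hermForm 3 K q v u = 0 := herm_eq_zero_swap hF huv
  refine ⟨hermForm 3 K q v z / hermForm 3 K q u z, ?_⟩
  obtain ⟨c, hc⟩ : ∃ c, c = hermForm 3 K q v z / hermForm 3 K q u z := ⟨_, rfl⟩
  rw [← hc]
  obtain ⟨w, hw⟩ : ∃ w, w = v - c • u := ⟨_, rfl⟩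
  suffices h : w = 0 by
    rw [hw, sub_eq_zero] at h
    exact h
  by_contra hw0
  have hwz : hermForm 3 K q w z = 0 := by
    rw [hw, herm_sub_left, herm_smul_left, hc, div_mul_cancel₀ _ hz, sub_self]
  have hwu : hermForm 3 K q w u = 0 := by
    rw [hw, herm_sub_left, herm_smul_left, hvu, hu, mul_zero, sub_zero]
  have hww : hermForm 3 K q w w = 0 := by
    have h1 : hermForm 3 K q u w = 0 := herm_eq_zero_swap hF hwu
    have h2 : hermForm 3 K q v w = 0 := by
      rw [hw, herm_sub_right hF, herm_smul_right, hv, hvu, mul_zero, sub_zero]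
    conv_lhs => rw [hw]
    rw [herm_sub_left, herm_smul_left, ← hw, h2, h1, mul_zero, sub_zero]
  apply hw0
  apply herm_nondeg hF
  intro x
  obtain ⟨a, b, d, rfl⟩ := coords (a := u) (b := w) (c := z) (by
    intro x y t h
    have h1 := congrArg (fun v => hermForm 3 K q v u) h
    simp only [herm_add_left, herm_smul_left, herm_zero_left, hu, hwu, mul_zero, zero_add] at h1
    have ht : t = 0 := (mul_eq_zero.1 h1).resolve_right hz'
    have h2 := congrArg (fun v => hermForm 3 K q v z) h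
    simp only [herm_add_left, herm_smul_left, herm_zero_left, hwz, mul_zero, add_zero, ht, zero_mul] at h2
    have hx : x = 0 := (mul_eq_zero.1 h2).resolve_right hz
    rw [hx, ht, zero_smul, zero_smul, zero_add, add_zero] at h
    exact ⟨hx, (smul_eq_zero.1 h).resolve_right hw0, ht⟩) x
  rw [herm_add_right hF, herm_add_right hF, herm_smul_right, herm_smul_right, herm_smul_right, hwu, hww, hwz, mul_zero,
    mul_zero, mul_zero, add_zero, add_zero]

theorem opp3 (hF : Fintype.card K = q ^ 2) {x y : Pt 3 K q} (hxy : x ≠ y) :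
    ¬ ∀ u ∈ x.1, ∀ v ∈ y.1, hermForm 3 K q u v = 0 := by
  obtain ⟨v, h0, h, rfl⟩ := exists_pt x
  obtain ⟨w, h0', h', rfl⟩ := exists_pt y
  rw [perp_iff hF]
  intro hvw
  obtain ⟨c, hc⟩ := parallel3 hF h h0 h' hvw
  have hc0 : c ≠ 0 := by
    rintro rfl
    rw [zero_smul] at hc
    exact h0' hc
  exact hxy (pt_eq_iff.2 ⟨c⁻¹, inv_ne_zero hc0, by rw [hc, smul_smul, inv_mul_cancel₀ hc0, one_smul]⟩)

theorem two_trans3 (hF : Fintype.card K = q ^ 2) : MulAction.IsMultiplyPretransitive (SU 3 K q) (Pt 3 K q) 2 := by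
  rw [MulAction.is_two_pretransitive_iff]
  intro a b c d hab hcd
  exact trans_opp hF (opp3 hF hab) (opp3 hF hcd)

theorem card_Pt3 (hF : Fintype.card K = q ^ 2) : Nat.card (Pt 3 K q) = q ^ 3 + 1 := by
  have hq := two_le hF
  have h1 := card_Pt (F := K) hF (n := 3)
  have h2 := Niso_eq (F := K) (q := q) hF (m := 3) (by norm_num)
  have h3 : 1 ≤ q ^ 2 := Nat.one_le_pow _ _ (by omega)
  rw [← h1] at h2
  push_cast [Nat.cast_sub h3] at h2
  have h4 : ((q : ℤ) ^ 2 - 1) * (Nat.card (Pt 3 K q) : ℤ) = ((q : ℤ) ^ 2 - 1) * (q ^ 3 + 1) := by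
    linear_combination h2
  have h5 : (q : ℤ) ^ 2 - 1 ≠ 0 := by
    have : (2 : ℤ) ≤ q := by exact_mod_cast hq
    nlinarith
  exact_mod_cast mul_left_cancel₀ h5 h4

theorem card_su3' (hF : Fintype.card K = q ^ 2) : Nat.card (SU 3 K q) = q ^ 3 * ((q ^ 3 + 1) * (q ^ 2 - 1)) := by
  have h := Cfsg.Agent.S0278.result hF 3 (by norm_num)
  simp only [Finset.prod_range_succ, Finset.prod_range_zero, one_mul] at h
  norm_num at h
  have h1 : Even 2 := ⟨1, rfl⟩
  have h0 : 0 < q + 1 := by omega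
  apply Nat.eq_of_mul_eq_mul_left h0
  rw [h]
  ring

/-- the centre fixes the points -/
theorem center_smul (hF : Fintype.card K = q ^ 2) {z : SU 3 K q} (hz : z ∈ Subgroup.center (SU 3 K q)) (y : Pt 3 K q) :
    z • y = y := by
  obtain ⟨c, hc, -, hc'⟩ := Cfsg.Agent.ClassicalGeometry.PSUAutBasic.exists_scalar_of_mem_center hF (by omega) hz
  obtain ⟨v, h0, hv, rfl⟩ := exists_pt y
  rw [smul_pt, pt_eq_iff]
  exact ⟨c, hc, hc' v⟩

/-- **the character `π - 1`** -/
theorem exists_st (hF : Fintype.card K = q ^ 2) : ∃ χs : IrrCharacter (PSU 3 K q),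
    (χs : PSU 3 K q → ℂ) 1 = (q : ℂ) ^ 3 ∧ ∀ g : SU 3 K q, (χs : PSU 3 K q → ℂ)
      (QuotientGroup.mk' (Subgroup.center (SU 3 K q)) g) = (Nat.card (MulAction.fixedBy (Pt 3 K q) g) : ℂ) - 1 := by
  classical
  have hq := two_le hF
  have : MulAction.IsPretransitive (SU 3 K q) (Pt 3 K q) := ⟨fun x y => trans_pt hF x y⟩
  have h1 : 2 ≤ Nat.card (Pt 3 K q) := by
    rw [card_Pt3 hF]
    have := Nat.one_le_pow 3 q (by omega)
    omega
  have hirr := (Cfsg.Agent.S0157.result (G := SU 3 K q) (Pt 3 K q) h1).2 (two_trans3 hF)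
  obtain ⟨η, hη, hη'⟩ := Cfsg.Agent.H477.HC.exists_quot (Subgroup.center (SU 3 K q)) hirr
    (fun z hz => by
      have h2 : MulAction.fixedBy (Pt 3 K q) z = Set.univ := by
        ext y
        simp only [MulAction.mem_fixedBy, Set.mem_univ, iff_true]
        exact center_smul hF hz y
      show (Nat.card (MulAction.fixedBy (Pt 3 K q) z) : ℂ) - 1 = (Nat.card (MulAction.fixedBy (Pt 3 K q) (1 : SU 3 K q)) : ℂ) - 1
      rw [h2, MulAction.fixedBy_one_eq_univ])
  refine ⟨⟨η, hη⟩, ?_, fun g => hη' g⟩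
  have h3 := hη' 1
  show η 1 = _
  have h4 : η 1 = η ((1 : SU 3 K q) : SU 3 K q ⧸ Subgroup.center (SU 3 K q)) := rfl
  rw [h4, h3, MulAction.fixedBy_one_eq_univ, Nat.card_univ, card_Pt3 hF]
  push_cast
  ring

/-- arithmetic of `p ∣ q ^ 2 - q + 1` -/
theorem prime_facts {p : ℕ} (_hp : p.Prime) (hp5 : 5 ≤ p) (hq : 2 ≤ q) (hd : p ∣ q ^ 2 - q + 1) :
    ¬ p ∣ q ∧ ¬ p ∣ q ^ 2 - 1 := by
  have hq2 : q ≤ q ^ 2 := Nat.le_self_pow (by norm_num) q
  have hq1 : 1 ≤ q ^ 2 := by omega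
  have h0 : (p : ℤ) ∣ (q : ℤ) ^ 2 - q + 1 := by
    have := Int.natCast_dvd_natCast.2 hd
    push_cast [Nat.cast_sub hq2] at this
    exact this
  constructor
  · intro h
    have h1 : (p : ℤ) ∣ q := by exact_mod_cast h
    have h2 : (p : ℤ) ∣ 1 := by
      have h3 := dvd_sub h0 (h1.mul_right ((q : ℤ) - 1))
      ring_nf at h3
      exact h3
    have h3 := Int.le_of_dvd one_pos h2
    omega
  · intro h
    have h1 : (p : ℤ) ∣ (q : ℤ) ^ 2 - 1 := by
      have := Int.natCast_dvd_natCast.2 h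
      push_cast [Nat.cast_sub hq1] at this
      exact this
    -- `q ≡ 2`, `3 ≡ 0`
    have h2 : (p : ℤ) ∣ 3 := by
      have h3 := dvd_sub (h0.mul_left ((q : ℤ) + 2)) (h1.mul_left ((q : ℤ) + 1))
      have h4 : ((q : ℤ) + 2) * ((q : ℤ) ^ 2 - q + 1) - ((q : ℤ) + 1) * ((q : ℤ) ^ 2 - 1) = 3 := by ring
      rw [h4] at h3
      exact h3
    have h3 := Int.le_of_dvd (by norm_num) h2
    omega

/-- elements of order divisible by `p` fix no point -/
theorem fix_sing (hF : Fintype.card K = q ^ 2) {p : ℕ} (hp : p.Prime) (hp5 : 5 ≤ p) (hd : p ∣ q ^ 2 - q + 1)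
    {g : SU 3 K q} (hg : p ∣ orderOf g) : Nat.card (MulAction.fixedBy (Pt 3 K q) g) = 0 := by
  have hq := two_le hF
  obtain ⟨h1, h2⟩ := prime_facts hp hp5 hq hd
  have : IsEmpty (MulAction.fixedBy (Pt 3 K q) g) := by
    refine ⟨fun x => ?_⟩
    obtain ⟨x, hx⟩ := x
    have hx' : g ∈ MulAction.stabilizer (SU 3 K q) x := hx
    have h3 : orderOf g ∣ Nat.card (MulAction.stabilizer (SU 3 K q) x) := Subgroup.orderOf_dvd_natCard _ hx'
    have h4 : Nat.card (MulAction.stabilizer (SU 3 K q) x) * (q ^ 3 + 1) = Nat.card (SU 3 K q) := by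
      have : MulAction.IsPretransitive (SU 3 K q) (Pt 3 K q) := ⟨fun x y => trans_pt hF x y⟩
      have h5 := MulAction.index_stabilizer_of_transitive (SU 3 K q) x
      rw [← card_Pt3 hF, ← h5]
      exact Subgroup.card_mul_index _
    rw [card_su3' hF] at h4
    have h5 : Nat.card (MulAction.stabilizer (SU 3 K q) x) = q ^ 3 * (q ^ 2 - 1) := by
      apply Nat.eq_of_mul_eq_mul_right (Nat.succ_pos (q ^ 3))
      rw [Nat.succ_eq_add_one, h4]
      ring
    rw [h5] at h3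
    rcases hp.dvd_mul.1 (hg.trans h3) with h6 | h6
    · exact h1 (hp.dvd_of_dvd_pow h6)
    · exact h2 h6
  exact Nat.card_of_isEmpty

end Cfsg.Agent.H61.PQ
end

-- part: H61/PQ/Psu3Tor
section
prune_inst 0x20000000000000000000000000000000
set_option linter.all false
open scoped Cfsg.Agent.FastGrp

/-!
# `PSU_3(q)`: the centralizer of an element of prime order `l ∣ q ^ 2 - q + 1`, `l ≥ 5` (helper61, S4612)

* `tor3` : it is abelian, its order divides `q ^ 2 - q + 1` and is prime to `3`, its nontrivial elements have no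
  eigenvector, and it is the centralizer of each of its nontrivial elements.
-/

set_option autoImplicit false
set_option linter.unusedSectionVars false

open Cfsg Matrix

namespace Cfsg.Agent.H61.PQ

open Subgroup Cfsg.Geo Cfsg.Agent.H907 Cfsg.Agent.H918
open Cfsg.Agent.H452.Singer
open scoped MatrixGroups

universe u

variable {F : Type u} [Field F] [Fintype F] {q : ℕ}

/-- lifting an element of order prime to `3`, and the elements commuting with it -/
theorem lift3 (hF : Fintype.card F = q ^ 2) {m : ℕ} (hm : Nat.Coprime 3 m) {y : PSU 3 F q} (hy : y ^ m = 1) :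
    ∃ A : SU 3 F q, QuotientGroup.mk' (Subgroup.center (SU 3 F q)) A = y ∧ A ^ m = 1 ∧
      ∀ B : SU 3 F q, QuotientGroup.mk' (Subgroup.center (SU 3 F q)) B * y =
        y * QuotientGroup.mk' (Subgroup.center (SU 3 F q)) B → B * A = A * B := by
  classical
  set Z := Subgroup.center (SU 3 F q) with hZ
  set π : SU 3 F q →* PSU 3 F q := QuotientGroup.mk' Z with hπdef
  have hπ : Function.Surjective π := QuotientGroup.mk'_surjective _
  have hker : ∀ g, π g = 1 ↔ g ∈ Z := fun g => QuotientGroup.eq_one_iff g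
  have hZc : Nat.card Z = Nat.gcd 3 (q + 1) := Cfsg.Agent.S0279.result hF 3 le_rfl
  have hZ3 : ∀ z ∈ Z, z ^ 3 = 1 := by
    intro z hz
    have h2 : (⟨z, hz⟩ : Z) ^ 3 = 1 := by
      apply orderOf_dvd_iff_pow_eq_one.1
      refine (_root_.orderOf_dvd_natCard _).trans ?_
      rw [hZc]
      exact Nat.gcd_dvd_left 3 (q + 1)
    exact congrArg Subtype.val h2
  have hsing : ∀ z ∈ Z, z ^ m = 1 → z = 1 := by
    intro z hz hzr
    have h1 := orderOf_dvd_of_pow_eq_one (hZ3 z hz)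
    have h2 := orderOf_dvd_of_pow_eq_one hzr
    have h3 : orderOf z ∣ 1 := by
      rw [← hm]
      exact Nat.dvd_gcd h1 h2
    exact orderOf_eq_one_iff.1 (Nat.dvd_one.1 h3)
  obtain ⟨A, hAy, hAr⟩ : ∃ A : SU 3 F q, π A = y ∧ A ^ m = 1 := by
    rcases Nat.lt_or_ge 1 m with hm1 | hm1
    · obtain ⟨A₀, hA₀⟩ := hπ y
      obtain ⟨t, -, ht⟩ := Nat.exists_mul_mod_eq_one_of_coprime hm hm1
      refine ⟨A₀ ^ (3 * t), ?_, ?_⟩
      · rw [map_pow, hA₀, ← Nat.div_add_mod (3 * t) m, ht, pow_add, pow_mul, hy, one_pow, one_mul, pow_one]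
      · have h1 : A₀ ^ m ∈ Z := by
          rw [← hker, map_pow, hA₀, hy]
        have h2 := hZ3 _ h1
        calc (A₀ ^ (3 * t)) ^ m = ((A₀ ^ m) ^ 3) ^ t := by
              rw [← pow_mul, ← pow_mul, ← pow_mul]; congr 1; ring
          _ = 1 := by rw [h2, one_pow]
    · have hm' : m = 1 := by
        rcases Nat.le_one_iff_eq_zero_or_eq_one.1 hm1 with h | h
        · rw [h] at hm
          norm_num at hm
        · exact h
      rw [hm', pow_one] at hy
      exact ⟨1, by rw [map_one, hy], one_pow m⟩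
  refine ⟨A, hAy, hAr, fun B hB => ?_⟩
  rw [← hAy, ← map_mul, ← map_mul] at hB
  have h1 : B * A * B⁻¹ * A⁻¹ ∈ Z := by
    rw [← hker, map_mul, map_mul, map_inv, map_inv, hB, map_mul]
    group
  obtain ⟨z, hz⟩ : ∃ z, z = B * A * B⁻¹ * A⁻¹ := ⟨_, rfl⟩
  rw [← hz] at h1
  have h2 : B * A * B⁻¹ = z * A := by rw [hz, inv_mul_cancel_right]
  have h3 : (B * A * B⁻¹) ^ m = 1 := by
    rw [conj_pow, hAr, mul_one, mul_inv_cancel]
  have h4 : Commute z A := (Subgroup.mem_center_iff.1 h1 A).symm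
  rw [h2, h4.mul_pow, hAr, mul_one] at h3
  have h5 := hsing z h1 h3
  rw [h5, one_mul] at h2
  exact mul_inv_eq_iff_eq_mul.1 h2

/-- elements of a field subalgebra which are not scalar have no eigenvector -/
theorem no_eig {K : Subalgebra F (Matrix (Fin 3) (Fin 3) F)} (hK : IsFieldSubalgebra 3 K) {X : Matrix (Fin 3) (Fin 3) F}
    (hX : X ∈ K) (hns : ¬ ∃ c : F, X = c • (1 : Matrix (Fin 3) (Fin 3) F)) (c : F) {v : Fin 3 → F}
    (hv : X *ᵥ v = c • v) : v = 0 := by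
  have h1 : X - c • (1 : Matrix (Fin 3) (Fin 3) F) ∈ K := K.sub_mem hX (K.smul_mem K.one_mem c)
  have h2 : X - c • (1 : Matrix (Fin 3) (Fin 3) F) ≠ 0 := fun h => hns ⟨c, sub_eq_zero.1 h⟩
  obtain ⟨b, hb, hXb⟩ := hK.inv _ h1 h2
  have h3 : b * (X - c • (1 : Matrix (Fin 3) (Fin 3) F)) = 1 := by
    rw [hK.comm b hb _ h1]
    exact hXb
  calc v = (b * (X - c • (1 : Matrix (Fin 3) (Fin 3) F))) *ᵥ v := by rw [h3, Matrix.one_mulVec]
    _ = 0 := by
      rw [← Matrix.mulVec_mulVec, Matrix.sub_mulVec, Matrix.smul_mulVec, Matrix.one_mulVec, hv, sub_self,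
        Matrix.mulVec_zero]

theorem center_of_scalar {U : SU 3 F q} {c : F} (h : U.1.1 = c • (1 : Matrix (Fin 3) (Fin 3) F)) :
    U ∈ Subgroup.center (SU 3 F q) := by
  rw [Subgroup.mem_center_iff]
  intro g
  apply Subtype.ext
  apply Subtype.ext
  show g.1.1 * U.1.1 = U.1.1 * g.1.1
  rw [h, Matrix.mul_smul, Matrix.smul_mul, mul_one, one_mul]

/-- **the centralizer of an element of prime order `l ∣ q ^ 2 - q + 1`** -/
theorem tor3 (hF : Fintype.card F = q ^ 2) {l : ℕ} [hl : Fact l.Prime] (hl5 : 5 ≤ l) (hd : l ∣ q ^ 2 - q + 1)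
    {y : PSU 3 F q} (hy : orderOf y = l) :
    (∀ a b : PSU 3 F q, Commute y a → Commute y b → Commute a b) ∧
    Nat.card (centralizer ({y} : Set (PSU 3 F q))) ∣ q ^ 2 - q + 1 ∧
    (∀ g : SU 3 F q, Commute y (QuotientGroup.mk' (Subgroup.center (SU 3 F q)) g) →
      QuotientGroup.mk' (Subgroup.center (SU 3 F q)) g ≠ 1 → ∀ (c : F) (v : Fin 3 → F), g.1.1 *ᵥ v = c • v → v = 0) ∧
    ∀ u n : PSU 3 F q, Commute y u → u ≠ 1 → Commute u n → Commute y n := by
  classical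
  have ho := ord_three hF hl5 hd
  set Z := Subgroup.center (SU 3 F q) with hZ
  set π : SU 3 F q →* PSU 3 F q := QuotientGroup.mk' Z with hπdef
  have hπ : Function.Surjective π := QuotientGroup.mk'_surjective _
  have hker : ∀ g, π g = 1 ↔ g ∈ Z := fun g => QuotientGroup.eq_one_iff g
  have hZc : Nat.card Z = Nat.gcd 3 (q + 1) := Cfsg.Agent.S0279.result hF 3 le_rfl
  have hl3 : Nat.Coprime 3 l := by
    rw [Nat.coprime_primes Nat.prime_three hl.out]
    omega
  obtain ⟨A, hAy, hAl, hAc⟩ := lift3 hF hl3 (y := y) (by rw [← hy, pow_orderOf_eq_one])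
  have hA1 : A ≠ 1 := by
    rintro rfl
    rw [map_one] at hAy
    rw [← hAy, orderOf_one] at hy
    exact hl.out.one_lt.ne hy
  have hX : (A.1.1) ^ l = 1 := by
    have h1 := congrArg (fun g : SU 3 F q => g.1.1) hAl
    exact h1
  have hX1 : A.1.1 ≠ 1 := fun h => hA1 (Subtype.ext (Subtype.ext h))
  have hK := adjoin_field ho hX hX1
  have hXK : A.1.1 ∈ Algebra.adjoin F {A.1.1} := Algebra.subset_adjoin (Set.mem_singleton _)
  have hns := not_scalar ho hX hX1
  -- elements commuting with `y`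
  have hmem : ∀ B : SU 3 F q, Commute y (π B) → B.1.1 ∈ Algebra.adjoin F {A.1.1} := by
    intro B hB
    have h1 := hAc B hB.eq.symm
    refine Cfsg.Agent.H907.SU3.mem_of_comm hK hXK hns ?_
    exact congrArg (fun g : SU 3 F q => g.1.1) h1
  have hcomm : ∀ B : SU 3 F q, B.1.1 ∈ Algebra.adjoin F {A.1.1} → Commute y (π B) := by
    intro B hB
    have h1 : A * B = B * A := by
      apply Subtype.ext
      apply Subtype.ext
      exact hK.comm _ hXK _ hB
    show y * π B = π B * y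
    rw [← hAy, ← map_mul, h1, map_mul]
  have hcard : Nat.card Z * Nat.card (centralizer ({y} : Set (PSU 3 F q))) ∣ q ^ 2 - q + 1 := by
    set M : Subgroup (SU 3 F q) := (centralizer ({y} : Set (PSU 3 F q))).comap π with hM
    have hMcard : Nat.card M = Nat.card Z * Nat.card (centralizer ({y} : Set (PSU 3 F q))) := by
      have h1 : M.index = (centralizer ({y} : Set (PSU 3 F q))).index := index_comap_of_surjective _ hπ
      have h2 := M.card_mul_index
      have h3 := (centralizer ({y} : Set (PSU 3 F q))).card_mul_index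
      have h4 : Nat.card (SU 3 F q) = Nat.card (PSU 3 F q) * Nat.card Z :=
        Subgroup.card_eq_card_quotient_mul_card_subgroup Z
      apply Nat.eq_of_mul_eq_mul_right (Nat.pos_of_ne_zero (index_ne_zero_of_finite (H := M)))
      rw [h2, h4, ← h3, h1]
      ring
    rw [← hMcard]
    set x : GL (Fin 3) F := suHom 3 F q A with hx
    have hxS : x ∈ SUg 3 F q := suHom_mem A
    have hxr : x ^ l = 1 := by rw [hx, ← map_pow, hAl, map_one]
    have hx1 : x ≠ 1 := fun h => hA1 (suHom_injective (by rw [map_one]; exact h))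
    have h5 := card_cent hF ho hxS hxr hx1
    refine Dvd.dvd.trans ?_ h5
    have h1 : Nat.card M = Nat.card (M.map (suHom 3 F q)) :=
      Nat.card_congr (M.equivMapOfInjective _ suHom_injective).toEquiv
    rw [h1]
    apply Subgroup.card_dvd_of_le
    rintro _ ⟨B, hB, rfl⟩
    refine ⟨suHom_mem B, mem_centralizer_singleton_iff.2 ?_⟩
    have h6 : π B * y = y * π B := mem_centralizer_singleton_iff.1 hB
    rw [hx, ← map_mul, ← map_mul, hAc B h6]
  have h3 : ¬ 3 ∣ Nat.card (centralizer ({y} : Set (PSU 3 F q))) := by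
    intro h
    have h1 : 3 ∣ q ^ 2 - q + 1 := (h.trans (Dvd.intro_left _ rfl)).trans hcard
    have hq2 : q ≤ q ^ 2 := Nat.le_self_pow (by norm_num) q
    have h2 : q % 3 = 2 := by
      have h4 : (3 : ℤ) ∣ (q : ℤ) ^ 2 - q + 1 := by
        have := Int.natCast_dvd_natCast.2 h1
        push_cast [Nat.cast_sub hq2] at this
        exact this
      obtain ⟨t, ht⟩ : ∃ t, q = 3 * t + q % 3 := ⟨q / 3, (Nat.div_add_mod q 3).symm⟩
      have h5 : q % 3 < 3 := Nat.mod_lt _ (by norm_num)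
      obtain ⟨r, hr⟩ : ∃ r, r = q % 3 := ⟨_, rfl⟩
      rw [← hr] at ht h5 ⊢
      interval_cases r
      · exfalso
        rw [ht] at h4
        push_cast at h4
        obtain ⟨s, hs⟩ := h4
        have h6 : (3 : ℤ) * (s - 3 * t ^ 2 + t) = 1 := by linear_combination -hs
        omega
      · exfalso
        rw [ht] at h4
        push_cast at h4
        obtain ⟨s, hs⟩ := h4
        have h6 : (3 : ℤ) * (s - 3 * t ^ 2 - t) = 1 := by linear_combination -hs
        omega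
      · rfl
    have h4 : Nat.card Z = 3 := by
      rw [hZc]
      apply Nat.gcd_eq_left
      omega
    rw [h4] at hcard
    have h5 : 9 ∣ q ^ 2 - q + 1 := (Nat.mul_dvd_mul_left 3 h).trans hcard
    have h6 : (9 : ℤ) ∣ (q : ℤ) ^ 2 - q + 1 := by
      have := Int.natCast_dvd_natCast.2 h5
      push_cast [Nat.cast_sub hq2] at this
      exact this
    obtain ⟨t, ht⟩ : ∃ t, q = 3 * t + 2 := ⟨q / 3, by omega⟩
    rw [ht] at h6
    push_cast at h6
    obtain ⟨s, hs⟩ := h6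
    have h7 : (9 : ℤ) * (s - t ^ 2 - t) = 3 := by linear_combination -hs
    omega
  refine ⟨?_, (Dvd.intro_left _ rfl).trans hcard, ?_, ?_⟩
  · intro a b ha hb
    obtain ⟨B, rfl⟩ := hπ a
    obtain ⟨C, rfl⟩ := hπ b
    have h1 := hK.comm _ (hmem B ha) _ (hmem C hb)
    have h2 : B * C = C * B := by
      apply Subtype.ext
      apply Subtype.ext
      exact h1
    show π B * π C = π C * π B
    rw [← map_mul, h2, map_mul]
  · intro g hg hg1 c v hv
    refine no_eig hK (hmem g hg) ?_ c hv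
    rintro ⟨c', hc'⟩
    exact hg1 ((hker g).2 (center_of_scalar hc'))
  · intro u n hu hu1 hun
    have h5 : Nat.Coprime 3 (orderOf u) := by
      rw [Nat.Prime.coprime_iff_not_dvd Nat.prime_three]
      intro h
      apply h3
      exact h.trans (Subgroup.orderOf_dvd_natCard _ (mem_centralizer_singleton_iff.2 hu.eq.symm))
    obtain ⟨U, hUu, -, hUc⟩ := lift3 hF h5 (pow_orderOf_eq_one u)
    obtain ⟨N, rfl⟩ := hπ n
    have h6 := hUc N hun.eq.symm
    have h7 : U.1.1 ∈ Algebra.adjoin F {A.1.1} := hmem U (by rw [hπdef, hUu]; exact hu)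
    have h8 : ¬ ∃ c : F, U.1.1 = c • (1 : Matrix (Fin 3) (Fin 3) F) := by
      rintro ⟨c, hc⟩
      apply hu1
      rw [← hUu]
      exact (hker U).2 (center_of_scalar hc)
    refine hcomm N (Cfsg.Agent.H907.SU3.mem_of_comm hK h7 h8 ?_)
    exact congrArg (fun g : SU 3 F q => g.1.1) h6

end Cfsg.Agent.H61.PQ
end

-- part: H61/PQ/Psu3
section
prune_inst 0x20000000000000000000000000000000
set_option linter.all false
open scoped Cfsg.Agent.FastGrp

/-!
# `PSU_3(q)`: the principal `l`-block, `l ∣ q ^ 2 - q + 1`, `l ≥ 5` (helper61, S4612)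

* `exists_def0` : it contains a character of degree `(q + 1) ^ 2 (q - 1)`;
* `psu3_PQ` : `¬ PQ p l (PSU 3 K q)`, `p ∣ q + 1`;
* `psu3_mix` : `¬ Same p l (PSU 3 K q)`.
-/

set_option autoImplicit false
set_option linter.unusedSectionVars false

open Cfsg Matrix

namespace Cfsg.Agent.H61.PQ

open Subgroup Cfsg.Agent.Characters.Core Cfsg.Agent.H317.PQ
open Cfsg.Agent.H113.PSU.Points Cfsg.Agent.LieClassical.HermBasic Cfsg.Agent.LieClassical.HermSiegel
open scoped Pointwise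

section grp

variable {G : Type*} [Group G] [Finite G]

/-- the normalizer of `P` normalizes `⟨y⟩`, `y ∈ P` cyclic -/
theorem mem_norm_zpowers {P : Subgroup G} (hcyc : IsCyclic P) {y n : G} (hy : y ∈ P) (hn : n ∈ normalizer (P : Set G)) :
    n ∈ normalizer ((zpowers y : Subgroup G) : Set G) := by
  classical
  obtain ⟨w, hw⟩ := hcyc.exists_generator
  have h1 : n * y * n⁻¹ ∈ zpowers y := by
    have h2 : n * w.1 * n⁻¹ ∈ P := (mem_normalizer_iff.1 hn w.1).1 w.2
    obtain ⟨k, hk⟩ := hw ⟨_, h2⟩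
    obtain ⟨j, hj⟩ := hw ⟨y, hy⟩
    have hk' : w.1 ^ k = n * w.1 * n⁻¹ := congrArg Subtype.val hk
    have hj' : w.1 ^ j = y := congrArg Subtype.val hj
    refine ⟨k, ?_⟩
    show y ^ k = n * y * n⁻¹
    rw [← hj', ← conj_zpow, ← hk', ← _root_.zpow_mul, ← _root_.zpow_mul, mul_comm]
  rw [mem_normalizer_iff_map_conj_eq]
  have h8 : (zpowers y).map (MulAut.conj n).toMonoidHom ≤ zpowers y := by
    rw [MonoidHom.map_zpowers, zpowers_le]
    exact h1
  apply Subgroup.eq_of_le_of_card_ge h8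
  exact (Nat.card_congr ((zpowers y).equivMapOfInjective _ (MulAut.conj n).injective).toEquiv).le

end grp

/-- **the principal `l`-block contains a character of degree `(q + 1) ^ 2 (q - 1)`** -/
theorem exists_def0 {K : Type} [Field K] [Fintype K] {q : ℕ} (hF : Fintype.card K = q ^ 2) (hq : 2 < q) {l : ℕ}
    (hl : l.Prime) (hl5 : 5 ≤ l) (hd : l ∣ q ^ 2 - q + 1) :
    ∃ ψ ∈ B0 l (PSU 3 K q), (ψ : PSU 3 K q → ℂ) 1 = (((q + 1) ^ 2 * (q - 1) : ℕ) : ℂ) := by
  classical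
  have hlf : Fact l.Prime := ⟨hl⟩
  have hq2 : q ≤ q ^ 2 := Nat.le_self_pow (by norm_num) q
  set π : SU 3 K q →* PSU 3 K q := QuotientGroup.mk' (Subgroup.center (SU 3 K q)) with hπdef
  have hπ : Function.Surjective π := QuotientGroup.mk'_surjective _
  have hZc : Nat.card (Subgroup.center (SU 3 K q)) = Nat.gcd 3 (q + 1) := Cfsg.Agent.S0279.result hF 3 le_rfl
  have hlG : l ∣ Nat.card (PSU 3 K q) := by
    have h1 : Nat.card (SU 3 K q) = Nat.card (PSU 3 K q) * Nat.card (Subgroup.center (SU 3 K q)) :=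
      Subgroup.card_eq_card_quotient_mul_card_subgroup _
    have h2 : l ∣ Nat.card (SU 3 K q) := by
      rw [card_su3' hF]
      have h3 : q ^ 3 + 1 = (q + 1) * (q ^ 2 - q + 1) := by
        zify [hq2]
        ring
      rw [h3]
      exact Dvd.dvd.mul_left (Dvd.dvd.mul_right (Dvd.dvd.mul_left hd _) _) _
    rw [h1, hZc] at h2
    rcases hl.dvd_mul.1 h2 with h3 | h3
    · exact h3
    · have h4 := Nat.le_of_dvd (by norm_num) (h3.trans (Nat.gcd_dvd_left 3 (q + 1)))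
      omega
  obtain ⟨P⟩ : Nonempty (Sylow l (PSU 3 K q)) := inferInstance
  have hcyc := Cfsg.Agent.H724.UThree.cyc_sylow hF hl5 hd P
  have hcomm : ∀ a ∈ P, ∀ b ∈ P, Commute a b := by
    obtain ⟨w, hw⟩ := hcyc.exists_generator
    intro a ha b hb
    obtain ⟨k, hk⟩ := hw ⟨a, ha⟩
    obtain ⟨j, hj⟩ := hw ⟨b, hb⟩
    have hk' : w.1 ^ k = a := congrArg Subtype.val hk
    have hj' : w.1 ^ j = b := congrArg Subtype.val hj
    rw [← hk', ← hj']
    exact (Commute.refl _).zpow_zpow _ _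
  -- the centralizer of an element of order `l` of `P`
  have hcen : ∀ y ∈ P, orderOf y = l → centralizer ((P : Subgroup (PSU 3 K q)) : Set (PSU 3 K q)) =
      centralizer ({y} : Set (PSU 3 K q)) := by
    intro y hyP hy
    obtain ⟨hab, -, -, -⟩ := tor3 hF hl5 hd hy
    apply le_antisymm
    · exact centralizer_le (Set.singleton_subset_iff.2 hyP)
    · intro n hn
      rw [mem_centralizer_iff]
      intro a ha
      exact hab a n (hcomm y hyP a ha) (mem_centralizer_singleton_iff.1 hn).symm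
  obtain ⟨y₀, hy₀⟩ := exists_prime_orderOf_dvd_card' (G := (P : Subgroup (PSU 3 K q))) l (P.dvd_card_of_dvd_card hlG)
  have hy₀' : orderOf (y₀ : PSU 3 K q) = l := by rw [Subgroup.orderOf_coe, hy₀]
  have he3 : (centralizer ((P : Subgroup (PSU 3 K q)) : Set (PSU 3 K q))).relIndex
      (normalizer ((P : Subgroup (PSU 3 K q)) : Set (PSU 3 K q))) ∣ 3 := by
    apply relIndex_dvd_three (by omega) P hcyc
    intro n hn
    rw [hcen _ y₀.2 hy₀', mem_centralizer_singleton_iff]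
    exact (Cfsg.Agent.H452.Singer.singer hF hl5 hd hy₀').2 n (mem_norm_zpowers hcyc y₀.2 hn)
  -- the two characters
  obtain ⟨χs, hs, hsfix⟩ := exists_st hF
  have hs1 : (χs : PSU 3 K q → ℂ) ≠ 1 := by
    intro h
    rw [h] at hs
    have h1 : ((1 : ℕ) : ℂ) = ((q ^ 3 : ℕ) : ℂ) := by
      push_cast
      exact hs
    have h2 : 1 = q ^ 3 := by exact_mod_cast h1
    have h3 : 1 < q ^ 3 := Nat.one_lt_pow (by norm_num) (by omega)
    omega
  have hsing : ∀ g : PSU 3 K q, l ∣ orderOf g → (χs : PSU 3 K q → ℂ) g = -1 := by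
    intro g hg
    obtain ⟨g, rfl⟩ := hπ g
    have h1 := fix_sing hF hl hl5 hd (hg.trans (orderOf_map_dvd π g))
    rw [hπdef, hsfix g, h1, Nat.cast_zero, zero_sub]
  obtain ⟨χw, hw, hwle⟩ := Cfsg.Agent.H766.PQ.WeilLe.weil_le hF hq
  -- an element of the normalizer
  obtain ⟨n, hnN, hnC⟩ : ∃ n ∈ normalizer ((P : Subgroup (PSU 3 K q)) : Set (PSU 3 K q)),
      n ∉ centralizer ((P : Subgroup (PSU 3 K q)) : Set (PSU 3 K q)) := by
    by_contra hcon
    push Not at hcon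
    obtain ⟨b, Y, ψ, ε, ε', one, hone, he, -⟩ := exists_struct P hcyc hlG hl5 he3 χs hs1 hsing
    have h1 := Subgroup.relIndex_eq_one.2 (show normalizer ((P : Subgroup (PSU 3 K q)) : Set (PSU 3 K q)) ≤
      centralizer ((P : Subgroup (PSU 3 K q)) : Set (PSU 3 K q)) from fun n hn => hcon n hn)
    rw [h1] at he
    norm_num at he
  have hcl : ∀ c g : PSU 3 K q, (χw : PSU 3 K q → ℂ) (c * g * c⁻¹) = (χw : PSU 3 K q → ℂ) g := fun c g =>
    isIrr_isClassFunction χw.2 g c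
  -- the values on the centralizers of elements of order `l` of `P`
  have hkey : ∀ y ∈ P, orderOf y = l → ∀ u : PSU 3 K q, Commute y u → u ≠ 1 → (χw : PSU 3 K q → ℂ) u = -1 := by
    intro y hyP hy u hyu hu
    obtain ⟨hab, hcard, hne, hfp⟩ := tor3 hF hl5 hd hy
    have hC := hcen y hyP hy
    set A := centralizer ({y} : Set (PSU 3 K q)) with hA
    have hmem : ∀ a : PSU 3 K q, a ∈ A → Commute y a := fun a ha => (mem_centralizer_singleton_iff.1 ha).symm
    have hnA : n ∈ normalizer (A : Set (PSU 3 K q)) := by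
      have hconj : ∀ m ∈ normalizer ((P : Subgroup (PSU 3 K q)) : Set (PSU 3 K q)), ∀ a ∈ A, m * a * m⁻¹ ∈ A := by
        intro m hm a ha
        rw [← hC, mem_centralizer_iff] at ha ⊢
        intro b hb
        have h1 : m⁻¹ * b * m ∈ (P : Subgroup (PSU 3 K q)) := by
          have h2 := (mem_normalizer_iff.1 (inv_mem hm) b).1 hb
          rw [inv_inv] at h2
          exact h2
        have h2 := ha _ h1
        calc b * (m * a * m⁻¹) = m * ((m⁻¹ * b * m) * a) * m⁻¹ := by group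
          _ = m * (a * (m⁻¹ * b * m)) * m⁻¹ := by rw [h2]
          _ = m * a * m⁻¹ * b := by group
      rw [mem_normalizer_iff]
      intro a
      refine ⟨hconj n hnN a, fun h => ?_⟩
      have h1 := hconj n⁻¹ (inv_mem hnN) _ h
      have h2 : n⁻¹ * (n * a * n⁻¹) * n⁻¹⁻¹ = a := by group
      rwa [h2] at h1
    let σ : A ≃* A := Subgroup.normalizerMonoidHom A ⟨n, hnA⟩
    have hσ : ∀ a : A, ((σ a : A) : PSU 3 K q) = n * a * n⁻¹ := fun a => rfl
    have hf : IsCharacter A (fun a : A => (χw : PSU 3 K q → ℂ) a) :=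
      isCharacter_comp A.subtype (isIrr_isCharacter χw.2)
    obtain ⟨k, hk⟩ := hcard
    have h1 := val_neg_one hf (k := k) (by
      show (χw : PSU 3 K q → ℂ) 1 + 1 = _
      rw [hw]
      have h2 : (((q ^ 2 - q + 1 : ℕ)) : ℂ) = (Nat.card A * k : ℕ) := by rw [hk]
      push_cast [Nat.cast_sub hq2] at h2
      rw [h2]
      ring) (by
      intro a ha
      obtain ⟨g, hg⟩ := hπ (a : PSU 3 K q)
      show ‖(χw : PSU 3 K q → ℂ) a‖ ≤ 1
      rw [← hg]
      refine hwle g fun c v _ hv => hne g ?_ ?_ c v hv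
      · rw [← hπdef, hg]
        exact hmem _ a.2
      · rw [← hπdef, hg]
        exact fun h => ha (Subtype.ext h)) σ (by
      intro a
      show (χw : PSU 3 K q → ℂ) ((σ a : A) : PSU 3 K q) = (χw : PSU 3 K q → ℂ) a
      rw [hσ, hcl]) (by
      intro a ha
      by_contra ha1
      apply hnC
      rw [hC]
      have h2 : n * (a : PSU 3 K q) * n⁻¹ = a := by rw [← hσ, ha]
      have h3 : Commute (a : PSU 3 K q) n := (mul_inv_eq_iff_eq_mul.1 h2).symm
      have h4 := hfp a n (hmem _ a.2) (fun h => ha1 (Subtype.ext h)) h3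
      exact mem_centralizer_singleton_iff.2 h4.eq.symm) (u := ⟨u, mem_centralizer_singleton_iff.2 hyu.eq.symm⟩)
      (fun h => hu (congrArg Subtype.val h))
    exact h1
  have hwing : ∀ g : PSU 3 K q, l ∣ orderOf g → (χw : PSU 3 K q → ℂ) g = -1 := by
    intro g hg
    have hg0 : orderOf g ≠ 0 := (orderOf_pos g).ne'
    have hz : orderOf (g ^ (orderOf g / l)) = l := orderOf_pow_orderOf_div hg0 hg
    obtain ⟨Q, hQ⟩ := (IsPGroup.of_card (p := l) (n := 1) (by
      rw [Nat.card_zpowers, hz, pow_one]) : IsPGroup l (zpowers (g ^ (orderOf g / l)))).exists_le_sylow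
    obtain ⟨c, hc⟩ := MulAction.exists_smul_eq (PSU 3 K q) Q P
    have h1 : c * (g ^ (orderOf g / l)) * c⁻¹ ∈ P := by
      rw [← hc]
      have h2 : g ^ (orderOf g / l) ∈ Q := hQ (mem_zpowers _)
      have h3 : MulAut.conj c • (g ^ (orderOf g / l)) ∈ (MulAut.conj c • (Q : Subgroup (PSU 3 K q))) :=
        Subgroup.smul_mem_pointwise_smul _ _ _ h2
      exact h3
    rw [← hcl c g]
    refine hkey _ h1 ?_ _ ?_ ?_
    · have h2 := orderOf_injective (MulAut.conj c).toMonoidHom (MulAut.conj c).injective (g ^ (orderOf g / l))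
      rw [hz] at h2
      exact h2
    · rw [← conj_pow]
      exact (Commute.refl _).pow_left _
    · intro h
      have h2 : g = 1 := by
        have h3 : c * g = c := by
          rw [← mul_inv_eq_one, h]
        exact mul_eq_left.1 h3
      rw [h2, orderOf_one] at hg
      exact hl.one_lt.ne' (Nat.dvd_one.1 hg)
  have hw1 : (χw : PSU 3 K q → ℂ) ≠ 1 := by
    intro h
    have h1 := hwing y₀ (by rw [hy₀'])
    rw [h, Pi.one_apply] at h1
    norm_num at h1
  have hws : χw ≠ χs := by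
    rintro rfl
    rw [hw] at hs
    have h1 : ((q ^ 2 : ℕ) : ℂ) = ((q ^ 3 + q : ℕ) : ℂ) := by
      push_cast
      linear_combination hs
    have h2 : q ^ 2 = q ^ 3 + q := by exact_mod_cast h1
    have h3 : q ^ 2 ≤ q ^ 3 := Nat.pow_le_pow_right (by omega) (by norm_num)
    omega
  obtain ⟨ψ, hψ, hψ1⟩ := exists_third P hcyc hlG hl5 he3 χs hs1 hsing χw hw1 hws hwing
    (d := (q + 1) ^ 2 * (q - 1)) (Nat.mul_pos (by positivity) (by omega)) (by
      rw [hs, hw]
      have h1 : 1 ≤ q := by omega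
      push_cast [Nat.cast_sub h1]
      ring)
  exact ⟨ψ, hψ, hψ1⟩

/-- arithmetic of `q ^ 2 - q + 1` -/
theorem exists_cofactor {q p : ℕ} (hp : p.Prime) (hpq : p ∣ q + 1) :
    ∃ m, q ^ 2 - q + 1 = Nat.gcd 3 (q + 1) * m ∧ ¬ p ∣ m := by
  have hq2 : q ≤ q ^ 2 := Nat.le_self_pow (by norm_num) q
  by_cases h3 : 3 ∣ q + 1
  · obtain ⟨t, ht⟩ : ∃ t, q = 3 * t + 2 := ⟨q / 3, by omega⟩
    have hg : Nat.gcd 3 (q + 1) = 3 := Nat.gcd_eq_left h3
    refine ⟨3 * (t * (t + 1)) + 1, ?_, ?_⟩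
    · rw [hg, ht]
      zify [show 3 * t + 2 ≤ (3 * t + 2) ^ 2 by rw [← ht]; exact hq2]
      ring
    · intro h
      have h1 : q + 1 = 3 * (t + 1) := by rw [ht]; ring
      rw [h1] at hpq
      have h2 : p ∣ 3 * (t * (t + 1)) := by
        rcases hp.dvd_mul.1 hpq with h4 | h4
        · exact Dvd.dvd.mul_right h4 _
        · exact Dvd.dvd.mul_left (Dvd.dvd.mul_left h4 _) _
      exact hp.one_lt.ne' (Nat.dvd_one.1 ((Nat.dvd_add_right h2).1 h))
  · have hg : Nat.gcd 3 (q + 1) = 1 := (Nat.Prime.coprime_iff_not_dvd Nat.prime_three).2 h3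
    refine ⟨q ^ 2 - q + 1, by rw [hg, one_mul], fun h => ?_⟩
    have h1 : (p : ℤ) ∣ (q : ℤ) ^ 2 - q + 1 := by
      have := Int.natCast_dvd_natCast.2 h
      push_cast [Nat.cast_sub hq2] at this
      exact this
    have h2 : (p : ℤ) ∣ (q : ℤ) + 1 := by exact_mod_cast hpq
    have h4 : (p : ℤ) ∣ 3 := by
      have h5 := dvd_sub h1 (h2.mul_left ((q : ℤ) - 2))
      have h6 : (q : ℤ) ^ 2 - q + 1 - ((q : ℤ) - 2) * ((q : ℤ) + 1) = 3 := by ring
      rw [h6] at h5
      exact h5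
    have h5 : p ∣ 3 := by exact_mod_cast h4
    have h6 : p = 3 := (Nat.prime_dvd_prime_iff_eq hp Nat.prime_three).1 h5
    rw [h6] at hpq
    exact h3 hpq

/-- the order -/
theorem card_psu3 {K : Type} [Field K] [Fintype K] {q : ℕ} (hF : Fintype.card K = q ^ 2) {m : ℕ}
    (hm : q ^ 2 - q + 1 = Nat.gcd 3 (q + 1) * m) :
    Nat.card (PSU 3 K q) = (q + 1) ^ 2 * (q - 1) * (q ^ 3 * m) := by
  have hq2 : q ≤ q ^ 2 := Nat.le_self_pow (by norm_num) q
  have hZc : Nat.card (Subgroup.center (SU 3 K q)) = Nat.gcd 3 (q + 1) := Cfsg.Agent.S0279.result hF 3 le_rfl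
  have h1 : Nat.card (SU 3 K q) = Nat.card (PSU 3 K q) * Nat.card (Subgroup.center (SU 3 K q)) :=
    Subgroup.card_eq_card_quotient_mul_card_subgroup _
  have h3 : q ^ 3 + 1 = (q + 1) * (q ^ 2 - q + 1) := by
    zify [hq2]
    ring
  have h4 : q ^ 2 - 1 = (q + 1) * (q - 1) := by
    have := Nat.sq_sub_sq q 1
    simpa using this
  rw [card_su3' hF, hZc, h3, h4, hm] at h1
  have hg : 0 < Nat.gcd 3 (q + 1) := Nat.gcd_pos_of_pos_left _ (by norm_num)
  apply Nat.eq_of_mul_eq_mul_right hg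
  rw [← h1]
  ring

open Cfsg.Agent.H358.A3

/-- **`PSU_3(q)`: the principal `p`-block, `p ∣ q + 1`, is not a union of `l`-blocks, `l ∣ q ^ 2 - q + 1`** -/
theorem psu3_PQ {K : Type} [Field K] [Fintype K] {q : ℕ} (hF : Fintype.card K = q ^ 2) (hq : 2 < q) {p l : ℕ}
    (hp : p.Prime) (hl : l.Prime) (hl5 : 5 ≤ l) (hd : l ∣ q ^ 2 - q + 1) (hpq : p ∣ q + 1) :
    ¬ PQ p l (PSU 3 K q) := by
  intro hPQ
  obtain ⟨ψ, hψ, h1⟩ := exists_def0 hF hq hl hl5 hd
  obtain ⟨M, hM⟩ := Blocks.ExistsModular.exists_isPModular hl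
  have hMp := Blocks.Local.isPrime_of_isPModular hM
  have h2 : ψ ∈ B0 p (PSU 3 K q) := by
    rw [B0_eq hl hM] at hψ
    refine hPQ M hM (oneC (PSU 3 K q)) ψ hψ ?_
    intro M' hM'
    have hMp' := Blocks.Local.isPrime_of_isPModular hM'
    exact oneC_mem
  obtain ⟨m, hm, hpm⟩ := exists_cofactor hp hpq
  have hcard := card_psu3 hF hm
  have hpG : p ∣ Nat.card (PSU 3 K q) := by
    rw [hcard]
    exact Dvd.dvd.mul_right (Dvd.dvd.mul_right (hpq.trans (dvd_pow_self _ two_ne_zero)) _) _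
  have h3 := H766.PQ.not_defect_zero hp hpG h2
  have hdeg : charDegree (ψ : PSU 3 K q → ℂ) = (q + 1) ^ 2 * (q - 1) := by
    have h4 := Blocks.Basic.irr_one_eq_charDegree ψ.2
    rw [h1] at h4
    exact_mod_cast h4.symm
  have hpq' : ¬ p ∣ q := by
    intro h
    exact hp.one_lt.ne' (Nat.dvd_one.1 ((Nat.dvd_add_right h).1 hpq))
  have hm0 : m ≠ 0 := by
    rintro rfl
    exact hpm (dvd_zero _)
  have hD0 : (q + 1) ^ 2 * (q - 1) ≠ 0 := (Nat.mul_pos (by positivity) (by omega)).ne'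
  have h5 : ¬ p ∣ q ^ 3 * m := by
    intro h
    rcases hp.dvd_mul.1 h with h6 | h6
    · exact hpq' (hp.dvd_of_dvd_pow h6)
    · exact hpm h6
  rw [hdeg, hcard, Nat.factorization_mul hD0 (mul_ne_zero (pow_ne_zero _ (by omega)) hm0), Finsupp.add_apply,
    Nat.factorization_eq_zero_of_not_dvd h5, add_zero] at h3
  exact lt_irrefl _ h3

/-- **`PSU_3(q)`, `p ∣ q + 1`, `l ∣ q ^ 2 - q + 1`** -/
theorem psu3_mix {K : Type} [Field K] [Fintype K] {q : ℕ} (hF : Fintype.card K = q ^ 2) (hq : 2 < q) {p l : ℕ}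
    (hp : p.Prime) (hl : l.Prime) (hl5 : 5 ≤ l) (hd : l ∣ q ^ 2 - q + 1) (hpq : p ∣ q + 1) :
    ¬ Same p l (PSU 3 K q) := fun h => psu3_PQ hF hq hp hl hl5 hd hpq (PQ.of_same hl h)

end Cfsg.Agent.H61.PQ
end

-- part: H766/PQ/Cls
section
set_option linter.all false
open scoped Cfsg.Agent.FastGrp

/-!
# S4612: the classical rows (helper766)
-/

set_option autoImplicit false
set_option linter.unusedSectionVars false

open Cfsg Cfsg.Agent

namespace Cfsg.Agent.H766.PQ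

open Cfsg.Agent.H317.PQ

theorem ncThree : NCThree := by
  intro K _ _ s p q hF hs hp hq hp2 hq3 hps hqs ho hpG hqG
  have hq2 : q ≠ 2 := ne_two_of_order (by norm_num : 0 < 3) ho
  have h5 : 5 ≤ q := by
    have := hq.two_le
    by_contra hcon
    have h4 : q = 4 := by omega
    rw [h4] at hq
    exact absurd hq (by norm_num)
  exact H61.PQ.psu3_mix hF hs hp hq h5 hqs hps

/-- **the classical layer of S4612** -/
theorem classical : NonCore := nonCore ncThree

end Cfsg.Agent.H766.PQ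
end
end
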